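import Groth.Prelude.Def_LefPen
import Groth.Agent.Lib.ProjSpace.Basic
import Mathlib.AlgebraicGeometry.Morphisms.Affine
import Mathlib.AlgebraicGeometry.Morphisms.Separated

/-!
# The ideal sheaf of a hypersurface on the charts
-/

set_option autoImplicit false

universe u

open CategoryTheory CategoryTheory.Limits AlgebraicGeometry TopologicalSpace Opposite

namespace Groth.Agent.Lib.LefPen45.HypSheaf

variable {P : Scheme.{u}}

/-- The contraction to `U` of the multiples of `g` on `W ⊆ U ∩ D`. -/
noncomputable def contr (U D W : P.Opens) (h1 : W ≤ U) (h2 : W ≤ D) (g : Γ(P, D)) :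
    Ideal Γ(P, U) :=
  Ideal.comap (P.presheaf.map (homOfLE h1).op).hom
    (Ideal.span {(P.presheaf.map (homOfLE h2).op).hom g})

theorem contr_congr {U D W W' : P.Opens} (e : W = W') (h1 : W ≤ U) (h2 : W ≤ D) (g : Γ(P, D))
    (h1' : W' ≤ U) (h2' : W' ≤ D) : contr U D W h1 h2 g = contr U D W' h1' h2' g := by
  subst e; rfl

theorem contr_self (D : P.Opens) (g : Γ(P, D)) :
    contr D D D le_rfl le_rfl g = Ideal.span {g} := by
  have e : P.presheaf.map (homOfLE (le_refl D)).op = 𝟙 _ := P.presheaf.map_id (op D)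
  simp only [contr, e, CommRingCat.hom_id, RingHom.id_apply, Ideal.comap_id]

theorem mem_contr_iff {U D W : P.Opens} (h1 : W ≤ U) (h2 : W ≤ D) (g : Γ(P, D)) (x : Γ(P, U)) :
    x ∈ contr U D W h1 h2 g ↔
      P.presheaf.map (homOfLE h1).op x ∈ Ideal.span {P.presheaf.map (homOfLE h2).op g} := Iff.rfl

theorem isAffineHom_ι [P.IsSeparated] (D : P.Opens) (hD : IsAffineOpen D) : IsAffineHom D.ι := by
  haveI : IsAffine (D : Scheme.{u}) := hD
  haveI : IsAffineHom (D.ι ≫ terminal.from P) := isAffineHom_of_isAffine _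
  exact MorphismProperty.of_postcomp (W := @IsAffineHom) (W' := @IsSeparated) D.ι (terminal.from P)
    inferInstance inferInstance

/-- The ideal sheaf of the closure of the zero scheme of `g` in `D`. -/
noncomputable def piece (D : P.Opens) (g : Γ(P, D)) : P.IdealSheafData :=
  (Scheme.IdealSheafData.ofIdealTop (X := (D : Scheme.{u}))
    (Ideal.span {D.topIso.inv.hom g})).map D.ι

theorem ideal_piece [P.IsSeparated] (D : P.Opens) (hD : IsAffineOpen D) (g : Γ(P, D))
    (U : P.affineOpens) :
    (piece D g).ideal U = contr U.1 D (U.1 ⊓ D) inf_le_left inf_le_right g := by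
  haveI := isAffineHom_ι D hD
  rw [piece, Scheme.IdealSheafData.ideal_map_of_isAffineHom, Scheme.IdealSheafData.ofIdealTop_ideal]
  have hW : D.ι ''ᵁ (D.ι ⁻¹ᵁ U.1) = U.1 ⊓ D := by
    rw [Scheme.Hom.image_preimage_eq_opensRange_inf, Scheme.Opens.opensRange_ι, inf_comm]
  rw [← contr_congr hW (hW.le.trans inf_le_left) (hW.le.trans inf_le_right) g inf_le_left inf_le_right,
    contr, Ideal.map_span, Set.image_singleton]
  rw [Scheme.Opens.ι_app, Scheme.Opens.topIso_inv]
  congr 2
  exact congrArg (fun φ : Γ(P, D) ⟶ Γ(P, D.ι ''ᵁ (D.ι ⁻¹ᵁ U.1)) => ({φ.hom g} : Set _))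
    ((P.presheaf.map_comp _ _).symm)

/-- The largest ideal sheaf contained in the family of contractions is that family. -/
theorem ideal_ofIdeals [P.IsSeparated] {ι : Type*} [Finite ι] (D : ι → P.Opens)
    (hD : ∀ i, IsAffineOpen (D i)) (g : ∀ i, Γ(P, D i)) (U : P.affineOpens) :
    (Scheme.IdealSheafData.ofIdeals fun U : P.affineOpens =>
        ⨅ i, contr U.1 (D i) (U.1 ⊓ D i) inf_le_left inf_le_right (g i)).ideal U =
      ⨅ i, contr U.1 (D i) (U.1 ⊓ D i) inf_le_left inf_le_right (g i) := by
  refine le_antisymm (Scheme.IdealSheafData.ideal_ofIdeals_le _ U) ?_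
  have h : (⨅ i, piece (D i) (g i)) ≤ Scheme.IdealSheafData.ofIdeals fun U : P.affineOpens =>
      ⨅ i, contr U.1 (D i) (U.1 ⊓ D i) inf_le_left inf_le_right (g i) := by
    refine Scheme.IdealSheafData.le_ofIdeals_iff.2 fun U => ?_
    rw [Scheme.IdealSheafData.ideal_iInf, iInf_apply]
    exact le_of_eq (iInf_congr fun i => ideal_piece _ (hD i) _ _)
  refine le_trans (le_of_eq ?_) (h U)
  rw [Scheme.IdealSheafData.ideal_iInf, iInf_apply]
  exact (iInf_congr fun i => ideal_piece _ (hD i) _ _).symm

variable {k : Type u} [Field k] {r d : ℕ}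

open LefPen Groth.Agent.Lib.ProjSpace

instance isSeparated_projSpace : (CohB1.ProjSpace r k).IsSeparated :=
  inferInstanceAs (Scheme.IsSeparated (Proj (CohB1.polyGrading r k)))

theorem hypIdeal_ideal (G : Form r k d) (U : (CohB1.ProjSpace r k).affineOpens) :
    (hypIdeal G).ideal U = hypFamily G U :=
  ideal_ofIdeals (fun i => chart r k i) (fun i => Basic.isAffineOpen_basicOpen_X k i)
    (fun i => dehom G i) U

/-- The affine open `D₊(T_j)`. -/
noncomputable abbrev chartAff (k : Type u) [Field k] {r : ℕ} (j : Fin (r + 1)) :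
    (CohB1.ProjSpace r k).affineOpens :=
  ⟨chart r k j, Basic.isAffineOpen_basicOpen_X k j⟩

theorem hypIdeal_chart_le (G : Form r k d) (j : Fin (r + 1)) :
    (hypIdeal G).ideal (chartAff k j) ≤ Ideal.span {dehom G j} := by
  rw [hypIdeal_ideal]
  refine le_trans (iInf_le _ j) (le_of_eq ?_)
  exact (contr_congr (U := chart r k j) (D := chart r k j) (inf_idem (chart r k j)) inf_le_left
    inf_le_right (dehom G j) le_rfl le_rfl).trans (contr_self _ _)

theorem dehom_res (G : Form r k d) (i j : Fin (r + 1)) (W : (CohB1.ProjSpace r k).Opens)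
    (hi : W ≤ chart r k i) (hj : W ≤ chart r k j) :
    (CohB1.ProjSpace r k).presheaf.map (homOfLE hj).op (dehom G j) =
      (CohB1.ProjSpace r k).presheaf.map (homOfLE hj).op
        (Proj.awayToSection (CohB1.polyGrading r k) (MvPolynomial.X j)
          (HomogeneousLocalization.Away.mk (CohB1.polyGrading r k) (X_mem r k j) d
            (MvPolynomial.X i ^ d)
            (SetLike.pow_mem_graded d (X_mem r k i)))) *
      (CohB1.ProjSpace r k).presheaf.map (homOfLE hi).op (dehom G i) := by
  refine Subtype.ext (funext fun x => HomogeneousLocalization.val_injective _ ?_)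
  haveI := x.1.isPrime
  change (Localization.mk G.1 _ : Localization x.1.asHomogeneousIdeal.toIdeal.primeCompl) =
    (_ * _ : HomogeneousLocalization.AtPrime (CohB1.polyGrading r k) x.1.asHomogeneousIdeal.toIdeal).val
  rw [HomogeneousLocalization.val_mul]
  change _ = Localization.mk (MvPolynomial.X i ^ d) _ * Localization.mk G.1 _
  rw [Localization.mk_mul, Localization.mk_eq_mk_iff, Localization.r_iff_exists]
  exact ⟨1, by simp; ring⟩

theorem hypIdeal_chart (G : Form r k d) (j : Fin (r + 1)) :
    (hypIdeal G).ideal (chartAff k j) = Ideal.span {dehom G j} := by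
  refine le_antisymm (hypIdeal_chart_le G j) ?_
  rw [hypIdeal_ideal, Ideal.span_le, Set.singleton_subset_iff]
  refine (Submodule.mem_iInf _).2 fun i => Ideal.mem_comap.2 ?_
  have e := dehom_res G i j (chart r k j ⊓ chart r k i) inf_le_right inf_le_left
  exact Ideal.mem_span_singleton'.2 ⟨_, e.symm⟩

end Groth.Agent.Lib.LefPen45.HypSheaf
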