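import Groth.Agent.Lib.LefPen45.Affine
import Groth.Agent.Lib.LefPen45.HypSheaf
import Groth.Agent.Lib.ProjSub.Closed
import Groth.Agent.Lib.Ideal.Comap

/-!
# Hypersurface sections on the standard charts
-/

set_option autoImplicit false
set_option backward.isDefEq.respectTransparency.types false
set_option linter.style.haveILetI false

universe u

open CategoryTheory CategoryTheory.Limits AlgebraicGeometry TopologicalSpace Opposite MvPolynomial
open LefPen Groth.Agent.Lib.ProjSpace

namespace Groth.Agent.Lib.LefPen45.Chart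

variable (k : Type u) [Field k] {r : ℕ}

/-- Setting `T_j = 1`. -/
noncomputable def dehomJ (j : Fin (r + 1)) :
    MvPolynomial (Fin (r + 1)) k →ₐ[k] MvPolynomial (Fin r) k :=
  aeval (j.insertNth (1 : MvPolynomial (Fin r) k) X)

theorem eval_dehomJ (j : Fin (r + 1)) (a : Fin r → k) (F : MvPolynomial (Fin (r + 1)) k) :
    eval a (dehomJ k j F) = eval (j.insertNth (1 : k) a) F := by
  induction F using MvPolynomial.induction_on with
  | C c => simp [dehomJ]
  | add p q hp hq => simp only [map_add, hp, hq]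
  | mul_X p i hp =>
    simp only [map_mul, hp, eval_X]
    congr 1
    rcases Fin.eq_self_or_eq_succAbove j i with rfl | ⟨m, rfl⟩ <;> simp [dehomJ]

theorem chartEquiv_dehomJ (j : Fin (r + 1)) (F : MvPolynomial (Fin (r + 1)) k) :
    Charts.chartEquiv k j (dehomJ k j F) = Charts.fromPoly k j (Charts.dehom k j F) := by
  induction F using MvPolynomial.induction_on with
  | C c => simp [dehomJ, Charts.dehom, Charts.fromPoly_C]
  | add p q hp hq => simp only [map_add, hp, hq]
  | mul_X p i hp =>
    simp only [map_mul, hp]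
    congr 1
    rcases Fin.eq_self_or_eq_succAbove j i with rfl | ⟨m, rfl⟩
    · simp [dehomJ, Charts.dehom_X_self]
    · simp [dehomJ, Charts.dehom_X_of_ne (Fin.succAbove_ne j m), Charts.fromPoly_X]

theorem chartEquiv_dehomJ_eq_mk (j : Fin (r + 1)) {e : ℕ} {F : MvPolynomial (Fin (r + 1)) k}
    (hF : F ∈ CohB1.polyGrading r k (e • 1)) :
    Charts.chartEquiv k j (dehomJ k j F) =
      HomogeneousLocalization.Away.mk (CohB1.polyGrading r k) (X_mem r k j) e F hF := by
  rw [chartEquiv_dehomJ]
  apply HomogeneousLocalization.val_injective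
  erw [HomogeneousLocalization.Away.val_mk]
  rw [Localization.mk_eq_mk', IsLocalization.eq_mk'_iff_mul_eq, mul_comm]
  simpa using Charts.fromPoly_dehom_of_isHomogeneous j (m := e) (by simpa using hF)

theorem toSpec_appLE (j : Fin (r + 1)) :
    (CohB1.ProjSpace.toSpec r k).appLE ⊤ (chart r k j) le_top =
      (Scheme.ΓSpecIso (CommRingCat.of k)).hom ≫ CommRingCat.ofHom (Charts.constHom k j) ≫
        Proj.awayToSection (CohB1.polyGrading r k) (X j) := by
  let D : (CohB1.ProjSpace r k).Opens := chart r k j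
  let φ : CommRingCat.of k ⟶ Γ(CohB1.ProjSpace r k, D) := CommRingCat.ofHom (Charts.constHom k j) ≫
        Proj.awayToSection (CohB1.polyGrading r k) (X j)
  have h : D.ι ≫ CohB1.ProjSpace.toSpec r k = D.toSpecΓ ≫ Spec.map φ := by
    have hι : D.ι = Proj.basicOpenToSpec (CohB1.polyGrading r k) (X j) ≫ Basic.awayχ k j :=
      (Iso.hom_inv_id_assoc (Proj.basicOpenIsoSpec (CohB1.polyGrading r k) (X j)
        (Charts.X_mem_one j) one_pos) D.ι).symm.trans (congrArg (fun f => f ≫ Basic.awayχ k j)
          (Proj.basicOpenIsoSpec_hom (CohB1.polyGrading r k) (X j) (Charts.X_mem_one j) one_pos))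
    refine (congrArg (fun f => f ≫ CohB1.ProjSpace.toSpec r k) hι).trans ((Category.assoc _ _ _).trans ?_)
    refine (congrArg (Proj.basicOpenToSpec (CohB1.polyGrading r k) (X j) ≫ ·) (Basic.awayχ_toSpec k j)).trans ?_
    exact (Category.assoc _ _ _).trans (congrArg (D.toSpecΓ ≫ ·) (Spec.map_comp _ _).symm)
  have h1 := congrArg (fun f : (D : Scheme.{u}) ⟶ _ => f.appTop) h
  simp only [Scheme.Hom.comp_appTop, Scheme.ΓSpecIso_naturality_assoc, Scheme.Opens.toSpecΓ_appTop,
    Category.assoc] at h1
  have h2 : ((CohB1.ProjSpace.toSpec r k).appLE ⊤ D le_top) ≫ D.topIso.inv =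
      (CohB1.ProjSpace.toSpec r k).appTop ≫ D.ι.appTop := by
    rw [Scheme.Hom.appLE, Scheme.Opens.ι_appTop, Scheme.Opens.topIso_inv]
    refine (Category.assoc _ _ _).trans ?_
    exact congrArg ((CohB1.ProjSpace.toSpec r k).app ⊤ ≫ ·)
      (((CohB1.ProjSpace r k).presheaf.map_comp _ _).symm)
  exact (cancel_mono D.topIso.inv).1 (h2.trans (h1.trans (Category.assoc _ φ _).symm))

variable {X : Scheme.{u}} (i : X ⟶ CohB1.ProjSpace r k)

/-- The functions on the `j`th chart of `X`. -/
@[reducible] def Coord (j : Fin (r + 1)) : Type u := Γ(X, i ⁻¹ᵁ chart r k j)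

/-- The constants. -/
noncomputable def cst (j : Fin (r + 1)) : k →+* Coord k i j :=
  ((Scheme.ΓSpecIso (CommRingCat.of k)).inv ≫
    (i ≫ CohB1.ProjSpace.toSpec r k).appLE ⊤ (i ⁻¹ᵁ chart r k j) le_top).hom

noncomputable instance algebraCoord (j : Fin (r + 1)) : Algebra k (Coord k i j) :=
  (cst k i j).toAlgebra

theorem cst_eq (j : Fin (r + 1)) (c : k) :
    cst k i j c = (i.app (chart r k j)).hom
      ((Proj.awayToSection (CohB1.polyGrading r k) (MvPolynomial.X j)).hom (Charts.constHom k j c)) := by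
  have e : (i ≫ CohB1.ProjSpace.toSpec r k).appLE ⊤ (i ⁻¹ᵁ chart r k j) le_top =
      (CohB1.ProjSpace.toSpec r k).appLE ⊤ (chart r k j) le_top ≫ i.app (chart r k j) := by
    rw [Scheme.Hom.app_eq_appLE, Scheme.Hom.appLE_comp_appLE]
  rw [cst, e, toSpec_appLE]
  exact congrArg (fun x => (i.app (chart r k j)).hom ((Proj.awayToSection (CohB1.polyGrading r k) (MvPolynomial.X j)).hom
    (Charts.constHom k j x))) ((Scheme.ΓSpecIso (CommRingCat.of k)).commRingCatIsoToRingEquiv.apply_symm_apply c)

/-- The coordinates on the `j`th chart. -/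
noncomputable def coords (j : Fin (r + 1)) : MvPolynomial (Fin r) k →ₐ[k] Coord k i j where
  toRingHom := ((i.app (chart r k j)).hom.comp
    (Proj.awayToSection (CohB1.polyGrading r k) (MvPolynomial.X j)).hom).comp
    (Charts.chartEquiv k j).toRingHom
  commutes' c := by
    change (i.app (chart r k j)).hom ((Proj.awayToSection (CohB1.polyGrading r k) (MvPolynomial.X j)).hom
      (Charts.chartEquiv k j (MvPolynomial.C c))) = cst k i j c
    rw [cst_eq, Charts.chartEquiv_C]

theorem coords_dehomJ (j : Fin (r + 1)) {d : ℕ} (G : Form r k d) :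
    coords k i j (dehomJ k j G.1) = i.app (chart r k j) (dehom G j) := by
  change (i.app (chart r k j)).hom ((Proj.awayToSection (CohB1.polyGrading r k) (MvPolynomial.X j)).hom
      (Charts.chartEquiv k j (dehomJ k j G.1))) = _
  rw [chartEquiv_dehomJ_eq_mk k j (e := d) (by simpa using G.2)]
  rfl

variable [IsClosedImmersion i]

theorem coords_surjective (j : Fin (r + 1)) : Function.Surjective (coords k i j) := by
  have h2 : Function.Surjective (Proj.awayToSection (CohB1.polyGrading r k) (MvPolynomial.X j)).hom := by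
    have : IsIso (Proj.awayToSection (CohB1.polyGrading r k) (MvPolynomial.X j)) :=
      (Proj.basicOpenIsoAway (CohB1.polyGrading r k) _ (Charts.X_mem_one j) one_pos).isIso_hom
    exact (ConcreteCategory.bijective_of_isIso (Proj.awayToSection (CohB1.polyGrading r k) (MvPolynomial.X j))).2
  exact ((i.app_surjective (chart r k j) (Basic.isAffineOpen_basicOpen_X k j)).comp h2).comp
    (Charts.chartEquiv k j).surjective

/-- The affine open `X ∩ D₊(T_j)`. -/
noncomputable abbrev chartX [IsAffineHom i] (j : Fin (r + 1)) : X.affineOpens :=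
  ⟨i ⁻¹ᵁ chart r k j, IsAffineOpen.preimage (HypSheaf.chartAff k j).2 i⟩

theorem iSup_chartX : ⨆ j, (chartX k i j).1 = ⊤ := by
  exact (i.preimage_iSup _).symm.trans (congrArg (i ⁻¹ᵁ ·) (Basic.iSup_basicOpen_X_eq_top r k))

theorem secIdeal_chart {d : ℕ} (H : Form r k d) (j : Fin (r + 1)) :
    (secIdeal i ({H} : Set (Form r k d))).ideal (chartX k i j) =
      Ideal.span {coords k i j (dehomJ k j H.1)} := by
  rw [secIdeal, iSup_singleton, Ideal.Comap.ideal_comap i _ (HypSheaf.chartAff k j) (chartX k i j) le_rfl,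
    HypSheaf.hypIdeal_chart, Ideal.map_span, Set.image_singleton, coords_dehomJ, Scheme.Hom.app_eq_appLE]

theorem locally_coord {n : ℕ} [SmoothOfRelativeDimension n (i ≫ CohB1.ProjSpace.toSpec r k)]
    (j : Fin (r + 1)) :
    RingHom.Locally (RingHom.IsStandardSmoothOfRelativeDimension n) (algebraMap k (Coord k i j)) := by
  have h := (HasRingHomProperty.iff_appLE (P := @SmoothOfRelativeDimension n)).1
    (inferInstance : SmoothOfRelativeDimension n (i ≫ CohB1.ProjSpace.toSpec r k))
    ⟨⊤, isAffineOpen_top _⟩ (chartX k i j) le_top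
  exact ((RingHom.locally_respectsIso RingHom.isStandardSmoothOfRelativeDimension_respectsIso).cancel_left_isIso
    (Scheme.ΓSpecIso (CommRingCat.of k)).inv _).2 h

/-- The points of the `j`th chart of `X`. -/
def chartPts (j : Fin (r + 1)) : Set (Fin r → k) :=
  {a | RingHom.ker (coords k i j) ≤ RingHom.ker (eval a)}

/-- **Transversality on the charts.** -/
theorem transversal_iff [IsAlgClosed k] {n : ℕ} (hn : 1 ≤ n)
    [SmoothOfRelativeDimension n (i ≫ CohB1.ProjSpace.toSpec r k)] {d : ℕ} (H : Form r k d) :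
    Transversal k n 1 (secToSpec i ({H} : Set (Form r k d))) ↔
      ∀ j, ∀ a ∈ chartPts k i j, eval a (dehomJ k j H.1) = 0 →
        ∃ w ∈ Affine.Tan (RingHom.ker (coords k i j)) a, Affine.dd a w (dehomJ k j H.1) ≠ 0 := by
  set I := secIdeal i ({H} : Set (Form r k d))
  let U : Fin (r + 1) → (Sec i ({H} : Set (Form r k d))).affineOpens := fun j =>
    ⟨I.subschemeι ⁻¹ᵁ (chartX k i j).1, (chartX k i j).2.preimage I.subschemeι⟩
  have hU : ⨆ j, ((U j).1 : Opens _) = ⊤ := by
    change ⨆ j, I.subschemeι ⁻¹ᵁ (chartX k i j).1 = ⊤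
    rw [← Scheme.Hom.preimage_iSup, iSup_chartX, Scheme.Hom.preimage_top]
  have key : ∀ j, RingHom.Locally (RingHom.IsStandardSmoothOfRelativeDimension (n - 1))
        ((secToSpec i ({H} : Set (Form r k d))).appLE ⊤ (U j).1 le_top).hom ↔
      ∀ a ∈ chartPts k i j, eval a (dehomJ k j H.1) = 0 →
        ∃ w ∈ Affine.Tan (RingHom.ker (coords k i j)) a, Affine.dd a w (dehomJ k j H.1) ≠ 0 := by
    intro j
    have hresp := RingHom.locally_respectsIso
      (RingHom.isStandardSmoothOfRelativeDimension_respectsIso (n := n - 1))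
    refine Iff.trans ?_ (Affine.locally_iff hn (coords k i j) (coords_surjective k i j)
      (locally_coord k i j) (dehomJ k j H.1))
    have hI : I.ideal (chartX k i j) = Ideal.span {coords k i j (dehomJ k j H.1)} :=
      secIdeal_chart k i H j
    let e : Γ(Sec i ({H} : Set (Form r k d)), (U j).1) ≅
        CommRingCat.of (Coord k i j ⧸ Ideal.span {coords k i j (dehomJ k j H.1)}) :=
      I.subschemeObjIso (chartX k i j) ≪≫ (Ideal.quotEquivOfEq hI).toCommRingCatIso
    refine (((hresp.cancel_left_isIso (Scheme.ΓSpecIso (CommRingCat.of k)).inv _).symm).trans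
      (hresp.cancel_right_isIso _ e.hom).symm).trans (Iff.of_eq (congrArg _ ?_))
    have e1 : (secToSpec i ({H} : Set (Form r k d))).appLE ⊤ (U j).1 le_top =
        (i ≫ CohB1.ProjSpace.toSpec r k).appLE ⊤ (chartX k i j).1 le_top ≫
          I.subschemeι.app (chartX k i j).1 := by
      rw [Scheme.Hom.app_eq_appLE, Scheme.Hom.appLE_comp_appLE]
    rw [e1, I.subschemeι_app]
    ext c
    change Ideal.quotEquivOfEq hI ((I.subschemeObjIso (chartX k i j)).hom.hom
      ((I.subschemeObjIso (chartX k i j)).inv.hom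
        (Ideal.Quotient.mk (I.ideal (chartX k i j)) (cst k i j c)))) = _
    rw [show (I.subschemeObjIso (chartX k i j)).hom.hom ((I.subschemeObjIso (chartX k i j)).inv.hom
        (Ideal.Quotient.mk (I.ideal (chartX k i j)) (cst k i j c))) =
        Ideal.Quotient.mk (I.ideal (chartX k i j)) (cst k i j c) from
      (I.subschemeObjIso (chartX k i j)).commRingCatIsoToRingEquiv.apply_symm_apply _]
    rfl
  refine ⟨fun h j => (key j).1 ?_, fun h => Or.inl ⟨hn, ?_⟩⟩
  · rcases h with ⟨-, h⟩ | ⟨h, -⟩
    · exact (HasRingHomProperty.iff_of_iSup_eq_top (P := @SmoothOfRelativeDimension (n - 1)) U hU).1 h j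
    · omega
  · exact (HasRingHomProperty.iff_of_iSup_eq_top (P := @SmoothOfRelativeDimension (n - 1)) U hU).2
      fun j => (key j).2 (h j)

end Groth.Agent.Lib.LefPen45.Chart
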