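import Groth.Agent.Lib.LefPen45.Chart
import Mathlib.RingTheory.RingHom.Smooth
import Mathlib.AlgebraicGeometry.Morphisms.Smooth
import Mathlib.RingTheory.Smooth.Basic
import Mathlib.FieldTheory.IsAlgClosed.AlgebraicClosure
import Mathlib.Algebra.Polynomial.Derivative

/-!
# Smoothness of the short Weierstrass cubic
-/

set_option autoImplicit false
set_option backward.isDefEq.respectTransparency.types false
set_option linter.style.haveILetI false

universe u

open CategoryTheory CategoryTheory.Limits AlgebraicGeometry TopologicalSpace Opposite MvPolynomial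
open LefPen Groth.Agent.Lib.ProjSpace Groth.Agent.Lib.LefPen45.Chart

namespace Groth.Agent.Lib.LefPen45.ShortWeierstrass

variable {k : Type u} [Field k]

/-- The Jacobian criterion for an affine hypersurface. -/
theorem formallySmooth_of_noSingular {r : ℕ} (g : MvPolynomial (Fin r) k)
    (h : ∀ (K : Type u) [Field K] [Algebra k K] (v : Fin r → K), aeval v g = 0 →
      ∃ i, aeval v (pderiv i g) ≠ 0) :
    Algebra.FormallySmooth k (MvPolynomial (Fin r) k ⧸ Ideal.span {g}) := by
  let A := MvPolynomial (Fin r) k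
  set I : Ideal A := Ideal.span {g}
  let J : Ideal A := I ⊔ Ideal.span (Set.range fun i => pderiv i g)
  have hJ : J = ⊤ := by
    by_contra hne
    obtain ⟨M, hM, hle⟩ := Ideal.exists_le_maximal J hne
    letI := Ideal.Quotient.field M
    let v : Fin r → A ⧸ M := fun i => Ideal.Quotient.mkₐ k M (X i)
    have hv : ∀ p, aeval v p = Ideal.Quotient.mkₐ k M p := fun p =>
      (congrArg (fun φ : A →ₐ[k] A ⧸ M => φ p) (MvPolynomial.aeval_unique (Ideal.Quotient.mkₐ k M))).symm
    obtain ⟨i, hi⟩ := h (A ⧸ M) v (by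
      rw [hv]
      exact Ideal.Quotient.eq_zero_iff_mem.mpr (hle (Ideal.mem_sup_left (Ideal.mem_span_singleton_self _))))
    rw [hv] at hi
    exact hi (Ideal.Quotient.eq_zero_iff_mem.mpr
      (hle (Ideal.mem_sup_right (Ideal.subset_span ⟨i, rfl⟩))))
  obtain ⟨z, hz, w, hw, hzw⟩ := Submodule.mem_sup.1 ((Ideal.eq_top_iff_one J).1 hJ)
  obtain ⟨c, hc⟩ := (Ideal.mem_span_range_iff_exists_fun).mp hw
  let φ : Ω[A⁄k] →ₗ[A] A := ∑ i, c i • (pderiv i).liftKaehlerDifferential
  have hzφ : φ (KaehlerDifferential.D k A g) = 1 - z := by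
    rw [← hzw]
    simp only [φ, LinearMap.sum_apply, LinearMap.smul_apply, smul_eq_mul]
    rw [Finset.sum_congr rfl fun i _ => congrArg (c i * ·)
      (Derivation.liftKaehlerDifferential_comp_D (pderiv i) g), hc]
    ring
  have hsurj : Function.Surjective (algebraMap A (A ⧸ I)) := Ideal.Quotient.mk_surjective
  rw [Algebra.FormallySmooth.iff_split_injection hsurj]
  let K := RingHom.ker (algebraMap A (A ⧸ I))
  have hK : ∀ z, z ∈ K ↔ z ∈ I := fun z => Ideal.Quotient.eq_zero_iff_mem
  have hh : g ∈ K := (hK _).mpr (Ideal.mem_span_singleton_self _)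
  let cls : K.Cotangent := K.toCotangent ⟨g, hh⟩
  have hkill : ∀ z ∈ K, ∀ q : K.Cotangent, z • q = 0 := fun z hz q => by
    obtain ⟨⟨y, hy⟩, rfl⟩ := K.toCotangent_surjective q
    rw [← map_smul, Ideal.toCotangent_eq_zero]
    exact (pow_two K).symm ▸ Ideal.mul_mem_mul hz hy
  let l0 : Ω[A⁄k] →ₗ[A] K.Cotangent := (LinearMap.toSpanSingleton A _ cls).comp φ
  let bil : (A ⧸ I) →ₗ[A] Ω[A⁄k] →ₗ[A] K.Cotangent :=
    Submodule.liftQ I (LinearMap.toSpanSingleton A _ l0) fun z hz => by
      rw [LinearMap.mem_ker]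
      exact LinearMap.ext fun m => hkill z ((hK z).mpr hz) (l0 m)
  refine ⟨TensorProduct.lift bil, LinearMap.ext fun q => ?_⟩
  obtain ⟨⟨y, hy⟩, rfl⟩ := K.toCotangent_surjective q
  obtain ⟨c', rfl⟩ := Ideal.mem_span_singleton'.mp ((hK y).mp hy)
  rw [LinearMap.comp_apply, KaehlerDifferential.kerCotangentToTensor_toCotangent, TensorProduct.lift.tmul,
    LinearMap.id_apply]
  show (bil (Submodule.Quotient.mk 1)) (KaehlerDifferential.D k A (c' * g)) = _
  rw [Submodule.liftQ_apply, LinearMap.toSpanSingleton_apply, one_smul, Derivation.leibniz, map_add,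
    map_smul, map_smul, hkill _ hh, add_zero]
  simp only [l0, LinearMap.comp_apply, LinearMap.toSpanSingleton_apply]
  have h1 : φ (KaehlerDifferential.D k A g) • cls = cls := by
    rw [hzφ, sub_smul, one_smul, hkill z ((hK z).mpr hz), sub_zero]
  rw [h1, ← map_smul]
  rfl

/-- The short Weierstrass cubic `Y²Z − X³ − aXZ² + bZ³`. -/
noncomputable def cubic (a b : k) : MvPolynomial (Fin 3) k :=
  X 1 ^ 2 * X 2 - X 0 ^ 3 - C a * X 0 * X 2 ^ 2 + C b * X 2 ^ 3

theorem disc_identity {K : Type*} [CommRing K] (A B t : K) (h0 : t ^ 3 + A * t - B = 0)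
    (h1 : 3 * t ^ 2 + A = 0) : 4 * A ^ 3 + 27 * B ^ 2 = 0 := by
  linear_combination (6 * A * t ^ 2 + 9 * B * t + 4 * A ^ 2) * h1 - (18 * A * t + 27 * B) * h0

theorem dehom0 (a b : k) : dehomJ k (0 : Fin 3) (cubic a b) =
    X 0 ^ 2 * X 1 - 1 ^ 3 - C a * 1 * X 1 ^ 2 + C b * X 1 ^ 3 := by
  simp only [dehomJ, cubic, map_add, map_sub, map_mul, map_pow, aeval_X, aeval_C, MvPolynomial.algebraMap_eq]
  rfl

theorem dehom1 (a b : k) : dehomJ k (1 : Fin 3) (cubic a b) =
    1 ^ 2 * X 1 - X 0 ^ 3 - C a * X 0 * X 1 ^ 2 + C b * X 1 ^ 3 := by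
  simp only [dehomJ, cubic, map_add, map_sub, map_mul, map_pow, aeval_X, aeval_C, MvPolynomial.algebraMap_eq]
  rfl

theorem dehom2 (a b : k) : dehomJ k (2 : Fin 3) (cubic a b) =
    X 1 ^ 2 * 1 - X 0 ^ 3 - C a * X 0 * 1 ^ 2 + C b * 1 ^ 3 := by
  simp only [dehomJ, cubic, map_add, map_sub, map_mul, map_pow, aeval_X, aeval_C, MvPolynomial.algebraMap_eq]
  rfl

/-- No singular point on any chart when the discriminant is nonzero. -/
theorem noSingular (h2 : (2 : k) ≠ 0) {a b : k} (hD : 4 * a ^ 3 + 27 * b ^ 2 ≠ 0) (j : Fin 3)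
    (K : Type u) [Field K] [Algebra k K] (v : Fin 2 → K)
    (hv : aeval v (dehomJ k j (cubic a b)) = 0) :
    ∃ i, aeval v (pderiv i (dehomJ k j (cubic a b))) ≠ 0 := by
  by_contra! hall
  have h2' : (2 : K) ≠ 0 := by
    rw [← map_ofNat (algebraMap k K) 2]
    exact fun h => h2 ((algebraMap k K).injective (h.trans (map_zero _).symm))
  have hD' : 4 * algebraMap k K a ^ 3 + 27 * algebraMap k K b ^ 2 ≠ 0 := fun h => hD
    ((algebraMap k K).injective (by simpa [map_ofNat] using h))
  set A := algebraMap k K a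
  set B := algebraMap k K b
  have key : ∀ x y z : K, y ^ 2 * z - x ^ 3 - A * x * z ^ 2 + B * z ^ 3 = 0 →
      -3 * x ^ 2 - A * z ^ 2 = 0 → 2 * y * z = 0 → y ^ 2 - 2 * A * x * z + 3 * B * z ^ 2 = 0 →
      x = 0 ∧ y = 0 ∧ z = 0 := by
    intro x y z hF hx hy hz
    by_cases hz0 : z = 0
    · subst hz0
      have hx0 : x = 0 := pow_eq_zero_iff three_ne_zero |>.mp (by linear_combination -hF)
      subst hx0
      exact ⟨rfl, pow_eq_zero_iff two_ne_zero |>.mp (by linear_combination hz), rfl⟩
    · exfalso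
      have hy0 : y = 0 := by
        rcases mul_eq_zero.mp hy with h | h
        · exact (mul_eq_zero.mp h).resolve_left h2'
        · exact absurd h hz0
      subst hy0
      refine hD' (disc_identity A B (x / z) ?_ ?_)
      · field_simp
        linear_combination -hF
      · field_simp
        linear_combination -hx
  have e0 := hall 0
  have e1 := hall 1
  fin_cases j
  · change aeval v (dehomJ k (0 : Fin 3) (cubic a b)) = 0 at hv
    change aeval v (pderiv 0 (dehomJ k (0 : Fin 3) (cubic a b))) = 0 at e0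
    change aeval v (pderiv 1 (dehomJ k (0 : Fin 3) (cubic a b))) = 0 at e1
    rw [dehom0] at hv e0 e1
    simp [pderiv_pow, pderiv_X, -mul_eq_zero] at hv e0 e1
    have := key 1 (v 0) (v 1) (by linear_combination hv) (by
      linear_combination 3 * hv - (v 0) * e0 - (v 1) * e1) (by linear_combination e0)
      (by linear_combination e1)
    exact one_ne_zero this.1
  · change aeval v (dehomJ k (1 : Fin 3) (cubic a b)) = 0 at hv
    change aeval v (pderiv 0 (dehomJ k (1 : Fin 3) (cubic a b))) = 0 at e0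
    change aeval v (pderiv 1 (dehomJ k (1 : Fin 3) (cubic a b))) = 0 at e1
    rw [dehom1] at hv e0 e1
    simp [pderiv_pow, pderiv_X, -mul_eq_zero] at hv e0 e1
    have := key (v 0) 1 (v 1) (by linear_combination hv) (by linear_combination e0) (by
      linear_combination 3 * hv - (v 0) * e0 - (v 1) * e1) (by linear_combination e1)
    exact one_ne_zero this.2.1
  · change aeval v (dehomJ k (2 : Fin 3) (cubic a b)) = 0 at hv
    change aeval v (pderiv 0 (dehomJ k (2 : Fin 3) (cubic a b))) = 0 at e0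
    change aeval v (pderiv 1 (dehomJ k (2 : Fin 3) (cubic a b))) = 0 at e1
    rw [dehom2] at hv e0 e1
    simp [pderiv_pow, pderiv_X, -mul_eq_zero] at hv e0 e1
    have := key (v 0) (v 1) 1 (by linear_combination hv) (by linear_combination e0)
      (by linear_combination e1) (by linear_combination 3 * hv - (v 0) * e0 - (v 1) * e1)
    exact one_ne_zero this.2.2

/-- A singular point of the finite chart obstructs formal smoothness. -/
theorem not_formallySmooth {a b : k} (hD : 4 * a ^ 3 + 27 * b ^ 2 = 0) (h2 : (2 : k) ≠ 0) :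
    ¬ Algebra.FormallySmooth k
      (MvPolynomial (Fin 2) k ⧸ Ideal.span {dehomJ k (2 : Fin 3) (cubic a b)}) := by
  intro hsm
  let K := AlgebraicClosure k
  set A := algebraMap k K a
  set B := algebraMap k K b
  have hD' : 4 * A ^ 3 + 27 * B ^ 2 = 0 := by
    have := congrArg (algebraMap k K) hD
    simpa [map_ofNat] using this
  have h2' : (2 : K) ≠ 0 := by
    rw [← map_ofNat (algebraMap k K) 2]
    exact fun h => h2 ((algebraMap k K).injective (h.trans (map_zero _).symm))
  obtain ⟨t, ht0, ht1⟩ : ∃ t : K, t ^ 3 + A * t - B = 0 ∧ 3 * t ^ 2 + A = 0 := by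
    by_cases h3 : (3 : K) = 0
    · have hA : A = 0 := by
        have h4 : (4 : K) ≠ 0 := by
          rw [show (4 : K) = 2 * 2 by norm_num]; exact mul_ne_zero h2' h2'
        refine pow_eq_zero_iff three_ne_zero |>.mp ?_
        refine (mul_eq_zero.mp (?_ : 4 * A ^ 3 = 0)).resolve_left h4
        linear_combination hD' - 9 * B ^ 2 * h3
      obtain ⟨t, ht⟩ := IsAlgClosed.exists_pow_nat_eq B (n := 3) (by norm_num)
      exact ⟨t, by rw [hA]; linear_combination ht, by rw [hA]; linear_combination t ^ 2 * h3⟩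
    · by_cases hA : A = 0
      · refine ⟨0, ?_, by rw [hA]; ring⟩
        have : B = 0 := by
          refine pow_eq_zero_iff two_ne_zero |>.mp ?_
          refine (mul_eq_zero.mp (?_ : 27 * B ^ 2 = 0)).resolve_left ?_
          · linear_combination hD' - 4 * A ^ 2 * hA
          · rw [show (27 : K) = 3 ^ 3 by norm_num]; exact pow_ne_zero 3 h3
        rw [hA, this]; ring
      · obtain ⟨t, ht⟩ : ∃ t, t * (2 * A) = 3 * B :=
          ⟨3 * B / (2 * A), div_mul_cancel₀ _ (mul_ne_zero h2' hA)⟩
        have hne : 2 * A ≠ 0 := mul_ne_zero h2' hA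
        refine ⟨t, ?_, ?_⟩
        · refine (mul_eq_zero.mp (?_ : (t ^ 3 + A * t - B) * (2 * A) ^ 3 = 0)).resolve_right
            (pow_ne_zero 3 hne)
          linear_combination B * hD' + ((t * (2 * A)) ^ 2 + t * (2 * A) * (3 * B) + 9 * B ^ 2 + 4 * A ^ 3) * ht
        · refine (mul_eq_zero.mp (?_ : (3 * t ^ 2 + A) * (2 * A) ^ 2 = 0)).resolve_right
            (pow_ne_zero 2 hne)
          linear_combination hD' + 3 * (t * (2 * A) + 3 * B) * ht
  let I : Ideal (Polynomial K) := Ideal.span {Polynomial.X ^ 3}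
  let q : Polynomial K →ₐ[k] Polynomial K ⧸ I := Ideal.Quotient.mkₐ k I
  let T : Polynomial K ⧸ I := q Polynomial.X
  let c : Polynomial K ⧸ I := q (Polynomial.C t)
  have hT3 : T ^ 3 = 0 := by
    rw [← map_pow]
    exact Ideal.Quotient.eq_zero_iff_mem.mpr (Ideal.mem_span_singleton_self _)
  let N : Ideal (Polynomial K ⧸ I) := Ideal.span {T ^ 2}
  have hN : IsNilpotent N := ⟨2, by
    rw [Ideal.span_singleton_pow, ← pow_mul, show T ^ (2 * 2) = T ^ 3 * T by ring, hT3, zero_mul,
      Ideal.span_singleton_eq_bot.mpr rfl]; rfl⟩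
  have hc0 : c ^ 3 + q (Polynomial.C A) * c - q (Polynomial.C B) = 0 := by
    rw [← map_pow, ← map_mul, ← map_add, ← map_sub]
    simp only [← Polynomial.C_pow, ← Polynomial.C_mul, ← Polynomial.C_add, ← Polynomial.C_sub, ht0]
    rw [map_zero, map_zero]
  have hc1 : 3 * c ^ 2 + q (Polynomial.C A) = 0 := by
    have : q (Polynomial.C (3 * t ^ 2 + A)) = 0 := by rw [ht1, map_zero, map_zero]
    simpa [map_ofNat] using this
  set g := dehomJ k (2 : Fin 3) (cubic a b)
  have hg : ∀ {S : Type u} [CommRing S] [Algebra k S] (w : Fin 2 → S), aeval w g =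
      w 1 ^ 2 - w 0 ^ 3 - algebraMap k S a * w 0 + algebraMap k S b := by
    intro S _ _ w
    rw [show g = _ from dehom2 a b]
    simp
  have hqA : algebraMap k (Polynomial K ⧸ I) a = q (Polynomial.C A) := rfl
  have hqB : algebraMap k (Polynomial K ⧸ I) b = q (Polynomial.C B) := rfl
  let φ : MvPolynomial (Fin 2) k →ₐ[k] (Polynomial K ⧸ I) ⧸ N :=
    (Ideal.Quotient.mkₐ k N).comp (aeval ![c, T])
  obtain ⟨ψ, hψ⟩ := Algebra.FormallySmooth.exists_lift N hN
    (Ideal.Quotient.liftₐ (Ideal.span {g}) φ (fun p hp => by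
      obtain ⟨r, rfl⟩ := Ideal.mem_span_singleton'.mp hp
      rw [map_mul]
      suffices h0 : φ g = 0 by rw [h0]; exact mul_zero (φ r)
      change Ideal.Quotient.mk N (aeval ![c, T] g) = 0
      refine Ideal.Quotient.eq_zero_iff_mem.mpr ?_
      rw [hg, hqA, hqB]
      refine Ideal.mem_span_singleton'.mpr ⟨1, ?_⟩
      simp only [Matrix.cons_val_zero, Matrix.cons_val_one]
      linear_combination hc0))
  let π : MvPolynomial (Fin 2) k →ₐ[k] MvPolynomial (Fin 2) k ⧸ Ideal.span {g} := Ideal.Quotient.mkₐ k _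
  let w : Fin 2 → Polynomial K ⧸ I := fun i => ψ (π (X i))
  have hw : aeval w g = 0 := by
    rw [show (aeval w : MvPolynomial (Fin 2) k →ₐ[k] _) = ψ.comp π from (MvPolynomial.aeval_unique (ψ.comp π)).symm, AlgHom.comp_apply]
    rw [show π g = 0 from Ideal.Quotient.eq_zero_iff_mem.mpr (Ideal.mem_span_singleton_self _), map_zero]
  have hmod : ∀ i, ∃ u, w i = ![c, T] i + u * T ^ 2 := by
    intro i
    have h1 := AlgHom.congr_fun hψ (π (X i))
    have h2 : Ideal.Quotient.mk N (w i) = Ideal.Quotient.mk N (![c, T] i) := by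
      refine h1.trans ?_
      show φ (X i) = _
      simp [φ]
    obtain ⟨u, hu⟩ := Ideal.mem_span_singleton'.mp (Ideal.Quotient.eq.mp h2)
    exact ⟨u, by rw [hu]; ring⟩
  obtain ⟨u, hu⟩ := hmod 0
  obtain ⟨v, hv⟩ := hmod 1
  rw [hg, hu, hv, hqA, hqB] at hw
  simp only [Matrix.cons_val_zero, Matrix.cons_val_one] at hw
  have hT2 : T ^ 2 = 0 := by
    linear_combination hw + hc0 + u * T ^ 2 * hc1 + (3 * c * u ^ 2 * T + u ^ 3 * T ^ 3 - 2 * v - v ^ 2 * T) * hT3
  rw [← map_pow] at hT2
  have hdvd := Ideal.mem_span_singleton.mp (Ideal.Quotient.eq_zero_iff_mem.mp hT2)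
  have := Polynomial.natDegree_le_of_dvd hdvd (pow_ne_zero 2 Polynomial.X_ne_zero)
  simp at this

/-- Smoothness of a plane curve is tested on the three charts. -/
theorem smooth_iff {r d : ℕ} (G : Form r k d) :
    Smooth ((hypIdeal G).subschemeι ≫ CohB1.ProjSpace.toSpec r k) ↔
      ∀ j, Algebra.FormallySmooth k (MvPolynomial (Fin r) k ⧸ Ideal.span {dehomJ k j G.1}) := by
  set I := hypIdeal G
  set i := I.subschemeι
  let U : Fin (r + 1) → I.subscheme.affineOpens := fun j => chartX k i j
  have hU : ⨆ j, ((U j).1 : Opens _) = ⊤ := iSup_chartX k i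
  have key : ∀ j, ((i ≫ CohB1.ProjSpace.toSpec r k).appLE ⊤ (U j).1 le_top).hom.Smooth ↔
      Algebra.FormallySmooth k (MvPolynomial (Fin r) k ⧸ Ideal.span {dehomJ k j G.1}) := by
    intro j
    have hker : RingHom.ker (coords k i j) = Ideal.span {dehomJ k j G.1} := by
      have hbij : Function.Bijective ((Proj.awayToSection (CohB1.polyGrading r k) (MvPolynomial.X j)).hom) := by
        have : IsIso (Proj.awayToSection (CohB1.polyGrading r k) (MvPolynomial.X j)) :=
          (Proj.basicOpenIsoAway (CohB1.polyGrading r k) _ (Charts.X_mem_one j) one_pos).isIso_hom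
        exact ConcreteCategory.bijective_of_isIso (Proj.awayToSection (CohB1.polyGrading r k) (MvPolynomial.X j))
      let e : MvPolynomial (Fin r) k ≃+* Γ(CohB1.ProjSpace r k, chart r k j) :=
        (Charts.chartEquiv k j).trans (RingEquiv.ofBijective _ hbij)
      have he : e (dehomJ k j G.1) = dehom G j := by
        change (Proj.awayToSection (CohB1.polyGrading r k) (MvPolynomial.X j)).hom
          (Charts.chartEquiv k j (dehomJ k j G.1)) = _
        rw [chartEquiv_dehomJ_eq_mk k j (e := d) (by simpa using G.2)]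
        rfl
      have hi : RingHom.ker (i.app (chart r k j)).hom = Ideal.span {dehom G j} := by
        rw [← Scheme.Hom.ker_apply i (HypSheaf.chartAff k j), show i.ker = I from I.ker_subschemeι,
          HypSheaf.hypIdeal_chart]
      ext p
      change (i.app (chart r k j)).hom (e p) = 0 ↔ _
      rw [← RingHom.mem_ker, hi, ← he, Ideal.mem_span_singleton, Ideal.mem_span_singleton,
        map_dvd_iff]
    let E : (MvPolynomial (Fin r) k ⧸ Ideal.span {dehomJ k j G.1}) ≃ₐ[k] Coord k i j :=
      (Ideal.quotientEquivAlgOfEq k hker.symm).trans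
        (Ideal.quotientKerAlgEquivOfSurjective (coords_surjective k i j))
    rw [show (i ≫ CohB1.ProjSpace.toSpec r k).appLE ⊤ (U j).1 le_top =
      (Scheme.ΓSpecIso (CommRingCat.of k)).hom ≫ CommRingCat.ofHom (cst k i j) from
        ((Scheme.ΓSpecIso (CommRingCat.of k)).hom_inv_id_assoc _).symm,
      CommRingCat.hom_comp, RingHom.Smooth.respectsIso.cancel_left_isIso]
    rw [CommRingCat.hom_ofHom, show cst k i j = algebraMap k (Coord k i j) from rfl,
      RingHom.smooth_algebraMap]
    refine ⟨fun h => ?_, fun h => ?_⟩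
    · haveI := h.formallySmooth
      exact Algebra.FormallySmooth.of_equiv E.symm
    · haveI := h
      haveI : Algebra.FinitePresentation k (MvPolynomial (Fin r) k ⧸ Ideal.span {dehomJ k j G.1}) :=
        Algebra.FinitePresentation.quotient (Submodule.fg_span_singleton _)
      exact ⟨Algebra.FormallySmooth.of_equiv E, Algebra.FinitePresentation.equiv E⟩
  constructor
  · intro h j
    exact (key j).1 (HasRingHomProperty.appLE @Smooth _ h ⟨⊤, isAffineOpen_top _⟩ (U j) le_top)
  · intro h
    exact (HasRingHomProperty.iff_of_iSup_eq_top (P := @Smooth) U hU).2 fun j => (key j).2 (h j)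

/-- The criterion. -/
theorem smooth_cubic_iff (h2 : (2 : k) ≠ 0) (a b : k) (W : Form 2 k 3)
    (hW : (W : MvPolynomial (Fin (2 + 1)) k) = cubic a b) :
    Smooth ((hypIdeal W).subschemeι ≫ CohB1.ProjSpace.toSpec 2 k) ↔ 4 * a ^ 3 + 27 * b ^ 2 ≠ 0 := by
  rw [smooth_iff]
  constructor
  · intro h hD
    exact not_formallySmooth hD h2 (hW ▸ h 2)
  · intro hD j
    rw [hW]
    exact formallySmooth_of_noSingular _ fun K _ _ v hv => noSingular h2 hD j K v hv

end Groth.Agent.Lib.LefPen45.ShortWeierstrass
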