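import Mathlib.RingTheory.Smooth.StandardSmoothCotangent
import Mathlib.RingTheory.Smooth.Locus
import Mathlib.RingTheory.Nullstellensatz
import Mathlib.RingTheory.Kaehler.Basic
import Mathlib.Algebra.DualNumber
import Mathlib.Algebra.MvPolynomial.PDeriv
import Mathlib.RingTheory.RingHom.StandardSmooth
import Mathlib.RingTheory.RingHom.Locally
import Mathlib.RingTheory.RingHom.LocallyStandardSmooth

/-!
# Smooth affine varieties: tangent spaces and hypersurface sections

* `Tan I a`: the Zariski tangent space of `V(I) ⊆ k^r` at `a`;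
* `finrank_tan`: it has dimension `n` for a locally standard smooth algebra of relative dimension `n`;
* `locally_iff`: `A/(h)` is smooth of relative dimension `n - 1` iff `dh` vanishes on no tangent space
  at a zero of `h`.
-/

set_option autoImplicit false
set_option backward.isDefEq.respectTransparency.types false
set_option linter.style.haveILetI false

universe u

open MvPolynomial KaehlerDifferential
open scoped TensorProduct

namespace Groth.Agent.Lib.LefPen45.Affine

variable {k : Type u} [Field k] {σ : Type} [Fintype σ]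

/-- The directional derivative. -/
noncomputable def dd (a w : σ → k) (p : MvPolynomial σ k) : k :=
  ∑ i, w i * eval a (pderiv i p)

/-- The Zariski tangent space. -/
noncomputable def Tan (I : Ideal (MvPolynomial σ k)) (a : σ → k) : Submodule k (σ → k) where
  carrier := {w | ∀ p ∈ I, dd a w p = 0}
  zero_mem' p _ := by simp [dd]
  add_mem' {w w'} hw hw' p hp := by
    simp only [dd, Pi.add_apply, add_mul, Finset.sum_add_distrib]
    exact (congrArg₂ (· + ·) (hw p hp) (hw' p hp)).trans (add_zero 0)
  smul_mem' c w hw p hp := by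
    simp only [dd, Pi.smul_apply, smul_eq_mul, mul_assoc, ← Finset.mul_sum]
    exact mul_eq_zero_of_right c (hw p hp)

/-- The homomorphism to dual numbers of a tangent vector. -/
noncomputable def dualHom (a w : σ → k) : MvPolynomial σ k →ₐ[k] DualNumber k :=
  aeval fun i => TrivSqZeroExt.inl (a i) + TrivSqZeroExt.inr (w i)

theorem dualHom_fst (a w : σ → k) (p : MvPolynomial σ k) :
    TrivSqZeroExt.fst (dualHom a w p) = eval a p := by
  induction p using MvPolynomial.induction_on with
  | C c => simp [dualHom, TrivSqZeroExt.algebraMap_eq_inl]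
  | add p q hp hq => simp only [map_add, TrivSqZeroExt.fst_add, hp, hq]
  | mul_X p i hp => rw [map_mul, TrivSqZeroExt.fst_mul, hp, map_mul]; simp [dualHom]

theorem dd_mul_X (a w : σ → k) (p : MvPolynomial σ k) (i : σ) :
    dd a w (p * X i) = a i * dd a w p + eval a p * w i := by
  classical
  simp only [dd, pderiv_mul, map_add, map_mul, eval_X, mul_add, Finset.sum_add_distrib]
  congr 1
  · rw [Finset.mul_sum]
    exact Finset.sum_congr rfl fun x _ => by ring
  · rw [Finset.sum_eq_single i]
    · rw [pderiv_X_self, map_one]; ring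
    · intro x _ hx
      rw [pderiv_X_of_ne (Ne.symm hx), map_zero, mul_zero, mul_zero]
    · simp

theorem dualHom_snd (a w : σ → k) (p : MvPolynomial σ k) :
    TrivSqZeroExt.snd (dualHom a w p) = dd a w p := by
  induction p using MvPolynomial.induction_on with
  | C c => simp [dualHom, dd, TrivSqZeroExt.algebraMap_eq_inl]
  | add p q hp hq =>
    simp only [map_add, TrivSqZeroExt.snd_add, hp, hq, dd, mul_add, Finset.sum_add_distrib]
  | mul_X p i hp =>
    have hX : dualHom a w (X i) = TrivSqZeroExt.inl (a i) + TrivSqZeroExt.inr (w i) := by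
      simp [dualHom]
    rw [map_mul, TrivSqZeroExt.snd_mul, hp, hX, dualHom_fst, dd_mul_X]
    simp
    ring

section Functional

variable {B : Type u} [CommRing B] [Algebra k B]

/-- A homomorphism to dual numbers gives a functional on differentials. -/
theorem exists_functional (ψ : B →ₐ[k] DualNumber k) :
    ∃ Φ : Ω[B⁄k] →+ k, (∀ (b : B) (ω : Ω[B⁄k]), Φ (b • ω) = TrivSqZeroExt.fst (ψ b) * Φ ω) ∧
      ∀ b, Φ (D k B b) = TrivSqZeroExt.snd (ψ b) := by
  let ε : B →+* k := ((TrivSqZeroExt.fstHom k k k).comp ψ).toRingHom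
  letI : Algebra B k := ε.toAlgebra
  haveI : IsScalarTower k B k := IsScalarTower.of_algebraMap_eq fun c => by
    change c = ε (algebraMap k B c)
    simp [ε, TrivSqZeroExt.algebraMap_eq_inl]
  let δ : Derivation k B k :=
    { toLinearMap := (TrivSqZeroExt.sndHom k k).comp ψ.toLinearMap
      map_one_eq_zero' := by simp
      leibniz' := fun x y => by
        simp [Algebra.smul_def, RingHom.algebraMap_toAlgebra, ε]
        ring }
  exact ⟨δ.liftKaehlerDifferential.toAddMonoidHom, fun b ω => δ.liftKaehlerDifferential.map_smul b ω,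
    fun b => δ.liftKaehlerDifferential_comp_D b⟩

end Functional

variable {A : Type u} [CommRing A] [Algebra k A]

/-- The dimension of the tangent space. -/
theorem finrank_tan (π : MvPolynomial σ k →ₐ[k] A) (hπ : Function.Surjective π) (a : σ → k)
    (ha : RingHom.ker π ≤ RingHom.ker (eval a)) (g : A) (hg : ∀ p, π p = g → eval a p ≠ 0) (n : ℕ)
    [Algebra.IsStandardSmoothOfRelativeDimension n k (Localization.Away g)] :
    Module.finrank k (Tan (RingHom.ker π) a) = n := by
  classical
  let B := Localization.Away g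
  let ι : A →ₐ[k] B := IsScalarTower.toAlgHom k A B
  obtain ⟨g₀, hg₀⟩ := hπ g
  -- tangent vectors as homomorphisms
  have hlift : ∀ w ∈ Tan (RingHom.ker π) a, ∃ ψ : B →ₐ[k] DualNumber k,
      ∀ p, ψ (ι (π p)) = dualHom a w p := by
    intro w hw
    let φ : A →ₐ[k] DualNumber k := (Ideal.Quotient.liftₐ (RingHom.ker π) (dualHom a w) fun p hp =>
      TrivSqZeroExt.ext (by rw [dualHom_fst]; exact ha hp) (by rw [dualHom_snd]; exact hw p hp)).comp
        (Ideal.quotientKerAlgEquivOfSurjective hπ).symm.toAlgHom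
    have hφ : ∀ p, φ (π p) = dualHom a w p := fun p => by
      simp only [φ, AlgHom.comp_apply]
      rw [show (Ideal.quotientKerAlgEquivOfSurjective hπ).symm.toAlgHom (π p) =
        Ideal.Quotient.mk _ p from (AlgEquiv.symm_apply_eq _).2 rfl]
      rfl
    have hu : ∀ y : Submonoid.powers g, IsUnit (φ y) := by
      rintro ⟨_, l, rfl⟩
      rw [map_pow]
      refine IsUnit.pow _ ?_
      rw [← hg₀, hφ, TrivSqZeroExt.isUnit_iff_isUnit_fst, dualHom_fst]
      exact isUnit_iff_ne_zero.2 (hg g₀ hg₀)
    exact ⟨IsLocalization.liftAlgHom hu, fun p => by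
      simp [ι, IsLocalization.liftAlgHom_apply, hφ]⟩
  -- derivations are determined on `A`
  let P := Algebra.IsStandardSmoothOfRelativeDimension.out (n := n) (R := k) (S := B)
  obtain ⟨_, _, _, _, P, hP⟩ := P
  haveI := Fintype.ofFinite (((Set.range P.map)ᶜ : Set _))
  let b := P.basisKaehler
  haveI : Nontrivial B := by
    obtain ⟨ψ, -⟩ := hlift 0 (Submodule.zero_mem _)
    exact ψ.toRingHom.domain_nontrivial
  have hcard : Fintype.card ((Set.range P.map)ᶜ : Set _) = n := by
    rw [← hP, Algebra.Presentation.dimension, ← Nat.card_eq_fintype_card, Nat.card_coe_set_eq,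
      Set.ncard_compl, Set.ncard_range_of_injective P.map_inj]
  obtain ⟨ψ₀, hψ₀⟩ := hlift 0 (Submodule.zero_mem _)
  let ε : B →+* k := ((TrivSqZeroExt.fstHom k k k).comp ψ₀).toRingHom
  have hεA : ∀ p, ε (ι (π p)) = eval a p := fun p => by
    simp [ε, hψ₀, dualHom_fst]
  have hεD : ∀ (Φ : Ω[B⁄k] →+ k), (∀ (x : B) (ω : Ω[B⁄k]), Φ (x • ω) = ε x * Φ ω) →
      (∀ i, Φ (D k B (ι (π (X i)))) = 0) → ∀ x, Φ (D k B x) = 0 := by
    intro Φ hΦ h0
    have hpoly : ∀ p, Φ (D k B (ι (π p))) = 0 := by
      intro p
      induction p using MvPolynomial.induction_on with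
      | C c => rw [← MvPolynomial.algebraMap_eq, AlgHom.commutes, AlgHom.commutes, Derivation.map_algebraMap, map_zero]
      | add p q hp hq => simp only [map_add, hp, hq, add_zero]
      | mul_X p i hp => rw [map_mul, map_mul, Derivation.leibniz, map_add, hΦ, hΦ, hp, h0]; ring
    intro x
    obtain ⟨l, y, hy⟩ := IsLocalization.Away.surj g x
    obtain ⟨p, rfl⟩ := hπ y
    have h := congrArg (fun z => Φ (D k B z)) hy
    rw [show algebraMap A B (π p) = ι (π p) from rfl, hpoly,
      show algebraMap A B g = ι (π g₀) from congrArg (algebraMap A B) hg₀.symm, Derivation.leibniz, map_add, hΦ, hΦ, ← map_pow,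
      ← map_pow, hpoly, mul_zero, zero_add, map_pow, map_pow, map_pow, hεA] at h
    exact (mul_eq_zero.1 h).resolve_left (pow_ne_zero _ (hg g₀ hg₀))
  -- the parametrisation
  let coordAt : (j : ((Set.range P.map)ᶜ : Set _)) → Ω[B⁄k] →+ k := fun j =>
    ε.toAddMonoidHom.comp (b.coord j).toAddMonoidHom
  let W : (((Set.range P.map)ᶜ : Set _) → k) →ₗ[k] (σ → k) :=
    LinearMap.pi fun i => ∑ j, coordAt j (D k B (ι (π (X i)))) • LinearMap.proj j
  let mix : (((Set.range P.map)ᶜ : Set _) → k) → Ω[B⁄k] →+ k := fun c =>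
    ∑ j, (AddMonoidHom.mulLeft (c j)).comp (coordAt j)
  have hmix : ∀ c ω, mix c ω = ∑ j, c j * ε (b.repr ω j) := fun c ω => by
    simp [mix, coordAt, AddMonoidHom.finsetSum_apply]
  have hmixs : ∀ c (x : B) ω, mix c (x • ω) = ε x * mix c ω := fun c x ω => by
    simp only [hmix, map_smul, Finsupp.smul_apply, smul_eq_mul, map_mul, Finset.mul_sum]
    exact Finset.sum_congr rfl fun j _ => by ring
  have hW : ∀ c i, W c i = mix c (D k B (ι (π (X i)))) := fun c i => by
    simp [W, hmix, coordAt, mul_comm]
  have hWp : ∀ c p, mix c (D k B (ι (π p))) = dd a (W c) p := by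
    intro c p
    induction p using MvPolynomial.induction_on with
    | C r =>
      rw [← MvPolynomial.algebraMap_eq, AlgHom.commutes, AlgHom.commutes, Derivation.map_algebraMap, map_zero]
      simp [dd]
    | add p q hp hq =>
      simp only [map_add, hp, hq, dd, mul_add, Finset.sum_add_distrib]
    | mul_X p i hp =>
      rw [map_mul, map_mul, Derivation.leibniz, map_add, hmixs, hmixs, hp, hεA, hεA, ← hW, eval_X,
        dd_mul_X]
      ring
  have hWmem : ∀ c, W c ∈ Tan (RingHom.ker π) a := fun c p hp => by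
    rw [← hWp, show π p = 0 from hp, map_zero, map_zero, map_zero]
  have hWinj : Function.Injective W := by
    rw [← LinearMap.ker_eq_bot, LinearMap.ker_eq_bot']
    intro c hc
    funext j
    have h0 := hεD (mix c) (hmixs c) (fun i => by rw [← hW, hc]; rfl) (P.val j)
    rw [← P.basisKaehler_apply, hmix] at h0
    simp only [b, Module.Basis.repr_self, Finsupp.single_apply, apply_ite ε, map_one, map_zero,
      mul_ite, mul_one, mul_zero, Finset.sum_ite_eq, Finset.mem_univ, if_true] at h0
    exact h0
  have hrange : LinearMap.range W = Tan (RingHom.ker π) a := by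
    refine le_antisymm (by rintro _ ⟨c, rfl⟩; exact hWmem c) fun w hw => ?_
    obtain ⟨ψ, hψ⟩ := hlift w hw
    obtain ⟨Φ, hΦs, hΦD⟩ := exists_functional ψ
    have hfst : ∀ x, TrivSqZeroExt.fst (ψ x) = ε x := by
      have h : ((TrivSqZeroExt.fstHom k k k).comp ψ).toRingHom = ε :=
        IsLocalization.ringHom_ext (Submonoid.powers g) (RingHom.ext fun y => by
          obtain ⟨p, rfl⟩ := hπ y
          change TrivSqZeroExt.fst (ψ (ι (π p))) = ε (ι (π p))
          rw [hψ, dualHom_fst, hεA])
      exact fun x => DFunLike.congr_fun h x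
    refine ⟨fun j => Φ (b j), funext fun i => ?_⟩
    rw [hW, hmix]
    have hsum := congrArg Φ (b.sum_repr (D k B (ι (π (X i)))))
    simp only [map_sum, hΦs, hfst] at hsum
    rw [hΦD, hψ, dualHom_snd] at hsum
    refine (Finset.sum_congr rfl fun j _ => mul_comm _ _).trans (hsum.trans ?_)
    simp [dd, pderiv_X, Pi.single_apply]
  rw [← hrange, LinearMap.finrank_range_of_inj hWinj, Module.finrank_fintype_fun_eq_card, hcard]

/-- A differential not vanishing on the tangent space has a nonvanishing coordinate. -/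
theorem exists_dual [Module.Projective A Ω[A⁄k]] (π : MvPolynomial σ k →ₐ[k] A)
    (hπ : Function.Surjective π) (a : σ → k) (ha : RingHom.ker π ≤ RingHom.ker (eval a))
    (h : MvPolynomial σ k) (hd : ∃ w ∈ Tan (RingHom.ker π) a, dd a w h ≠ 0) :
    ∃ φ : Ω[A⁄k] →ₗ[A] A, ∀ p, π p = φ (D k A (π h)) → eval a p ≠ 0 := by
  classical
  obtain ⟨w, hw, hne⟩ := hd
  let ψ : A →ₐ[k] DualNumber k := (Ideal.Quotient.liftₐ (RingHom.ker π) (dualHom a w) fun p hp =>
    TrivSqZeroExt.ext (by rw [dualHom_fst]; exact ha hp) (by rw [dualHom_snd]; exact hw p hp)).comp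
      (Ideal.quotientKerAlgEquivOfSurjective hπ).symm.toAlgHom
  have hψ : ∀ p, ψ (π p) = dualHom a w p := fun p => by
    simp only [ψ, AlgHom.comp_apply]
    rw [show (Ideal.quotientKerAlgEquivOfSurjective hπ).symm.toAlgHom (π p) =
      Ideal.Quotient.mk _ p from (AlgEquiv.symm_apply_eq _).2 rfl]
    rfl
  obtain ⟨Φ, hΦs, hΦD⟩ := exists_functional ψ
  obtain ⟨s, hs⟩ := Module.projective_def.1 (inferInstance : Module.Projective A Ω[A⁄k])
  set ω := D k A (π h)
  have hexp : ω = ∑ e ∈ (s ω).support, s ω e • e := by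
    conv_lhs => rw [← hs ω, Finsupp.linearCombination_apply, Finsupp.sum]
    rfl
  by_contra hcon
  push Not at hcon
  refine hne ?_
  rw [← dualHom_snd, ← hψ, ← hΦD]
  change Φ ω = 0
  rw [hexp, map_sum]
  refine Finset.sum_eq_zero fun e _ => ?_
  obtain ⟨p, hp, hp0⟩ := hcon ((Finsupp.lapply e).comp s)
  simp only [LinearMap.comp_apply, Finsupp.lapply_apply] at hp
  rw [hΦs, ← hp, hψ, dualHom_fst, hp0, zero_mul]

theorem finrank_tan_of_locally (π : MvPolynomial σ k →ₐ[k] A) (hπ : Function.Surjective π)
    (a : σ → k) (ha : RingHom.ker π ≤ RingHom.ker (eval a)) (n : ℕ)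
    (hA : RingHom.Locally (RingHom.IsStandardSmoothOfRelativeDimension n) (algebraMap k A)) :
    Module.finrank k (Tan (RingHom.ker π) a) = n := by
  obtain ⟨S, hS, hloc⟩ := hA
  obtain ⟨g, hgS, hg⟩ : ∃ g ∈ S, ∃ p, π p = g ∧ eval a p ≠ 0 := by
    by_contra hc
    push Not at hc
    have h1 : (1 : A) ∈ (RingHom.ker (eval a)).map π.toRingHom := by
      have : Ideal.span S ≤ (RingHom.ker (eval a)).map π.toRingHom := Ideal.span_le.2 fun g hg => by
        obtain ⟨p, rfl⟩ := hπ g
        exact Ideal.mem_map_of_mem _ (hc _ hg p rfl)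
      exact this (hS ▸ Submodule.mem_top)
    rw [Ideal.mem_map_iff_of_surjective π.toRingHom hπ] at h1
    obtain ⟨p, hp, hp1⟩ := h1
    have hker : p - 1 ∈ RingHom.ker π := by
      rw [RingHom.mem_ker, map_sub, map_one, show π p = 1 from hp1, sub_self]
    have h2 := ha hker
    rw [RingHom.mem_ker, map_sub, map_one, show eval a p = 0 from hp, zero_sub, neg_eq_zero] at h2
    exact one_ne_zero h2
  have h := hloc g hgS
  rw [show (algebraMap A (Localization.Away g)).comp (algebraMap k A) =
    algebraMap k (Localization.Away g) from (IsScalarTower.algebraMap_eq k A _).symm,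
    RingHom.isStandardSmoothOfRelativeDimension_algebraMap] at h
  obtain ⟨p₀, hp₀, hne⟩ := hg
  exact finrank_tan π hπ a ha g (fun p hp h0 => hne (by
    have hker : p₀ - p ∈ RingHom.ker π := by rw [RingHom.mem_ker, map_sub, hp, hp₀, sub_self]
    have h2 := ha hker
    rw [RingHom.mem_ker, map_sub, h0, sub_zero] at h2
    exact h2)) n

/-- A hypersurface with differential nowhere vanishing on tangent spaces is formally smooth. -/
theorem formallySmooth_quotient [IsAlgClosed k] [Algebra.FormallySmooth k A]
    (π : MvPolynomial σ k →ₐ[k] A) (hπ : Function.Surjective π) (h : MvPolynomial σ k)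
    (hd : ∀ a, RingHom.ker π ≤ RingHom.ker (eval a) → eval a h = 0 →
      ∃ w ∈ Tan (RingHom.ker π) a, dd a w h ≠ 0) :
    Algebra.FormallySmooth k (A ⧸ Ideal.span {π h}) := by
  set I := Ideal.span {π h}
  -- a functional with value one modulo `h`
  let J : Ideal A := I ⊔ LinearMap.range (Module.Dual.eval A (Ω[A⁄k]) (D k A (π h)))
  have hJ : J = ⊤ := by
    by_contra hne
    obtain ⟨M, hM, hle⟩ := Ideal.exists_le_maximal J hne
    have hM' : (M.comap π.toRingHom).IsMaximal := Ideal.comap_isMaximal_of_surjective π.toRingHom hπ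
    obtain ⟨a, ha⟩ := (MvPolynomial.isMaximal_iff_eq_vanishingIdeal_singleton (K := k)).1 hM'
    have hmem : ∀ p, π p ∈ M → eval a p = 0 := fun p hp => by
      have : p ∈ M.comap π.toRingHom := hp
      rw [ha, mem_vanishingIdeal_singleton_iff, aeval_eq_eval] at this
      exact this
    have hker : RingHom.ker π ≤ RingHom.ker (eval a) := fun p hp => hmem p (by
      rw [show π p = 0 from hp]; exact M.zero_mem)
    obtain ⟨φ, hφ⟩ := exists_dual π hπ a hker h (hd a hker (hmem h (hle (Ideal.mem_sup_left
      (Ideal.mem_span_singleton_self _)))))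
    obtain ⟨p, hp⟩ := hπ (φ (D k A (π h)))
    exact hφ p hp (hmem p (hle (Ideal.mem_sup_right ⟨φ, hp.symm ▸ rfl⟩)))
  obtain ⟨z, hz, _, ⟨φ, rfl⟩, hzφ⟩ := Submodule.mem_sup.1 ((Ideal.eq_top_iff_one J).1 hJ)
  have hsurj : Function.Surjective (algebraMap A (A ⧸ I)) := Ideal.Quotient.mk_surjective
  rw [Algebra.FormallySmooth.iff_split_injection hsurj]
  let K := RingHom.ker (algebraMap A (A ⧸ I))
  have hK : ∀ z, z ∈ K ↔ z ∈ I := fun z => Ideal.Quotient.eq_zero_iff_mem
  have hh : π h ∈ K := (hK _).mpr (Ideal.mem_span_singleton_self _)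
  let cls : K.Cotangent := K.toCotangent ⟨π h, hh⟩
  have hkill : ∀ z ∈ K, ∀ q : K.Cotangent, z • q = 0 := fun z hz q => by
    obtain ⟨⟨y, hy⟩, rfl⟩ := K.toCotangent_surjective q
    rw [← map_smul, Ideal.toCotangent_eq_zero]
    exact (pow_two K).symm ▸ Ideal.mul_mem_mul hz hy
  let l0 : Ω[A⁄k] →ₗ[A] K.Cotangent := (LinearMap.toSpanSingleton A _ cls).comp φ
  let bil : (A ⧸ I) →ₗ[A] Ω[A⁄k] →ₗ[A] K.Cotangent :=
    Submodule.liftQ I (LinearMap.toSpanSingleton A _ l0) fun z hz => by
      rw [LinearMap.mem_ker]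
      exact LinearMap.ext fun m => hkill z ((hK z).mpr hz) (l0 m)
  refine ⟨TensorProduct.lift bil, LinearMap.ext fun q => ?_⟩
  obtain ⟨⟨y, hy⟩, rfl⟩ := K.toCotangent_surjective q
  obtain ⟨c, rfl⟩ := Ideal.mem_span_singleton'.mp ((hK y).mp hy)
  rw [LinearMap.comp_apply, kerCotangentToTensor_toCotangent, TensorProduct.lift.tmul,
    LinearMap.id_apply]
  show (bil (Submodule.Quotient.mk 1)) (D k A (c * π h)) = _
  rw [Submodule.liftQ_apply, LinearMap.toSpanSingleton_apply, one_smul, Derivation.leibniz, map_add,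
    map_smul, map_smul, hkill _ hh, add_zero]
  simp only [l0, LinearMap.comp_apply, LinearMap.toSpanSingleton_apply]
  have h1 : φ (D k A (π h)) • cls = cls := by
    have e : φ (D k A (π h)) = 1 - z := by
      rw [← hzφ]; simp
    rw [e, sub_smul, one_smul, hkill z ((hK z).mpr hz), sub_zero]
  rw [h1, ← map_smul]
  rfl

theorem smooth_of_locally (n : ℕ)
    (hA : RingHom.Locally (RingHom.IsStandardSmoothOfRelativeDimension n) (algebraMap k A)) :
    Algebra.Smooth k A := by
  rw [← RingHom.smooth_algebraMap, RingHom.smooth_iff_locally_isStandardSmooth]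
  exact RingHom.locally_of_locally (fun hf => hf.isStandardSmooth _) hA

/-- The criterion for a smooth hypersurface section. -/
theorem locally_iff [IsAlgClosed k] {n : ℕ} (hn : 1 ≤ n) (π : MvPolynomial σ k →ₐ[k] A)
    (hπ : Function.Surjective π)
    (hA : RingHom.Locally (RingHom.IsStandardSmoothOfRelativeDimension n) (algebraMap k A))
    (h : MvPolynomial σ k) :
    RingHom.Locally (RingHom.IsStandardSmoothOfRelativeDimension (n - 1))
        (algebraMap k (A ⧸ Ideal.span {π h})) ↔
      ∀ a, RingHom.ker π ≤ RingHom.ker (eval a) → eval a h = 0 →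
        ∃ w ∈ Tan (RingHom.ker π) a, dd a w h ≠ 0 := by
  set R := A ⧸ Ideal.span {π h}
  let πR : MvPolynomial σ k →ₐ[k] R := (Ideal.Quotient.mkₐ k _).comp π
  have hπR : Function.Surjective πR := Ideal.Quotient.mk_surjective.comp hπ
  have hker : ∀ a, RingHom.ker π ≤ RingHom.ker (eval a) → eval a h = 0 →
      RingHom.ker πR ≤ RingHom.ker (eval a) := by
    intro a ha h0 p hp
    obtain ⟨q, hq⟩ := Ideal.mem_span_singleton'.1 (Ideal.Quotient.eq_zero_iff_mem.1 (show πR p = 0 from hp))
    obtain ⟨q, rfl⟩ := hπ q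
    rw [← map_mul] at hq
    have := ha (show p - q * h ∈ RingHom.ker π by rw [RingHom.mem_ker, map_sub]; exact sub_eq_zero.2 hq.symm)
    simpa [RingHom.mem_ker, h0] using this
  constructor
  · intro hR a ha h0
    by_contra hcon
    push Not at hcon
    have hle : Tan (RingHom.ker π) a ≤ Tan (RingHom.ker πR) a := by
      intro w hw p hp
      obtain ⟨q, hq⟩ := Ideal.mem_span_singleton'.1 (Ideal.Quotient.eq_zero_iff_mem.1 (show πR p = 0 from hp))
      obtain ⟨q, rfl⟩ := hπ q
      rw [← map_mul] at hq
      have hpq : p - q * h ∈ RingHom.ker π := by rw [RingHom.mem_ker, map_sub]; exact sub_eq_zero.2 hq.symm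
      have h1 := hw _ hpq
      have h2 : dd a w (q * h) = 0 := by
        rw [← dualHom_snd, map_mul, TrivSqZeroExt.snd_mul, dualHom_snd, dualHom_snd, dualHom_fst,
          dualHom_fst, hcon w hw, h0]
        simp
      rw [← dualHom_snd, map_sub, TrivSqZeroExt.snd_sub, dualHom_snd, dualHom_snd, h2, sub_zero] at h1
      exact h1
    have h1 := finrank_tan_of_locally π hπ a ha n hA
    have h2 := finrank_tan_of_locally πR hπR a (hker a ha h0) (n - 1) hR
    have := Submodule.finrank_mono hle
    omega
  · intro hd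
    have : Algebra.Smooth k A := smooth_of_locally n hA
    have hfs := formallySmooth_quotient π hπ h hd
    have : Algebra.FinitePresentation k R :=
      Algebra.FinitePresentation.quotient (Submodule.fg_span_singleton _)
    have hR : Algebra.Smooth k R := ⟨hfs, inferInstance⟩
    obtain ⟨S, hS, hloc⟩ := (RingHom.smooth_iff_locally_isStandardSmooth.1
      (RingHom.smooth_algebraMap.2 hR))
    refine ⟨S ∩ {t | ¬ IsNilpotent t}, ?_, fun t ⟨ht, hnil⟩ => ?_⟩
    · by_contra hne
      obtain ⟨M, hM, hle⟩ := Ideal.exists_le_maximal _ hne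
      refine hM.ne_top (top_le_iff.1 (hS ▸ Ideal.span_le.2 fun s hs => ?_))
      by_cases hn : IsNilpotent s
      · exact (mem_nilradical.2 hn : s ∈ nilradical R) |> (nilradical_le_prime M ·)
      · exact hle (Ideal.subset_span ⟨hs, hn⟩)
    have hst := hloc t ht
    beta_reduce at hst ⊢
    rw [show (algebraMap R (Localization.Away t)).comp (algebraMap k R) =
      algebraMap k (Localization.Away t) from (IsScalarTower.algebraMap_eq k R _).symm] at hst ⊢
    rw [RingHom.isStandardSmooth_algebraMap] at hst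
    rw [RingHom.isStandardSmoothOfRelativeDimension_algebraMap]
    obtain ⟨_, _, _, _, ⟨P⟩⟩ := hst.out
    have : Algebra.IsStandardSmoothOfRelativeDimension P.dimension k (Localization.Away t) :=
      ⟨⟨_, _, ‹_›, ‹_›, P, rfl⟩⟩
    · -- a closed point where `t` does not vanish
      obtain ⟨q, hq⟩ := hπR t
      obtain ⟨a, ha, hqa⟩ : ∃ a, RingHom.ker πR ≤ RingHom.ker (eval a) ∧ eval a q ≠ 0 := by
        by_contra hc
        push Not at hc
        have hv : q ∈ (RingHom.ker πR).radical := by
          rw [← vanishingIdeal_zeroLocus_eq_radical (K := k)]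
          intro a ha
          rw [aeval_eq_eval]
          exact hc a fun p hp => by simpa [aeval_eq_eval] using ha p hp
        obtain ⟨l, hl⟩ := hv
        exact hnil ⟨l, by rw [← hq, ← map_pow]; exact hl⟩
      have haπ : RingHom.ker π ≤ RingHom.ker (eval a) := fun p hp => ha (by
        rw [RingHom.mem_ker]; change Ideal.Quotient.mk _ (π p) = 0; rw [show π p = 0 from hp, map_zero])
      have hdim : P.dimension = n - 1 := by
        rw [← finrank_tan πR hπR a ha t (fun p hp h0 => hqa (by
          have h2 := ha (show q - p ∈ RingHom.ker πR by rw [RingHom.mem_ker, map_sub, hp, hq, sub_self])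
          rw [RingHom.mem_ker, map_sub, h0, sub_zero] at h2
          exact h2)) P.dimension]
        have h0 : eval a h = 0 := ha (by
          rw [RingHom.mem_ker]
          exact Ideal.Quotient.eq_zero_iff_mem.2 (Ideal.mem_span_singleton_self _))
        have h1 := finrank_tan_of_locally π hπ a haπ n hA
        obtain ⟨w, hw, hne⟩ := hd a haπ h0
        let ℓ : Tan (RingHom.ker π) a →ₗ[k] k :=
          { toFun := fun w => dd a w.1 h
            map_add' := fun x y => by simp [dd, add_mul, Finset.sum_add_distrib]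
            map_smul' := fun c x => by simp [dd, Finset.mul_sum, mul_assoc] }
        have hle : Tan (RingHom.ker πR) a ≤ Tan (RingHom.ker π) a := fun w hw p hp => hw p (by
          rw [RingHom.mem_ker]; change Ideal.Quotient.mk _ (π p) = 0; rw [show π p = 0 from hp, map_zero])
        have heq : (LinearMap.ker ℓ).map (Tan (RingHom.ker π) a).subtype = Tan (RingHom.ker πR) a := by
          refine le_antisymm ?_ fun w hw => ⟨⟨w, hle hw⟩, hw h (by
            rw [RingHom.mem_ker]
            exact Ideal.Quotient.eq_zero_iff_mem.2 (Ideal.mem_span_singleton_self _)), rfl⟩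
          rintro _ ⟨⟨v, hv⟩, hv0, rfl⟩ p hp
          obtain ⟨c, hc⟩ := Ideal.mem_span_singleton'.1 (Ideal.Quotient.eq_zero_iff_mem.1 (show πR p = 0 from hp))
          obtain ⟨c, rfl⟩ := hπ c
          rw [← map_mul] at hc
          have h3 := hv _ (show p - c * h ∈ RingHom.ker π by rw [RingHom.mem_ker, map_sub]; exact sub_eq_zero.2 hc.symm)
          change dd a v h = 0 at hv0
          change dd a v p = 0
          rw [← dualHom_snd, map_sub, map_mul, TrivSqZeroExt.snd_sub, TrivSqZeroExt.snd_mul,
            dualHom_snd, dualHom_snd, dualHom_snd, dualHom_fst, dualHom_fst, hv0, h0] at h3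
          simpa using h3
        rw [← heq, Submodule.finrank_map_subtype_eq]
        have hsur : Function.Surjective ℓ := fun c => ⟨(c / dd a w h) • ⟨w, hw⟩, by
          rw [map_smul]; exact div_mul_cancel₀ c hne⟩
        have := LinearMap.finrank_range_add_finrank_ker ℓ
        rw [LinearMap.range_eq_top.2 hsur, finrank_top, Module.finrank_self] at this
        omega
      exact hdim ▸ inferInstance

end Groth.Agent.Lib.LefPen45.Affine
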