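import Mathlib.LinearAlgebra.Matrix.Rank
import Mathlib.LinearAlgebra.Matrix.NonsingularInverse
import Mathlib.LinearAlgebra.Dimension.Constructions

/-!
# Common kernels of families of row vectors

* `exists_minor`: `c` independent rows have a nonzero `c × c` minor;
* `mem_span_iff`: a row vanishes on the common kernel iff it lies in the span;
* `mem_span_iff_minors`: membership in the span through the vanishing of minors.
-/

set_option autoImplicit false

universe u v

namespace Groth.Agent.Lib.LefPen45.LinAlg

variable {k : Type u} [Field k] {σ : Type} [Fintype σ] {S : Type v}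

/-- The common kernel. -/
def ker (R : S → σ → k) : Submodule k (σ → k) where
  carrier := {w | ∀ s, ∑ i, w i * R s i = 0}
  zero_mem' s := by simp
  add_mem' {v w} hv hw s := by simp [add_mul, Finset.sum_add_distrib, hv s, hw s]
  smul_mem' c w hw s := by simp [mul_assoc, ← Finset.mul_sum, hw s]

theorem finrank_ker [Finite S] (R : S → σ → k) :
    Module.finrank k (ker R) + Module.finrank k (Submodule.span k (Set.range R)) = Fintype.card σ := by
  classical
  let M : Matrix S σ k := Matrix.of R
  have h1 : LinearMap.ker M.mulVecLin = ker R := by
    ext w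
    simp only [LinearMap.mem_ker, Matrix.mulVecLin_apply, funext_iff, Pi.zero_apply]
    exact forall_congr' fun s => by simp [Matrix.mulVec, dotProduct, M, mul_comm]
  have h2 : Module.finrank k (Submodule.span k (Set.range R)) = M.rank :=
    (Matrix.rank_eq_finrank_span_row M).symm
  have h := LinearMap.finrank_range_add_finrank_ker M.mulVecLin
  rw [h1, Module.finrank_fintype_fun_eq_card] at h
  rw [h2, Matrix.rank, add_comm]
  exact h

theorem mem_span_iff [Finite S] (R : S → σ → k) (x : σ → k) :
    x ∈ Submodule.span k (Set.range R) ↔ ∀ w ∈ ker R, ∑ i, w i * x i = 0 := by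
  constructor
  · intro hx
    induction hx using Submodule.span_induction with
    | mem y hy => obtain ⟨s, rfl⟩ := hy; exact fun w hw => hw s
    | zero => simp
    | add a b _ _ ha hb => exact fun w hw => by simp [mul_add, Finset.sum_add_distrib, ha w hw, hb w hw]
    | smul c a _ ha => exact fun w hw => by simp [mul_left_comm, ← Finset.mul_sum, ha w hw]
  · intro h
    let R' : Option S → σ → k := fun o => o.elim x R
    have hker : ker R' = ker R := le_antisymm (fun w hw s => hw (some s)) fun w hw o => by
      cases o with
      | none => exact h w hw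
      | some s => exact hw s
    have h1 := finrank_ker R'
    have h2 := finrank_ker R
    rw [hker] at h1
    have hle : Submodule.span k (Set.range R) ≤ Submodule.span k (Set.range R') :=
      Submodule.span_mono (by rintro _ ⟨s, rfl⟩; exact ⟨some s, rfl⟩)
    rw [Submodule.eq_of_le_of_finrank_eq hle (by omega)]
    exact Submodule.subset_span ⟨none, rfl⟩

/-- Independent rows have a nonzero minor. -/
theorem exists_minor {c : ℕ} (f : Fin c → σ → k) (hf : LinearIndependent k f) :
    ∃ g : Fin c → σ, Function.Injective g ∧ (Matrix.of fun l b => f l (g b)).det ≠ 0 := by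
  classical
  let M : Matrix (Fin c) σ k := Matrix.of f
  have hr : Module.finrank k (Submodule.span k (Set.range M.col)) = c := by
    rw [← Matrix.rank_eq_finrank_span_cols]
    rw [LinearIndependent.rank_matrix (M := M) hf, Fintype.card_fin]
  obtain ⟨v, hv, -, hli⟩ := Submodule.exists_fun_fin_finrank_span_eq k (Set.range M.col)
  choose g hg using hv
  have hinj : Function.Injective (fun b : Fin c => g (Fin.cast hr.symm b)) := fun a b hab => by
    have := hli.injective (show v (Fin.cast hr.symm a) = v (Fin.cast hr.symm b) by
      simp only at hab; rw [← hg, ← hg, hab])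
    simpa using this
  refine ⟨fun b => g (Fin.cast hr.symm b), hinj, ?_⟩
  rw [← isUnit_iff_ne_zero, ← Matrix.isUnit_iff_isUnit_det, ← Matrix.linearIndependent_cols_iff_isUnit]
  have e : (Matrix.of fun l b => f l (g (Fin.cast hr.symm b))).col = v ∘ Fin.cast hr.symm := by
    funext b
    exact hg _
  rw [e]
  exact hli.comp _ (Fin.cast_injective _)

/-- A basis among the rows, with a nonzero minor. -/
theorem exists_rows_minor (R : S → σ → k) {c : ℕ}
    (hc : Module.finrank k (Submodule.span k (Set.range R)) = c) :
    ∃ (f : Fin c → S) (g : Fin c → σ), Function.Injective g ∧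
      (Matrix.of fun l b => R (f l) (g b)).det ≠ 0 := by
  obtain ⟨v, hv, -, hli⟩ := Submodule.exists_fun_fin_finrank_span_eq k (Set.range R)
  choose f hf using hv
  obtain ⟨g, hg, hdet⟩ := exists_minor (fun l : Fin c => v (Fin.cast hc.symm l))
    (hli.comp _ (Fin.cast_injective _))
  exact ⟨fun l => f (Fin.cast hc.symm l), g, hg, by simpa [hf] using hdet⟩

/-- Membership in the span through minors. -/
theorem mem_span_iff_minors (R : S → σ → k) {c : ℕ}
    (hc : Module.finrank k (Submodule.span k (Set.range R)) = c) (x : σ → k) :
    x ∈ Submodule.span k (Set.range R) ↔ ∀ (f : Fin c → S) (g : Fin (c + 1) → σ),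
      (Matrix.of fun l b => (Fin.cons x (fun l => R (f l)) : Fin (c + 1) → σ → k) l (g b)).det = 0 := by
  constructor
  · intro hx f g
    by_contra hne
    have hli : LinearIndependent k (Fin.cons x (fun l => R (f l)) : Fin (c + 1) → σ → k) := by
      refine LinearIndependent.of_comp (LinearMap.funLeft k k g) ?_
      exact Matrix.linearIndependent_rows_iff_isUnit.2
        ((Matrix.isUnit_iff_isUnit_det _).2 (isUnit_iff_ne_zero.2 hne))
    have hle : Submodule.span k (Set.range (Fin.cons x (fun l => R (f l)) : Fin (c + 1) → σ → k)) ≤
        Submodule.span k (Set.range R) := by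
      refine Submodule.span_le.2 ?_
      rintro _ ⟨l, rfl⟩
      cases l using Fin.cases with
      | zero => exact hx
      | succ l => exact Submodule.subset_span ⟨f l, rfl⟩
    have := Submodule.finrank_mono hle
    rw [finrank_span_eq_card hli, hc, Fintype.card_fin] at this
    omega
  · intro h
    by_contra hx
    obtain ⟨v, hv, hspan, hli⟩ := Submodule.exists_fun_fin_finrank_span_eq k (Set.range R)
    choose f hf using hv
    have hli' : LinearIndependent k
        (Fin.cons x (fun l : Fin c => v (Fin.cast hc.symm l)) : Fin (c + 1) → σ → k) := by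
      refine linearIndependent_finCons.2 ⟨hli.comp _ (Fin.cast_injective _), fun hmem => hx ?_⟩
      rw [← hspan]
      refine Submodule.span_mono ?_ hmem
      rintro _ ⟨l, rfl⟩
      exact ⟨Fin.cast hc.symm l, rfl⟩
    obtain ⟨g, -, hdet⟩ := exists_minor _ hli'
    refine hdet ?_
    have := h (fun l => f (Fin.cast hc.symm l)) g
    simpa [hf] using this

end Groth.Agent.Lib.LefPen45.LinAlg
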