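import Groth.Agent.Lib.LefPen45.Chart
import Groth.Agent.Lib.LefPen45.LinAlg
import Groth.Agent.Lib.JacCrit.Minimal
import Mathlib.RingTheory.MvPolynomial.EulerIdentity

/-!
# The cone over an embedded smooth variety

* `gens`, `Cone`, `W`: equations, cone and tangent spaces of the cone;
* `transversal_iff_cone`: transversality of a hypersurface section;
* `finrank_W`: the tangent spaces of the cone have dimension `n + 1`;
* `isDomain_coord`: the charts are domains.
-/

set_option autoImplicit false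
set_option backward.isDefEq.respectTransparency.types false
set_option linter.style.haveILetI false

universe u

open CategoryTheory CategoryTheory.Limits AlgebraicGeometry TopologicalSpace Opposite MvPolynomial
open LefPen Groth.Agent.Lib.ProjSpace

namespace Groth.Agent.Lib.LefPen45.Classical

open Affine Chart

variable {k : Type u} [Field k] {r : ℕ}

theorem dualHom_smul {σ : Type} [Fintype σ] (v w : σ → k) (c : k) {e : ℕ} {F : MvPolynomial σ k}
    (hF : F.IsHomogeneous e) : dd (c • v) (c • w) F = c ^ e * dd v w F := by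
  rw [← dualHom_snd, ← dualHom_snd]
  have h : dualHom (c • v) (c • w) F = c ^ e • dualHom v w F := by
    rw [dualHom, dualHom, aeval_def, aeval_def]
    rw [show (fun i => TrivSqZeroExt.inl ((c • v) i) + TrivSqZeroExt.inr ((c • w) i)) =
      fun i => algebraMap k (DualNumber k) c * (TrivSqZeroExt.inl (v i) + TrivSqZeroExt.inr (w i)) from
      funext fun i => by rw [← Algebra.smul_def]; ext <;> simp]
    rw [Algebra.smul_def (c ^ e), map_pow]
    exact Charts.eval₂Hom_mul_of_isHomogeneous _ _ _ hF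
  rw [h, TrivSqZeroExt.snd_smul, smul_eq_mul]

theorem dd_smul_right {σ : Type} [Fintype σ] (v w : σ → k) (c : k) (F : MvPolynomial σ k) :
    dd v (c • w) F = c * dd v w F := by
  simp [dd, Finset.mul_sum, mul_assoc]

theorem dd_add_right {σ : Type} [Fintype σ] (v w w' : σ → k) (F : MvPolynomial σ k) :
    dd v (w + w') F = dd v w F + dd v w' F := by
  simp [dd, add_mul, Finset.sum_add_distrib]

theorem dd_self {σ : Type} [Fintype σ] (v : σ → k) {e : ℕ} {F : MvPolynomial σ k} (hF : F.IsHomogeneous e) :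
    dd v v F = e * eval v F := by
  have h := congrArg (eval v) hF.sum_X_mul_pderiv
  simpa [dd, map_sum, nsmul_eq_mul] using h

/-- The chain rule for dehomogenisation. -/
theorem dd_dehomJ (j : Fin (r + 1)) (a w : Fin r → k) (F : MvPolynomial (Fin (r + 1)) k) :
    dd a w (dehomJ k j F) = dd (j.insertNth (1 : k) a) (j.insertNth (0 : k) w) F := by
  rw [← dualHom_snd, ← dualHom_snd]
  congr 1
  induction F using MvPolynomial.induction_on with
  | C c => simp [dehomJ, dualHom]
  | add p q hp hq => simp only [map_add, hp, hq]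
  | mul_X p l hp =>
    simp only [map_mul, hp]
    congr 1
    rcases Fin.eq_self_or_eq_succAbove j l with rfl | ⟨m, rfl⟩ <;> simp [dehomJ, dualHom]

/-- Zeros of generators are zeros of the ideal, to first order. -/
theorem zero_and_dd_of_span {σ : Type} [Fintype σ] {S : Set (MvPolynomial σ k)} {v w : σ → k}
    (h0 : ∀ F ∈ S, eval v F = 0) (h1 : ∀ F ∈ S, dd v w F = 0) {p : MvPolynomial σ k}
    (hp : p ∈ Ideal.span S) : eval v p = 0 ∧ dd v w p = 0 := by
  have hle : Ideal.span S ≤ RingHom.ker (dualHom v w) := Ideal.span_le.2 fun F hF => by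
    refine TrivSqZeroExt.ext ?_ ?_
    · rw [dualHom_fst]; exact h0 F hF
    · rw [dualHom_snd]; exact h1 F hF
  have h := hle hp
  rw [RingHom.mem_ker] at h
  exact ⟨by rw [← dualHom_fst v w, h]; rfl, by rw [← dualHom_snd, h]; rfl⟩

variable {X : Scheme.{u}} (i : X ⟶ CohB1.ProjSpace r k)

/-- The homogeneous equations of `X`. -/
def gens : Set (MvPolynomial (Fin (r + 1)) k) :=
  {F | ∃ e, F.IsHomogeneous e ∧ ∀ j, coords k i j (dehomJ k j F) = 0}

/-- The cone over `X`. -/
def Cone : Set (Fin (r + 1) → k) := {v | ∀ F ∈ gens i, eval v F = 0}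

/-- The tangent space of the cone. -/
noncomputable def W (v : Fin (r + 1) → k) : Submodule k (Fin (r + 1) → k) :=
  LinAlg.ker fun (F : gens i) (l : Fin (r + 1)) => eval v (pderiv l F.1)

theorem mem_W {v w : Fin (r + 1) → k} : w ∈ W i v ↔ ∀ F ∈ gens i, dd v w F = 0 :=
  ⟨fun h F hF => h ⟨F, hF⟩, fun h F => h F.1 F.2⟩

theorem exists_finset_gens : ∃ S : Finset (MvPolynomial (Fin (r + 1)) k),
    (S : Set _) ⊆ gens i ∧ gens i ⊆ (Ideal.span (S : Set (MvPolynomial (Fin (r + 1)) k)) : Set _) := by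
  obtain ⟨S, hS, he⟩ := Submodule.fg_span_iff_fg_span_finset_subset (gens i) |>.1
    (IsNoetherian.noetherian (Ideal.span (gens i)))
  exact ⟨S, hS, fun F hF => (SetLike.ext_iff.1 he F).1 (Submodule.subset_span hF)⟩

theorem smul_mem_Cone {v : Fin (r + 1) → k} (hv : v ∈ Cone i) (c : k) : c • v ∈ Cone i := by
  rintro F hF
  obtain ⟨e, he, -⟩ := id hF
  have := Charts.eval₂Hom_mul_of_isHomogeneous (RingHom.id k) c v he
  simp only [coe_eval₂Hom] at this
  change eval₂ (RingHom.id k) (fun j => c * v j) F = 0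
  rw [this]
  exact mul_eq_zero_of_right _ (hv F hF)

theorem W_smul (v : Fin (r + 1) → k) {c : k} (hc : c ≠ 0) : W i (c • v) = W i v := by
  ext w
  simp only [mem_W]
  refine forall₂_congr fun F hF => ?_
  obtain ⟨e, he, -⟩ := id hF
  have h := dualHom_smul v w c he
  rw [dd_smul_right] at h
  exact ⟨fun h0 => by rw [h0, mul_zero, eq_comm] at h; exact (mul_eq_zero.1 h).resolve_left (pow_ne_zero _ hc),
    fun h0 => by rw [h0, mul_zero] at h; exact (mul_eq_zero.1 h).resolve_left hc⟩

theorem self_mem_W {v : Fin (r + 1) → k} (hv : v ∈ Cone i) : v ∈ W i v := by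
  rw [mem_W]
  rintro F hF
  obtain ⟨e, he, -⟩ := id hF
  rw [dd_self v he, hv F hF, mul_zero]

theorem exists_insertNth {v : Fin (r + 1) → k} (j : Fin (r + 1)) (hj : v j ≠ 0) :
    ∃ a : Fin r → k, (v j)⁻¹ • v = j.insertNth (1 : k) a :=
  ⟨fun m => (v j)⁻¹ * v (j.succAbove m), funext fun l => by
    rcases Fin.eq_self_or_eq_succAbove j l with rfl | ⟨m, rfl⟩ <;> simp [hj]⟩

theorem exists_homog (j : Fin (r + 1)) (p : MvPolynomial (Fin r) k) :
    ∃ (e : ℕ) (F : MvPolynomial (Fin (r + 1)) k),
      F ∈ CohB1.polyGrading r k (e • 1) ∧ dehomJ k j F = p := by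
  obtain ⟨e, F, hF, h⟩ := HomogeneousLocalization.Away.mk_surjective (CohB1.polyGrading r k) (d := 1)
    (X_mem r k j) (Charts.chartEquiv k j p)
  exact ⟨e, F, hF, (Charts.chartEquiv k j).injective ((chartEquiv_dehomJ_eq_mk k j hF).trans h)⟩

variable [IsClosedImmersion i]

/-- An equation on one chart becomes an equation of `X` after multiplication by a power. -/
theorem pow_mul_mem_gens (j : Fin (r + 1)) {e : ℕ} {F : MvPolynomial (Fin (r + 1)) k}
    (hF : F ∈ CohB1.polyGrading r k (e • 1)) (h : coords k i j (dehomJ k j F) = 0) :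
    ∃ N : ℕ, (MvPolynomial.X j : MvPolynomial (Fin (r + 1)) k) ^ N * F ∈ gens i := by
  classical
  let s : Finset (MvPolynomial (Fin (r + 1)) k) := Finset.univ.image MvPolynomial.X
  have hs1 : ∀ f ∈ s, f ∈ CohB1.polyGrading r k 1 := fun f hf => by
    obtain ⟨l, -, rfl⟩ := Finset.mem_image.1 hf
    exact X_mem r k l
  have hev : ∀ (l : Fin (r + 1)) (e' : ℕ) (G : MvPolynomial (Fin (r + 1)) k)
      (hG : G ∈ CohB1.polyGrading r k (e' • 1)) (hl : (MvPolynomial.X l : MvPolynomial _ k) ∈ s),
      ProjSub.Closed.ev i (MvPolynomial.X l) (HomogeneousLocalization.Away.mk _ (hs1 _ hl) e' G hG) =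
        coords k i l (dehomJ k l G) := fun l e' G hG hl => by
    rw [← chartEquiv_dehomJ_eq_mk k l hG]; rfl
  have hcov : ∀ x : ProjectiveSpectrum (CohB1.polyGrading r k),
      ∃ c : CohB1.polyGrading r k 1, (c : MvPolynomial (Fin (r + 1)) k) ∉ x.asHomogeneousIdeal := fun x => by
    obtain ⟨l, hl⟩ := Opens.mem_iSup.mp ((Basic.iSup_basicOpen_X_eq_top r k).ge (trivial : x ∈ (⊤ : Opens _)))
    exact ⟨⟨_, X_mem r k l⟩, hl⟩
  have hj : (MvPolynomial.X j : MvPolynomial (Fin (r + 1)) k) ∈ s :=
    Finset.mem_image.2 ⟨j, Finset.mem_univ _, rfl⟩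
  haveI : IsClosedImmersion (Y := Proj (CohB1.polyGrading r k)) i := ‹IsClosedImmersion i›
  obtain ⟨N, hN⟩ := ProjSub.Closed.exists_pow_mul_mem i (hs1 := hs1) hcov hj hF (by rw [hev j e F hF hj]; exact h)
  have hd : (MvPolynomial.X j : MvPolynomial (Fin (r + 1)) k) ^ N * F ∈ CohB1.polyGrading r k ((N + e) • 1) := by
    have := SetLike.mul_mem_graded (SetLike.pow_mem_graded N (X_mem r k j)) hF
    simpa using this
  refine ⟨N, N + e, by simpa using hd, fun l => ?_⟩
  have hl : (MvPolynomial.X l : MvPolynomial (Fin (r + 1)) k) ∈ s :=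
    Finset.mem_image.2 ⟨l, Finset.mem_univ _, rfl⟩
  rw [← hev l (N + e) _ hd hl]
  exact ProjSub.Closed.van_of_mem i hN (by simpa using hd) _ hl hd

theorem exists_gens_of_ker (j : Fin (r + 1)) {p : MvPolynomial (Fin r) k}
    (hp : p ∈ RingHom.ker (coords k i j)) : ∃ F ∈ gens i, dehomJ k j F = p := by
  obtain ⟨e, F, hF, rfl⟩ := exists_homog j p
  obtain ⟨N, hN⟩ := pow_mul_mem_gens i j hF hp
  exact ⟨_, hN, by simp [dehomJ]⟩

theorem mem_chartPts (j : Fin (r + 1)) (a : Fin r → k) :
    a ∈ chartPts k i j ↔ j.insertNth (1 : k) a ∈ Cone i := by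
  constructor
  · intro ha F hF
    rw [← eval_dehomJ]
    obtain ⟨e, -, hF⟩ := hF
    exact ha (hF j)
  · intro ha p hp
    obtain ⟨F, hF, rfl⟩ := exists_gens_of_ker i j hp
    rw [RingHom.mem_ker, eval_dehomJ]
    exact ha F hF

theorem mem_tan (j : Fin (r + 1)) (a w : Fin r → k) :
    w ∈ Tan (RingHom.ker (coords k i j)) a ↔ j.insertNth (0 : k) w ∈ W i (j.insertNth (1 : k) a) := by
  rw [mem_W]
  constructor
  · intro hw F hF
    rw [← dd_dehomJ]
    obtain ⟨e, -, hF⟩ := hF
    exact hw _ (hF j)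
  · intro hw p hp
    obtain ⟨F, hF, rfl⟩ := exists_gens_of_ker i j hp
    rw [dd_dehomJ]
    exact hw F hF

/-- The tangent space of the cone splits off the line. -/
theorem decompose_W (j : Fin (r + 1)) {a : Fin r → k} (ha : a ∈ chartPts k i j) {w : Fin (r + 1) → k}
    (hw : w ∈ W i (j.insertNth (1 : k) a)) :
    ∃ w' ∈ Tan (RingHom.ker (coords k i j)) a,
      w = j.insertNth (0 : k) w' + w j • j.insertNth (1 : k) a := by
  refine ⟨fun m => w (j.succAbove m) - w j * a m, ?_, ?_⟩
  · rw [mem_tan]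
    convert Submodule.sub_mem _ hw (Submodule.smul_mem _ (w j) (self_mem_W i ((mem_chartPts i j a).1 ha))) using 1
    funext l
    rcases Fin.eq_self_or_eq_succAbove j l with rfl | ⟨m, rfl⟩ <;> simp
  · funext l
    rcases Fin.eq_self_or_eq_succAbove j l with rfl | ⟨m, rfl⟩ <;> simp

/-- `H` is singular on the cone at `v`. -/
def BadAt {d : ℕ} (H : Form r k d) (v : Fin (r + 1) → k) : Prop :=
  eval v H.1 = 0 ∧ ∀ w ∈ W i v, dd v w H.1 = 0

theorem badAt_smul {d : ℕ} (H : Form r k d) {v : Fin (r + 1) → k} {c : k} (hc : c ≠ 0)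
    (h : BadAt i H v) : BadAt i H (c • v) := by
  have hH : H.1.IsHomogeneous d := H.2
  refine ⟨?_, fun w hw => ?_⟩
  · have := Charts.eval₂Hom_mul_of_isHomogeneous (RingHom.id k) c v hH
    simp only [coe_eval₂Hom] at this
    change eval₂ (RingHom.id k) (fun j => c * v j) H.1 = 0
    rw [this]
    exact mul_eq_zero_of_right _ h.1
  · rw [W_smul i v hc] at hw
    have h1 := dualHom_smul v w c hH
    rw [dd_smul_right, h.2 w hw, mul_zero] at h1
    exact (mul_eq_zero.1 h1).resolve_left hc

theorem badAt_chart {d : ℕ} (H : Form r k d) (j : Fin (r + 1)) {a : Fin r → k} (ha : a ∈ chartPts k i j) :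
    BadAt i H (j.insertNth (1 : k) a) ↔ eval a (dehomJ k j H.1) = 0 ∧
      ∀ w ∈ Tan (RingHom.ker (coords k i j)) a, dd a w (dehomJ k j H.1) = 0 := by
  rw [BadAt, eval_dehomJ]
  refine and_congr_right fun h0 => ⟨fun h w hw => ?_, fun h w hw => ?_⟩
  · rw [dd_dehomJ]; exact h _ ((mem_tan i j a w).1 hw)
  · obtain ⟨w', hw', hw''⟩ := decompose_W i j ha hw
    rw [hw'', dd_add_right, dd_smul_right, ← dd_dehomJ, h w' hw', dd_self _ (H.2 : H.1.IsHomogeneous d), h0]
    ring

/-- **Transversality on the cone.** -/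
theorem transversal_iff_cone [IsAlgClosed k] {n : ℕ} (hn : 1 ≤ n)
    [SmoothOfRelativeDimension n (i ≫ CohB1.ProjSpace.toSpec r k)] {d : ℕ} (H : Form r k d) :
    Transversal k n 1 (secToSpec i ({H} : Set (Form r k d))) ↔
      ∀ v, v ≠ 0 → v ∈ Cone i → ¬ BadAt i H v := by
  rw [transversal_iff k i hn H]
  constructor
  · intro h v hv hvC hbad
    obtain ⟨j, hj⟩ := Function.ne_iff.1 hv
    obtain ⟨a, ha⟩ := exists_insertNth j hj
    have haC : a ∈ chartPts k i j := (mem_chartPts i j a).2 (ha ▸ smul_mem_Cone i hvC _)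
    have hb := badAt_smul i H (inv_ne_zero hj) hbad
    rw [ha, badAt_chart i H j haC] at hb
    obtain ⟨w, hw, hne⟩ := h j a haC hb.1
    exact hne (hb.2 w hw)
  · intro h j a ha h0
    by_contra hcon
    push Not at hcon
    refine h _ (fun hz => ?_) ((mem_chartPts i j a).1 ha) ((badAt_chart i H j ha).2 ⟨h0, hcon⟩)
    simpa using congrFun hz j

theorem finrank_tan_chart [IsAlgClosed k] {n : ℕ}
    [SmoothOfRelativeDimension n (i ≫ CohB1.ProjSpace.toSpec r k)] (j : Fin (r + 1)) {a : Fin r → k}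
    (ha : a ∈ chartPts k i j) : Module.finrank k (Tan (RingHom.ker (coords k i j)) a) = n :=
  finrank_tan_of_locally (coords k i j) (coords_surjective k i j) a ha n (locally_coord k i j)

theorem finrank_W [IsAlgClosed k] {n : ℕ}
    [SmoothOfRelativeDimension n (i ≫ CohB1.ProjSpace.toSpec r k)] {v : Fin (r + 1) → k} (hv : v ≠ 0)
    (hvC : v ∈ Cone i) : Module.finrank k (W i v) = n + 1 := by
  obtain ⟨j, hj⟩ := Function.ne_iff.1 hv
  obtain ⟨a, ha⟩ := exists_insertNth j hj
  rw [← W_smul i v (inv_ne_zero hj), ha]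
  have haC : a ∈ chartPts k i j := (mem_chartPts i j a).2 (ha ▸ smul_mem_Cone i hvC _)
  let φ : Tan (RingHom.ker (coords k i j)) a × k →ₗ[k] (Fin (r + 1) → k) :=
    { toFun := fun x => j.insertNth (0 : k) x.1.1 + x.2 • j.insertNth (1 : k) a
      map_add' := fun x y => funext fun l => by
        rcases Fin.eq_self_or_eq_succAbove j l with rfl | ⟨m, rfl⟩ <;> simp <;> ring
      map_smul' := fun c x => funext fun l => by
        rcases Fin.eq_self_or_eq_succAbove j l with rfl | ⟨m, rfl⟩ <;> simp <;> ring }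
  have hinj : Function.Injective φ := by
    intro x y hxy
    have h1 : x.2 = y.2 := by simpa [φ] using congrFun hxy j
    refine Prod.ext (Subtype.ext (funext fun m => ?_)) h1
    simpa [φ, h1] using congrFun hxy (j.succAbove m)
  have hrange : LinearMap.range φ = W i (j.insertNth (1 : k) a) := by
    refine le_antisymm ?_ fun w hw => ?_
    · rintro _ ⟨⟨⟨w, hw⟩, c⟩, rfl⟩
      exact Submodule.add_mem _ ((mem_tan i j a w).1 hw)
        (Submodule.smul_mem _ c (self_mem_W i ((mem_chartPts i j a).1 haC)))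
    · obtain ⟨w', hw', h⟩ := decompose_W i j haC hw
      exact ⟨(⟨w', hw'⟩, w j), h.symm⟩
  rw [← hrange, LinearMap.finrank_range_of_inj hinj, Module.finrank_prod, Module.finrank_self,
    finrank_tan_chart (n := n) i j haC]

theorem isReduced_scheme [IsAlgClosed k] {n : ℕ}
    [SmoothOfRelativeDimension n (i ≫ CohB1.ProjSpace.toSpec r k)] : AlgebraicGeometry.IsReduced X := by
  haveI : ∀ j, AlgebraicGeometry.IsReduced
      ((X.openCoverOfIsOpenCover (fun j => (chartX k i j).1) (iSup_chartX k i)).X j) := fun j => by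
    change AlgebraicGeometry.IsReduced ((chartX k i j).1 : Scheme.{u})
    haveI : IsAffine ((chartX k i j).1 : Scheme.{u}) := (chartX k i j).2
    haveI : Algebra.Smooth k (Coord k i j) := smooth_of_locally n (locally_coord k i (n := n) j)
    haveI : _root_.IsReduced (Coord k i j) := JacCrit.Minimal.isReduced_of_smooth k
    haveI : _root_.IsReduced Γ(((chartX k i j).1 : Scheme.{u}), ⊤) :=
      isReduced_of_injective _ ((chartX k i j).1.topIso.commRingCatIsoToRingEquiv.injective)
    exact isReduced_of_isAffine_isReduced _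
  exact IsReduced.of_openCover _ (X.openCoverOfIsOpenCover (fun j => (chartX k i j).1) (iSup_chartX k i))

theorem isDomain_coord [IsAlgClosed k] [IrreducibleSpace X] {n : ℕ}
    [SmoothOfRelativeDimension n (i ≫ CohB1.ProjSpace.toSpec r k)] (j : Fin (r + 1))
    [Nontrivial (Coord k i j)] : IsDomain (Coord k i j) := by
  haveI := isReduced_scheme (n := n) i
  haveI := isIntegral_of_irreducibleSpace_of_isReduced X
  haveI : Nonempty (i ⁻¹ᵁ chart r k j : X.Opens) := by
    by_contra hne
    have hbot : (i ⁻¹ᵁ chart r k j : X.Opens) = ⊥ := by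
      ext x
      exact ⟨fun hx => (hne ⟨⟨x, hx⟩⟩).elim, False.elim⟩
    have : Subsingleton (Coord k i j) := by rw [Coord, hbot]; infer_instance
    exact not_subsingleton (Coord k i j) this
  exact IsIntegral.component_integral _

end Groth.Agent.Lib.LefPen45.Classical
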