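import Groth.Agent.Lib.LefPen45.Discriminant
import Mathlib.LinearAlgebra.Matrix.Determinant.Basic

/-!
# A cubic form through five points in general position is a linear Pfaffian
-/

set_option autoImplicit false

universe u

open MvPolynomial

namespace Groth.Agent.Lib.LefPen45.Pfaffian

open Discriminant

/-- The standard skew matrix. -/
def MM {R : Type*} [CommRing R] (x : Fin 4 → R) (l : Fin 5 → R) : Matrix (Fin 6) (Fin 6) R :=
  !![0, x 2 - x 1, 0, -x 1, -x 2, l 0;
     -(x 2 - x 1), 0, 0, 0, x 2 - x 0, l 1;
     0, 0, 0, -x 3, -x 0, l 2;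
     x 1, 0, x 3, 0, 0, l 3;
     x 2, -(x 2 - x 0), x 0, 0, 0, l 4;
     -l 0, -l 1, -l 2, -l 3, -l 4, 0]

/-- Its maximal Pfaffians, with signs. -/
def QQ {R : Type*} [CommRing R] (x : Fin 4 → R) : Fin 5 → R :=
  ![x 0 * x 3 - x 2 * x 3, x 0 * x 1 - x 2 * x 3, x 1 * x 2 - x 0 * x 1,
    x 0 * x 2 - x 0 * x 1, x 1 * x 3 - x 2 * x 3]

theorem det_MM {R : Type*} [CommRing R] (x : Fin 4 → R) (l : Fin 5 → R) :
    (MM x l).det = (∑ r, l r * QQ x r) ^ 2 := by
  simp [MM, QQ, Matrix.det_succ_row_zero, Fin.sum_univ_succ, Fin.succAbove]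
  ring

variable {k : Type u} [Field k]

theorem mem_quadrics {G : MvPolynomial (Fin 4) k} (hG : G.IsHomogeneous 3)
    (he : ∀ i, eval (Pi.single i 1 : Fin 4 → k) G = 0) (h1 : eval (fun _ => (1 : k)) G = 0) :
    ∃ l : Fin 5 → MvPolynomial (Fin 4) k, (∀ r, (l r).IsHomogeneous 1) ∧
      G = ∑ r, l r * QQ (X : Fin 4 → MvPolynomial (Fin 4) k) r := by
  classical
  set I : Ideal (MvPolynomial (Fin 4) k) :=
    Ideal.span (Set.range (QQ (X : Fin 4 → MvPolynomial (Fin 4) k))) with hI
  let π := Ideal.Quotient.mk I
  let a : Fin 4 → MvPolynomial (Fin 4) k ⧸ I := fun i => π (X i)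
  have hQ : ∀ r, QQ a r = 0 := fun r => by
    have : π (QQ (X : Fin 4 → MvPolynomial (Fin 4) k) r) = QQ a r := by
      fin_cases r <;> simp [QQ, a]
    rw [← this]
    exact Ideal.Quotient.eq_zero_iff_mem.2 (Ideal.subset_span ⟨r, rfl⟩)
  set q := a 0 * a 1 with hq
  have hpair : ∀ i j, i ≠ j → a i * a j = q := by
    have r0 : a 0 * a 3 - a 2 * a 3 = 0 := hQ 0
    have r1 : a 0 * a 1 - a 2 * a 3 = 0 := hQ 1
    have r2 : a 1 * a 2 - a 0 * a 1 = 0 := hQ 2
    have r3 : a 0 * a 2 - a 0 * a 1 = 0 := hQ 3
    have r4 : a 1 * a 3 - a 2 * a 3 = 0 := hQ 4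
    have e01 : a 0 * a 1 = q := rfl
    have e02 : a 0 * a 2 = q := by rw [hq]; linear_combination r3
    have e03 : a 0 * a 3 = q := by rw [hq]; linear_combination r0 - r1
    have e12 : a 1 * a 2 = q := by rw [hq]; linear_combination r2
    have e13 : a 1 * a 3 = q := by rw [hq]; linear_combination r4 - r1
    have e23 : a 2 * a 3 = q := by rw [hq]; linear_combination -r1
    intro i j hij
    fin_cases i <;> fin_cases j <;>
      first
        | exact absurd rfl hij
        | exact e01 | exact e02 | exact e03 | exact e12 | exact e13 | exact e23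
        | exact (mul_comm _ _).trans e01 | exact (mul_comm _ _).trans e02
        | exact (mul_comm _ _).trans e03 | exact (mul_comm _ _).trans e12
        | exact (mul_comm _ _).trans e13 | exact (mul_comm _ _).trans e23
  have hall : ∀ l, a l * q = a 0 * q := fun l => by
    by_cases hl : l = 0
    · rw [hl]
    obtain ⟨m, hm0, hml⟩ := (show ∀ l : Fin 4, ∃ m, m ≠ 0 ∧ m ≠ l by decide) l
    calc a l * q = a l * (a 0 * a m) := by rw [hpair 0 m hm0.symm]
      _ = a 0 * (a l * a m) := by ring
      _ = a 0 * q := by rw [hpair l m hml.symm]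
  have hmon : ∀ e ∈ G.support, π (monomial e 1) = a 0 * q := by
    intro e he'
    have hdeg : e.degree = 3 := by
      have := hG (mem_support_iff.1 he')
      simpa [Finsupp.weight_apply, Finsupp.degree, Finsupp.sum] using this
    obtain ⟨i, j, hij, hi, hj⟩ : ∃ i j, i ≠ j ∧ e i ≠ 0 ∧ e j ≠ 0 := by
      by_contra hcon
      push Not at hcon
      obtain ⟨i, hi⟩ : ∃ i, e i ≠ 0 := by
        by_contra h0
        push Not at h0
        rw [show e = 0 from Finsupp.ext h0] at hdeg
        simp at hdeg
      have hes : e = Finsupp.single i 3 := by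
        have hz : e = Finsupp.single i (e i) := Finsupp.ext fun j => by
          by_cases hji : j = i
          · subst hji; simp
          · rw [Finsupp.single_eq_of_ne hji]; exact hcon i j (Ne.symm hji) hi
        have h3 : e i = 3 := by
          rw [hz, Finsupp.degree_single] at hdeg
          exact hdeg
        rwa [h3] at hz
      refine mem_support_iff.1 he' (Eq.trans ?_ (he i))
      conv_rhs => rw [G.as_sum, map_sum]
      rw [Finset.sum_eq_single e]
      · rw [eval_monomial, hes]; simp
      · intro b hb hbe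
        have hbdeg : b.degree = 3 := by
          have := hG (mem_support_iff.1 hb)
          simpa [Finsupp.weight_apply, Finsupp.degree, Finsupp.sum] using this
        obtain ⟨j, hji, hbj⟩ : ∃ j, j ≠ i ∧ b j ≠ 0 := by
          by_contra h0
          push Not at h0
          refine hbe ?_
          have hz : b = Finsupp.single i (b i) := Finsupp.ext fun j => by
            by_cases hji : j = i
            · subst hji; simp
            · rw [Finsupp.single_eq_of_ne hji]; exact h0 j hji
          have h3 : b i = 3 := by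
            rw [hz, Finsupp.degree_single] at hbdeg
            exact hbdeg
          rw [hz, h3, hes]
        rw [eval_monomial]
        refine mul_eq_zero_of_right _ (Finset.prod_eq_zero (Finsupp.mem_support_iff.2 hbj) ?_)
        simp [hji, zero_pow hbj]
      · intro hn; exact absurd he' hn
    set rest := e - Finsupp.single i 1 - Finsupp.single j 1 with hrest
    have he2 : e = Finsupp.single i 1 + Finsupp.single j 1 + rest := Finsupp.ext fun m => by
      simp only [hrest, Finsupp.add_apply, Finsupp.tsub_apply, Finsupp.single_apply]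
      split_ifs with h1 h2 h2
      · exact absurd (h1.trans h2.symm) hij
      · subst h1; omega
      · subst h2; omega
      · omega
    have hr1 : rest.degree = 1 := by
      rw [he2, map_add, map_add, Finsupp.degree_single, Finsupp.degree_single] at hdeg
      omega
    obtain ⟨l, hl⟩ : ∃ l, rest l ≠ 0 := by
      by_contra h0
      push Not at h0
      rw [show rest = 0 from Finsupp.ext h0] at hr1
      simp at hr1
    have hrl : rest = Finsupp.single l 1 := by
      refine Finsupp.ext fun m => ?_
      have h1' : ∑ m, rest m = 1 := by rw [← Finsupp.degree_eq_sum]; exact hr1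
      have := Finset.single_le_sum (f := fun m => rest m) (fun _ _ => Nat.zero_le _) (Finset.mem_univ l)
      by_cases hm : m = l
      · subst hm; simp; omega
      · have h2 := Finset.add_le_sum (f := fun m => rest m) (fun _ _ => Nat.zero_le _)
          (Finset.mem_univ m) (Finset.mem_univ l) hm
        rw [Finsupp.single_eq_of_ne hm]
        omega
    have hm : monomial e (1 : k) = X i * X j * X l := by
      rw [he2, hrl, X, X, X, monomial_mul, monomial_mul, one_mul, one_mul]
    rw [hm, map_mul, map_mul]
    show a i * a j * a l = _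
    rw [hpair i j hij, mul_comm, hall]
  have hmem : G ∈ I := by
    rw [← Ideal.Quotient.eq_zero_iff_mem]
    have hsum : ∑ e ∈ G.support, coeff e G = 0 := by
      refine Eq.trans ?_ h1
      conv_rhs => rw [G.as_sum, map_sum]
      exact Finset.sum_congr rfl fun e _ => by simp [eval_monomial]
    conv_lhs => rw [G.as_sum]
    rw [map_sum]
    calc ∑ e ∈ G.support, π (monomial e (coeff e G))
        = ∑ e ∈ G.support, π (C (coeff e G)) * (a 0 * q) := Finset.sum_congr rfl fun e he' => by
          rw [← hmon e he', ← map_mul, C_mul_monomial, mul_one]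
      _ = π (C (∑ e ∈ G.support, coeff e G)) * (a 0 * q) := by
          rw [← Finset.sum_mul, map_sum, map_sum]
      _ = 0 := by rw [hsum, C_0, map_zero, zero_mul]
  rw [hI, Ideal.mem_span_range_iff_exists_fun] at hmem
  obtain ⟨c, hc⟩ := hmem
  refine ⟨fun r => homogeneousComponent 1 (c r), fun r => homogeneousComponent_isHomogeneous _ _, ?_⟩
  have hQh : ∀ r, (QQ (X : Fin 4 → MvPolynomial (Fin 4) k) r).IsHomogeneous 2 := fun r => by
    fin_cases r <;> exact ((isHomogeneous_X k _).mul (isHomogeneous_X k _)).sub
      ((isHomogeneous_X k _).mul (isHomogeneous_X k _))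
  have := congrArg (homogeneousComponent 3) hc
  rw [map_sum, homogeneousComponent_of_mem ((mem_homogeneousSubmodule _ _).2 hG), if_pos rfl] at this
  rw [← this]
  exact Finset.sum_congr rfl fun r _ => by rw [hc_mul (hQh r), if_pos (by norm_num)]

/-- A cubic form through five points in general position has a linear Pfaffian representation. -/
theorem exists_rep {F : MvPolynomial (Fin 4) k} (hF : F.IsHomogeneous 3) (p : Fin 5 → (Fin 4 → k))
    (hp : ∀ j, eval (p j) F = 0) (hgp : ∀ j : Fin 5, LinearIndependent k fun i => p (j.succAbove i)) :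
    ∃ M : Matrix (Fin 6) (Fin 6) (MvPolynomial (Fin 4) k), (∀ i j, (M i j).IsHomogeneous 1) ∧
      M.transpose = -M ∧ (∀ i, M i i = 0) ∧ ∃ c : k, c ≠ 0 ∧ M.det = C c * F ^ 2 := by
  classical
  have hli : LinearIndependent k fun i : Fin 4 => p i.succ := by simpa using hgp 0
  let b := basisOfLinearIndependentOfCardEqFinrank hli (by simp)
  have hb : ⇑b = fun i : Fin 4 => p i.succ := coe_basisOfLinearIndependentOfCardEqFinrank _ _
  set c : Fin 4 → k := fun i => b.repr (p 0) i with hc
  have hsum : p 0 = ∑ i, c i • p i.succ := by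
    conv_lhs => rw [← b.sum_repr (p 0)]
    simp [hb, hc]
  have hc0 : ∀ i, c i ≠ 0 := fun i hi => by
    have h := Fintype.linearIndependent_iff.1 (hgp i.succ)
      (fun m => (Fin.cons (-1) c : Fin 5 → k) (i.succ.succAbove m)) (by
        have h5 : ∑ m : Fin 5, (Fin.cons (-1) c : Fin 5 → k) m • p m = 0 := by
          rw [Fin.sum_univ_succ]
          simp [hsum]
        rw [Fin.sum_univ_succAbove _ i.succ] at h5
        simpa [hi] using h5) 0
    simp at h
  let B : Matrix (Fin 4) (Fin 4) k := Matrix.of fun r i => c i * p i.succ r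
  have hB : IsUnit B := by
    rw [← Matrix.linearIndependent_cols_iff_isUnit]
    have : B.col = fun i => (Units.mk0 (c i) (hc0 i) : kˣ) • p i.succ := by
      funext i r; simp [B, Matrix.col, Units.smul_def]
    rw [this]
    exact hli.units_smul _
  set G := sub (n := 3) B F with hG
  have hGh : G.IsHomogeneous 3 := sub_isHomogeneous _ hF
  obtain ⟨l, hl, hGl⟩ := mem_quadrics hGh (fun i => by
    rw [hG, Discriminant.eval_sub, show B.mulVec (Pi.single i 1) = c i • p i.succ by
      funext r; simp [B, Matrix.mulVec_single], eval_smul_point hF, hp, mul_zero]) (by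
    rw [hG, Discriminant.eval_sub, show B.mulVec (fun _ => (1 : k)) = p 0 by
      rw [hsum]; funext r; simp [B, Matrix.mulVec, dotProduct, Finset.sum_apply]]
    exact hp 0)
  have hdet : IsUnit B.det := (Matrix.isUnit_iff_isUnit_det B).1 hB
  have hFG : sub (n := 3) B⁻¹ G = F := by
    rw [hG, Discriminant.sub_sub, Matrix.mul_nonsing_inv _ hdet, Discriminant.sub_one]
  let ψ := sub (n := 3) B⁻¹
  let M₀ := MM (X : Fin 4 → MvPolynomial (Fin 4) k) l
  have hM₀ : ∀ i j, (M₀ i j).IsHomogeneous 1 := fun i j => by
    have hx : ∀ i : Fin 4, (X i : MvPolynomial (Fin 4) k).IsHomogeneous 1 := isHomogeneous_X k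
    have hneg : ∀ {p : MvPolynomial (Fin 4) k}, p.IsHomogeneous 1 → (-p).IsHomogeneous 1 :=
      fun h => IsHomogeneous.neg h
    fin_cases i <;> fin_cases j <;> simp only [M₀, MM] <;>
      first
        | exact isHomogeneous_zero _ _ _
        | exact hx _
        | exact hl _
        | exact hneg (hx _)
        | exact hneg (hl _)
        | exact (hx _).sub (hx _)
        | exact hneg ((hx _).sub (hx _))
  refine ⟨M₀.map ψ, fun i j => sub_isHomogeneous _ (hM₀ i j), ?_, fun i => ?_, 1, one_ne_zero, ?_⟩
  · ext i j
    simp only [Matrix.transpose_apply, Matrix.map_apply, Matrix.neg_apply]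
    rw [show M₀ j i = -M₀ i j by fin_cases i <;> fin_cases j <;> simp [M₀, MM], map_neg]
  · rw [Matrix.map_apply, show M₀ i i = 0 by fin_cases i <;> simp [M₀, MM], map_zero]
  · rw [C_1, one_mul, ← hFG, ← map_pow, hGl, ← det_MM]
    exact (AlgHom.map_det ψ M₀).symm

end Groth.Agent.Lib.LefPen45.Pfaffian
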