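import Groth.Agent.Lib.LefPen45.CubicPoints
import Groth.Agent.Lib.LefPen45.Pfaffian
import Mathlib.FieldTheory.IntermediateField.Adjoin.Basic
import Mathlib.Topology.Order.IntermediateValue
import Mathlib.Topology.Algebra.Polynomial
import Mathlib.Analysis.RCLike.Basic

/-!
# A point of degree at most three outside the T-locus
-/

set_option autoImplicit false

universe u v w

open MvPolynomial

namespace Groth.Agent.Lib.LefPen45.CubicLine

open Trilinear TPoints CubicPoints

variable {k : Type u} [Field k] [CharZero k] {K : Type v} [Field K] [Algebra k K]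
  [IsAlgClosed K] [CharZero K] {F : MvPolynomial (Fin 4) k}

/-- A rational line all whose intersection points with the surface avoid the T-points. -/
theorem exists_line (hG : Good (MvPolynomial.map (algebraMap k K) F)) :
    ∃ u v : Fin 4 → k, eval v F ≠ 0 ∧ ∀ r : K,
      rv (K := K) u + r • rv v ≠ 0 ∧ ¬ TP (MvPolynomial.map (algebraMap k K) F) (rv u + r • rv v) := by
  classical
  obtain ⟨𝓛, hfin, hln, hcov⟩ := exists_special hG
  have := hfin.to_subtype
  have hfun : ∀ S : Submodule K (Fin 4 → K), Module.finrank K S ≤ 3 →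
      ∃ φ : (Fin 4 → K) →ₗ[K] K, φ ≠ 0 ∧ S ≤ LinearMap.ker φ := fun S hS =>
    Submodule.exists_le_ker_of_lt_top _ (lt_top_iff_ne_top.2 fun e => by
      rw [e] at hS
      simp at hS)
  choose φ hφ0 hφ using hfun
  have hlf : ∀ {ψ : (Fin 4 → K) →ₗ[K] K}, ψ ≠ 0 → lf ψ ≠ 0 := fun {ψ} h e =>
    h (LinearMap.ext fun x => by rw [← eval_lf, e, map_zero, LinearMap.zero_apply])
  let φv : 𝓛 → ((Fin 4 → K) →ₗ[K] K) := fun U => φ U.1 (by rw [(hln U.1 U.2).1]; norm_num)
  obtain ⟨v, hv⟩ := exists_rat (k := k)
    (fun o : Option 𝓛 => o.elim (MvPolynomial.map (algebraMap k K) F) fun U => lf (φv U))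
    fun o => by
      cases o with
      | none => exact hG.irr.ne_zero
      | some U => exact hlf (hφ0 _ _)
  have hFv : eval v F ≠ 0 := fun h0 => hv none (by
    show eval (rv v) (MvPolynomial.map (algebraMap k K) F) = 0
    rw [eval_map, ← aeval_def]
    exact (aeval_algebraMap_apply (B := K) v F).trans (by rw [aeval_eq_eval, h0, map_zero]))
  have hvU : ∀ U : 𝓛, rv (K := K) v ∉ U.1 := fun U hm => hv (some U) (by
    show eval (rv v) (lf (φv U)) = 0
    rw [eval_lf]
    exact hφ _ _ hm)
  let Sv : Option 𝓛 → Submodule K (Fin 4 → K) := fun o =>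
    o.elim (Submodule.span K {rv v}) fun U => U.1 ⊔ Submodule.span K {rv v}
  have hrk : ∀ o, Module.finrank K (Sv o) ≤ 3 := fun o => by
    have h1 := finrank_span_le_card (R := K) ({rv v} : Set (Fin 4 → K))
    rw [Set.toFinset_singleton, Finset.card_singleton] at h1
    cases o with
    | none => exact h1.trans (by norm_num)
    | some U =>
      have h2 := Submodule.finrank_sup_add_finrank_inf_eq U.1 (Submodule.span K {rv v})
      have h3 := (hln U.1 U.2).1
      show Module.finrank K ↥(U.1 ⊔ Submodule.span K {rv (K := K) v}) ≤ 3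
      linarith
  obtain ⟨u, hu⟩ := exists_rat (k := k) (fun o => lf (φ (Sv o) (hrk o))) fun o => hlf (hφ0 _ _)
  have huS : ∀ o, rv (K := K) u ∉ Sv o := fun o hm => hu o (by
    show eval (rv u) _ = 0
    rw [eval_lf]
    exact hφ _ _ hm)
  refine ⟨u, v, hFv, fun r => ⟨fun h0 => huS none ?_, fun hT => ?_⟩⟩
  · rw [eq_neg_of_add_eq_zero_left h0]
    exact Submodule.neg_mem _ (Submodule.smul_mem _ _ (Submodule.mem_span_singleton_self _))
  · obtain ⟨U, hU, hmem⟩ := hcov _ hT
    refine huS (some ⟨U, hU⟩) ?_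
    have : rv (K := K) u = (rv u + r • rv v) + (-r) • rv v := by module
    rw [this]
    exact Submodule.add_mem _ (Submodule.mem_sup_left hmem)
      (Submodule.mem_sup_right (Submodule.smul_mem _ _ (Submodule.mem_span_singleton_self _)))

variable {E : Type w} [Field E] [CharZero E] [Algebra k E] [Algebra E K] [IsScalarTower k E K]

/-- A root on such a line gives a Pfaffian representation. -/
theorem rep_of_root (hF : F.IsHomogeneous 3) (hG : Good (MvPolynomial.map (algebraMap k K) F))
    {u v : Fin 4 → k} (hgood : ∀ r : K,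
      rv (K := K) u + r • rv v ≠ 0 ∧ ¬ TP (MvPolynomial.map (algebraMap k K) F) (rv u + r • rv v))
    {r : E} (hr : eval (fun i => algebraMap k E (u i) + r * algebraMap k E (v i))
      (MvPolynomial.map (algebraMap k E) F) = 0) :
    ∃ M : Matrix (Fin 6) (Fin 6) (MvPolynomial (Fin 4) E), (∀ i j, (M i j).IsHomogeneous 1) ∧
      M.transpose = -M ∧ (∀ i, M i i = 0) ∧
      ∃ c : E, c ≠ 0 ∧ M.det = C c * (MvPolynomial.map (algebraMap k E) F) ^ 2 := by
  set FE := MvPolynomial.map (algebraMap k E) F with hFE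
  have hFEh : FE.IsHomogeneous 3 := hF.map _
  have hmap : MvPolynomial.map (algebraMap E K) FE = MvPolynomial.map (algebraMap k K) F := by
    rw [hFE, MvPolynomial.map_map, ← IsScalarTower.algebraMap_eq]
  set a : Fin 4 → E := fun i => algebraMap k E (u i) + r * algebraMap k E (v i)
  have ha : rv (K := K) a = rv u + algebraMap E K r • rv v := by
    funext i
    simp only [rv, a, map_add, map_mul, ← IsScalarTower.algebraMap_apply, Pi.add_apply, Pi.smul_apply,
      smul_eq_mul]
  obtain ⟨ha0, haT⟩ := hgood (algebraMap E K r)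
  obtain ⟨p, -, hp, hgp⟩ := exists_five (K := K) hFEh (hmap.symm ▸ hG) (a := a)
    (fun e => ha0 (by rw [← ha, e, rv_zero]))
    (by rw [← eval_eq hFEh]; exact hr)
    (by rw [hmap, ha]; exact haT)
  exact Pfaffian.exists_rep hFEh p hp hgp

omit [CharZero k] [IsAlgClosed K] [CharZero K] [CharZero E] in
/-- The value at a point of a line, in a larger field. -/
theorem eval_map_line (u v : Fin 4 → k) (r : E) :
    algebraMap E K (eval (fun i => algebraMap k E (u i) + r * algebraMap k E (v i))
      (MvPolynomial.map (algebraMap k E) F)) = Polynomial.aeval (algebraMap E K r) (FiniteLines.ln v u F) := by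
  induction F using MvPolynomial.induction_on with
  | C a => simp [FiniteLines.ln, ← IsScalarTower.algebraMap_apply]
  | add p q hp hq => simp only [map_add, hp, hq]
  | mul_X p l h =>
    simp only [map_mul, h, MvPolynomial.map_X, eval_X]
    simp only [FiniteLines.ln, aeval_X, map_add, map_mul, Polynomial.aeval_C, Polynomial.aeval_X,
      ← IsScalarTower.algebraMap_apply]
    ring

omit [IsAlgClosed K] [CharZero K] in
/-- A cubic polynomial over the reals has a root. -/
theorem exists_real_root {p : Polynomial ℝ} (hp : p.natDegree = 3) : ∃ x, p.eval x = 0 := by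
  set A := p.coeff 3
  have hA : A ≠ 0 := by
    have := Polynomial.leadingCoeff_ne_zero.2 (fun e : p = 0 => by simp [e] at hp)
    rwa [Polynomial.leadingCoeff, hp] at this
  set b := p.coeff 2 / A
  set c := p.coeff 1 / A
  set d := p.coeff 0 / A
  have he : ∀ x, p.eval x = A * (x ^ 3 + b * x ^ 2 + c * x + d) := fun x => by
    rw [Polynomial.eval_eq_sum_range' (n := 4) (by omega)]
    simp only [Finset.sum_range_succ, Finset.sum_range_zero, b, c, d]
    field_simp
    ring
  set M := 1 + |b| + |c| + |d|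
  have hb := abs_le.1 (le_refl |b|)
  have hc := abs_le.1 (le_refl |c|)
  have hd := abs_le.1 (le_refl |d|)
  have hM : 1 ≤ M := by
    have := abs_nonneg b; have := abs_nonneg c; have := abs_nonneg d
    simp only [M]; linarith
  have hM2 : 1 ≤ M ^ 2 := by nlinarith
  have hb' : |b| * M ^ 2 + |c| * M + |d| < M ^ 3 := by
    have h1 : |c| * M ≤ |c| * M ^ 2 := mul_le_mul_of_nonneg_left (by nlinarith) (abs_nonneg c)
    have h2 : |d| ≤ |d| * M ^ 2 := le_mul_of_one_le_right (abs_nonneg d) hM2
    have h3 : M ^ 3 = M ^ 2 + |b| * M ^ 2 + |c| * M ^ 2 + |d| * M ^ 2 := by simp only [M]; ring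
    linarith
  have hM0 : (0 : ℝ) ≤ M := by linarith
  have hpos : 0 ≤ M ^ 3 + b * M ^ 2 + c * M + d := by
    nlinarith [mul_le_mul_of_nonneg_right hb.1 (sq_nonneg M), mul_le_mul_of_nonneg_right hc.1 hM0]
  have hneg : (-M) ^ 3 + b * (-M) ^ 2 + c * (-M) + d ≤ 0 := by
    nlinarith [mul_le_mul_of_nonneg_right hb.2 (sq_nonneg M), mul_le_mul_of_nonneg_right hc.1 hM0]
  obtain ⟨x, -, hx⟩ := intermediate_value_Icc (show -M ≤ M by linarith)
    (f := fun x : ℝ => x ^ 3 + b * x ^ 2 + c * x + d) (by fun_prop) ⟨hneg, hpos⟩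
  exact ⟨x, by rw [he, show x ^ 3 + b * x ^ 2 + c * x + d = 0 from hx, mul_zero]⟩

end Groth.Agent.Lib.LefPen45.CubicLine
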