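import Groth.Agent.Lib.LefPen45.TPoints
import Mathlib.FieldTheory.IsAlgClosed.AlgebraicClosure
import Mathlib.Algebra.MvPolynomial.Funext

/-!
# Rational points of a cubic surface with a rational point that is not a T-point
-/

set_option autoImplicit false

universe u v

open MvPolynomial

namespace Groth.Agent.Lib.LefPen45.CubicPoints

open Trilinear TPoints

variable {k : Type u} [Field k] [CharZero k] {K : Type v} [Field K] [Algebra k K]

local notation "ι" => algebraMap k K

/-- A rational vector. -/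
def rv (u : Fin 4 → k) : Fin 4 → K := fun i => algebraMap k K (u i)

theorem rv_add (u w : Fin 4 → k) : rv (K := K) (u + w) = rv u + rv w := by funext i; simp [rv]

theorem rv_smul (c : k) (u : Fin 4 → k) : rv (K := K) (c • u) = algebraMap k K c • rv u := by
  funext i; simp [rv]

theorem rv_zero : rv (K := K) (0 : Fin 4 → k) = 0 := by funext i; simp [rv]

theorem map_T [CharZero K] (F : MvPolynomial (Fin 4) k) (u v w : Fin 4 → k) :
    T (MvPolynomial.map ι F) (rv u) (rv v) (rv w) = ι (T F u v w) := by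
  simp only [T, co, rv, map_sum, map_mul, map_div₀, map_ofNat, pderiv_map, constantCoeff_map]

/-- The extension of a rational functional. -/
noncomputable def ext (φ : (Fin 4 → k) →ₗ[k] k) : (Fin 4 → K) →ₗ[K] K :=
  ∑ i, algebraMap k K (φ (Pi.single i 1)) • LinearMap.proj i

theorem ext_rv (φ : (Fin 4 → k) →ₗ[k] k) (u : Fin 4 → k) : ext φ (rv (K := K) u) = ι (φ u) := by
  conv_rhs => rw [pi_eq_sum_univ' u]
  simp only [ext, rv, LinearMap.sum_apply, LinearMap.smul_apply, LinearMap.proj_apply, map_sum,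
    map_smul, smul_eq_mul, map_mul]
  exact Finset.sum_congr rfl fun i _ => mul_comm _ _

theorem li_rv {p q g h : Fin 4 → k} (hli : LinearIndependent k ![p, q, g, h]) :
    LinearIndependent K ![rv (K := K) p, rv q, rv g, rv h] := by
  obtain ⟨φ, -, hφ⟩ := exists_coord hli
  rw [Fintype.linearIndependent_iff]
  intro c hc j
  have h1 := congrArg (ext (φ j)) hc
  simp only [Fin.sum_univ_four, map_add, map_smul, Matrix.cons_val_zero, Matrix.cons_val_one,
    Matrix.cons_val, ext_rv, map_zero, smul_eq_mul] at h1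
  have a := hφ j 0; have b := hφ j 1; have d := hφ j 2; have e := hφ j 3
  simp only [Matrix.cons_val_zero, Matrix.cons_val_one, Matrix.cons_val] at a b d e
  rw [a, b, d, e] at h1
  fin_cases j <;> simpa using h1

theorem li_of_rv {m : ℕ} {f : Fin m → Fin 4 → k}
    (h : LinearIndependent K fun i => rv (K := K) (f i)) : LinearIndependent k f := by
  rw [Fintype.linearIndependent_iff] at h ⊢
  intro c hc i
  refine (algebraMap k K).injective ((h (fun i => ι (c i)) ?_ i).trans (map_zero _).symm)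
  have := congrArg (rv (K := K)) hc
  rw [rv_zero] at this
  rw [← this]
  funext j
  simp [rv, Finset.sum_apply, Algebra.smul_def]

/-- A rational point outside the zero sets of finitely many nonzero polynomials. -/
theorem exists_rat {m : ℕ} {Ι : Type*} [Finite Ι] (P : Ι → MvPolynomial (Fin m) K) (hP : ∀ i, P i ≠ 0) :
    ∃ z : Fin m → k, ∀ i, eval (fun j => ι (z j)) (P i) ≠ 0 := by
  classical
  have := Fintype.ofFinite Ι
  have hprod : ∏ i, P i ≠ 0 := Finset.prod_ne_zero_iff.2 fun i _ => hP i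
  by_contra hcon
  push Not at hcon
  refine hprod (MvPolynomial.funext_set (fun _ => Set.range ι)
    (fun _ => Set.infinite_range_of_injective (algebraMap k K).injective) fun x hx => ?_)
  choose z hz using fun j => hx j (Set.mem_univ j)
  obtain ⟨i, hi⟩ := hcon z
  rw [show x = fun j => ι (z j) from funext fun j => (hz j).symm, map_zero, map_prod]
  exact Finset.prod_eq_zero (Finset.mem_univ i) hi

variable [IsAlgClosed K] [CharZero K] {F : MvPolynomial (Fin 4) k}

theorem good (hF : F.IsHomogeneous 3) (hirr : Irreducible (MvPolynomial.map ι F))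
    (hcone : ¬ ∃ v : Fin 4 → k, v ≠ 0 ∧ ∑ i : Fin 4, v i • MvPolynomial.pderiv i F = 0) :
    Good (MvPolynomial.map ι F) := by
  classical
  refine ⟨hF.map _, hirr, fun v hv => ?_⟩
  by_contra hcon
  push Not at hcon
  let e : Fin 4 → (Fin 4 → k) := fun i => Pi.single i 1
  let L : (Fin 4 → k) →ₗ[k] (Fin 4 × Fin 4 → k) := LinearMap.pi fun ij => lin F (e ij.1) (e ij.2)
  have hL : LinearMap.ker L = ⊥ := by
    rw [LinearMap.ker_eq_bot']
    intro w hw
    by_contra hw0
    refine hcone ⟨w, hw0, MvPolynomial.funext fun x => ?_⟩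
    simp only [map_sum, MvPolynomial.smul_eval, map_zero]
    rw [grad_eq hF]
    have h0 : ∀ i j, T F (e i) (e j) w = 0 := fun i j => congrFun hw (i, j)
    have h1 : ∀ u i, T F (e i) u w = 0 := fun u i => by
      rw [s23]
      conv_lhs => rw [pi_eq_sum_univ' u, ← lin_apply, map_sum]
      exact Finset.sum_eq_zero fun j _ => by
        rw [map_smul, lin_apply, s23]; simp [e, h0 i j]
    have h2 : T F x x w = 0 := by
      have hl : lin F x w = 0 := LinearMap.pi_ext' fun j => LinearMap.ext_ring (by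
        simp only [LinearMap.comp_apply, LinearMap.single_apply, lin_apply, LinearMap.zero_apply]
        rw [s13, s23]
        exact h1 x j)
      rw [s23, ← lin_apply, hl, LinearMap.zero_apply]
    rw [h2, mul_zero]
  obtain ⟨g, hg⟩ := L.exists_leftInverse_of_injective hL
  refine hv (funext fun l => ?_)
  let φ : (Fin 4 × Fin 4 → k) →ₗ[k] k := (LinearMap.proj l).comp g
  have key : ∀ u : Fin 4 → K, u l =
      ∑ ij : Fin 4 × Fin 4, ι (φ (Pi.single ij 1)) * T (MvPolynomial.map ι F) (rv (e ij.1)) (rv (e ij.2)) u := by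
    intro u
    have hbasis : ∀ j, rv (K := K) (e j) = Pi.single j 1 := fun j => by
      funext i; by_cases h : i = j <;> simp [rv, e, h]
    let Φ : (Fin 4 → K) →ₗ[K] K :=
      ∑ ij : Fin 4 × Fin 4, ι (φ (Pi.single ij 1)) • lin (MvPolynomial.map ι F) (rv (e ij.1)) (rv (e ij.2))
    have : (LinearMap.proj l : (Fin 4 → K) →ₗ[K] K) = Φ := by
      refine LinearMap.pi_ext' fun j => LinearMap.ext_ring ?_
      simp only [LinearMap.comp_apply, LinearMap.single_apply, Φ, LinearMap.sum_apply,
        LinearMap.smul_apply, lin_apply, LinearMap.proj_apply]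
      rw [← hbasis j]
      simp only [map_T, smul_eq_mul, ← map_mul, ← map_sum]
      show algebraMap k K (e j l) = _
      congr 1
      have h := congrArg (fun f => f (e j) l) hg
      simp only [LinearMap.comp_apply, LinearMap.id_apply] at h
      rw [← h]
      show φ (L (e j)) = _
      conv_lhs => rw [pi_eq_sum_univ' (L (e j))]
      simp [L, mul_comm]
    have h := congrArg (fun f => f u) this
    simpa [Φ, LinearMap.sum_apply, Algebra.smul_def] using h
  rw [key v]
  refine Finset.sum_eq_zero fun ij _ => mul_eq_zero_of_right _ ?_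
  set x := rv (K := K) (e ij.1)
  set y := rv (K := K) (e ij.2)
  have h := hcon (x + y)
  rw [expand_add, hcon x, hcon y] at h
  linear_combination (1/2 : K) * h

/-- The third intersection point of the surface with a line tangent at `a`. -/
noncomputable def third (F : MvPolynomial (Fin 4) k) (a w : Fin 4 → k) : Fin 4 → k :=
  T F w w w • a + (-(3 * T F a w w)) • w

omit [Algebra k K] [IsAlgClosed K] [CharZero K] in
theorem third_mem {a w : Fin 4 → k} (ha : T F a a a = 0) (haw : T F a a w = 0) :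
    T F (third F a w) (third F a w) (third F a w) = 0 := by
  rw [third, expand_cube]
  simp only [smul1, smul2, smul3, ha, haw, s13 w w a]
  ring

variable {G : MvPolynomial (Fin 4) K}

theorem eval_polar (hG : G.IsHomogeneous 3) (a x : Fin 4 → K) :
    eval x (∑ i, C (a i) * pderiv i G) = 3 * T G a x x := by
  rw [map_sum, s13 a x x, ← grad_eq hG]
  simp

theorem factor_cubic (A B C' D : K) : ∃ a b c d e f : K, ∀ s t : K,
    A * s ^ 3 + B * s ^ 2 * t + C' * s * t ^ 2 + D * t ^ 3 =
      (a * s + b * t) * (c * s + d * t) * (e * s + f * t) := by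
  by_cases hA : A = 0
  · obtain ⟨c, d, e, f, h⟩ := factor_binary B C' D
    exact ⟨0, 1, c, d, e, f, fun s t => by rw [hA]; linear_combination t * h s t⟩
  obtain ⟨r, hr⟩ := IsAlgClosed.exists_root
    (Polynomial.C A * Polynomial.X ^ 3 + Polynomial.C B * Polynomial.X ^ 2 +
      Polynomial.C C' * Polynomial.X + Polynomial.C D)
    (by rw [Polynomial.degree_cubic hA]; decide)
  simp only [Polynomial.IsRoot, Polynomial.eval_add, Polynomial.eval_mul, Polynomial.eval_C,
    Polynomial.eval_pow, Polynomial.eval_X] at hr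
  obtain ⟨c, d, e, f, h⟩ := factor_binary A (B + A * r) (C' + (B + A * r) * r)
  exact ⟨1, -r, c, d, e, f, fun s t => by linear_combination (s - r * t) * h s t + t ^ 3 * hr⟩

/-- Avoiding finitely many planes on the tangent section at a point that is not a T-point. -/
theorem avoid_smooth (hF : F.IsHomogeneous 3) {b : Fin 4 → k} (hb : T F b b b = 0)
    (hsm : ∃ y, T F b b y ≠ 0) (hT : ¬ TP (MvPolynomial.map ι F) (rv b))
    {Φ : Set ((Fin 4 → K) →ₗ[K] K)} (hΦ : Φ.Finite)
    (hne : ∀ φ ∈ Φ, ∃ x, T (MvPolynomial.map ι F) (rv b) (rv b) x = 0 ∧ φ x ≠ 0) :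
    ∃ w, T F b b w = 0 ∧ T F b w w ≠ 0 ∧ ∀ φ ∈ Φ, φ (rv (third F b w)) ≠ 0 := by
  classical
  set FK := MvPolynomial.map ι F with hFK
  have hFKh : FK.IsHomogeneous 3 := hF.map _
  obtain ⟨f, hf⟩ := hsm
  have hb0 : b ≠ 0 := fun e => hf (by rw [e, zero1])
  have hbf : LinearIndependent k ![f, b] := li_pair hb0 fun hm => by
    obtain ⟨c, rfl⟩ := Submodule.mem_span_singleton.1 hm
    exact hf (by rw [smul3, hb, mul_zero])
  obtain ⟨g₀, hg₀⟩ := exists_snoc hbf (by norm_num)
  obtain ⟨h₀, hh₀⟩ := exists_snoc hg₀ (by norm_num)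
  have hli₀ : LinearIndependent k ![f, b, g₀, h₀] := by
    convert hh₀ using 1
    funext i; fin_cases i <;> simp [Fin.snoc] <;> rfl
  set g := g₀ + (-(T F b b g₀ / T F b b f)) • f with hgdef
  set h := h₀ + (-(T F b b h₀ / T F b b f)) • f with hhdef
  have hg : T F b b g = 0 := by simp only [hgdef, add3, smul3]; field_simp; ring
  have hh : T F b b h = 0 := by simp only [hhdef, add3, smul3]; field_simp; ring
  have hli : LinearIndependent k ![b, g, h, f] := by
    rw [Fintype.linearIndependent_iff]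
    intro c hc
    simp [Fin.sum_univ_four] at hc
    have h0 := Fintype.linearIndependent_iff.1 hli₀
      ![c 3 - c 1 * (T F b b g₀ / T F b b f) - c 2 * (T F b b h₀ / T F b b f), c 0, c 1, c 2] (by
        simp [Fin.sum_univ_four]
        rw [← hc, hgdef, hhdef]; module)
    have k0 := h0 0
    have k1 := h0 1
    have k2 := h0 2
    have k3 := h0 3
    simp at k0 k1 k2 k3
    intro i; fin_cases i
    · exact k1
    · exact k2
    · exact k3
    · simpa [k2, k3] using k0
  have hliK := li_rv (K := K) hli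
  obtain ⟨ψ, hψ, -⟩ := exists_coord hliK
  set B := rv (K := K) b
  have hBB : T FK B B B = 0 := by rw [hFK, map_T, hb, map_zero]
  have hBg : T FK B B (rv g) = 0 := by rw [hFK, map_T, hg, map_zero]
  have hBh : T FK B B (rv h) = 0 := by rw [hFK, map_T, hh, map_zero]
  have hBf : T FK B B (rv f) ≠ 0 := by
    rw [hFK, map_T]; simpa using hf
  have hdec : ∀ x, T FK B B x = 0 →
      x = ψ 0 x • B + (ψ 1 x • rv g + ψ 2 x • rv h) := fun x hx => by
    have h3 : ψ 3 x = 0 := by
      have := hx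
      rw [hψ x] at this
      simp only [add3, smul3, hBB, hBg, hBh, mul_zero, zero_add] at this
      exact (mul_eq_zero.1 this).resolve_right hBf
    conv_lhs => rw [hψ x, h3, zero_smul, add_zero, add_assoc]
  have hexp : ∀ (σ : K) (u : Fin 4 → K), T FK B B u = 0 →
      T FK (σ • B + u) (σ • B + u) (σ • B + u) = 3 * σ * T FK B u u + T FK u u u := fun σ u hu => by
    rw [expand_cube]
    simp only [smul1, smul2, smul3, hBB, hu, s13 u u B]
    ring
  let S : MvPolynomial (Fin 4) K →ₐ[K] MvPolynomial (Fin 2) K :=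
    aeval fun i => C (rv g i) * X 0 + C (rv h i) * X 1
  let ev : (Fin 2 → K) → Fin 4 → K := fun z => z 0 • rv g + z 1 • rv h
  have hS : ∀ z P, eval z (S P) = eval (ev z) P := fun z P => by
    rw [Polar.eval_aeval]
    congr 1
    congr 1
    funext i; simp [ev, mul_comm]
  have hev : ∀ z, T FK B B (ev z) = 0 := fun z => by simp [ev, add3, smul3, hBg, hBh]
  let R : MvPolynomial (Fin 2) K := S (∑ i, C (B i) * pderiv i FK)
  have hR : ∀ z, eval z R = 3 * T FK B (ev z) (ev z) := fun z => by rw [hS, eval_polar hFKh]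
  have hR0 : R ≠ 0 := by
    intro hR0
    refine hT ⟨fun e => hBf (by rw [e, zero1]), hBB, ⟨_, hBf⟩, ?_⟩
    set p := rv (K := K) g
    set q := rv (K := K) h
    obtain ⟨a, b', c, d, e, f', hfac⟩ := factor_cubic (T FK p p p) (3 * T FK p p q) (3 * T FK q q p) (T FK q q q)
    refine ⟨![a • ψ 1 + b' • ψ 2, c • ψ 1 + d • ψ 2, e • ψ 1 + f' • ψ 2], fun x hx => ?_⟩
    have hQ : T FK B (ψ 1 x • p + ψ 2 x • q) (ψ 1 x • p + ψ 2 x • q) = 0 := by
      have := hR ![ψ 1 x, ψ 2 x]
      rw [hR0, map_zero] at this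
      simpa [ev, p, q] using this.symm
    have hu : T FK B B (ψ 1 x • p + ψ 2 x • q) = 0 := by simp [add3, smul3, p, q, hBg, hBh]
    conv_lhs => rw [hdec x hx, hexp _ _ hu, hQ, mul_zero, zero_add, expand_cube]
    simp only [smul1, smul2, smul3, Matrix.cons_val_zero, Matrix.cons_val_one, Matrix.cons_val,
      LinearMap.add_apply, LinearMap.smul_apply, smul_eq_mul]
    linear_combination hfac (ψ 1 x) (ψ 2 x)
  let P : Φ → MvPolynomial (Fin 2) K := fun φ =>
    S (FK * C (φ.1 B) - (∑ i, C (B i) * pderiv i FK) * lf φ.1)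
  have hPev : ∀ φ z, eval z (P φ) =
      T FK (ev z) (ev z) (ev z) * φ.1 B - 3 * T FK B (ev z) (ev z) * φ.1 (ev z) := fun φ z => by
    rw [hS, map_sub, map_mul, map_mul, eval_polar hFKh, eval_lf, eval_eq hFKh, eval_C]
  have hP0 : ∀ φ, P φ ≠ 0 := by
    intro φ hP
    have hz : ∀ z, T FK (ev z) (ev z) (ev z) * φ.1 B - 3 * T FK B (ev z) (ev z) * φ.1 (ev z) = 0 :=
      fun z => by rw [← hPev, hP, map_zero]
    set p := rv (K := K) g
    set q := rv (K := K) h
    by_cases hφB : φ.1 B = 0
    · obtain ⟨x₀, hx₀, hx₀φ⟩ := hne φ.1 φ.2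
      rw [hdec x₀ hx₀, map_add, map_smul, hφB, smul_zero, zero_add] at hx₀φ
      have hprod : R * S (lf φ.1) = 0 := MvPolynomial.funext fun z => by
        rw [map_mul, hR, hS, eval_lf, map_zero]
        have := hz z
        rw [hφB] at this
        linear_combination -this
      rcases mul_eq_zero.1 hprod with h0 | h0
      · exact hR0 h0
      · have := hS ![ψ 1 x₀, ψ 2 x₀] (lf φ.1)
        rw [h0, map_zero, eval_lf] at this
        exact hx₀φ (by simpa [ev, p, q] using this.symm)
    · refine hT ⟨fun e => hBf (by rw [e, zero1]), hBB, ⟨_, hBf⟩, ?_⟩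
      obtain ⟨a, b', c, d, hfac⟩ := factor_binary (T FK B p p) (2 * T FK B p q) (T FK B q q)
      refine ⟨![(3 : K) • (a • ψ 1 + b' • ψ 2), c • ψ 1 + d • ψ 2, (φ.1 B)⁻¹ • φ.1], fun x hx => ?_⟩
      have hu : T FK B B (ψ 1 x • p + ψ 2 x • q) = 0 := by simp [add3, smul3, p, q, hBg, hBh]
      have h1 := hz ![ψ 1 x, ψ 2 x]
      simp only [ev, Matrix.cons_val_zero, Matrix.cons_val_one] at h1
      have hQ : T FK B (ψ 1 x • p + ψ 2 x • q) (ψ 1 x • p + ψ 2 x • q) =
          (a * ψ 1 x + b' * ψ 2 x) * (c * ψ 1 x + d * ψ 2 x) := by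
        rw [← hfac]
        simp only [add2, add3, smul2, smul3, s23 B q p]
        ring
      have hφx : φ.1 x = ψ 0 x * φ.1 B + φ.1 (ψ 1 x • p + ψ 2 x • q) := by
        conv_lhs => rw [hdec x hx, map_add, map_smul, smul_eq_mul]
      conv_lhs => rw [hdec x hx, hexp _ _ hu]
      simp only [Matrix.cons_val_zero, Matrix.cons_val_one, Matrix.cons_val, LinearMap.add_apply,
        LinearMap.smul_apply, smul_eq_mul, hφx]
      rw [hQ] at h1 ⊢
      field_simp
      linear_combination h1
  have := hΦ.to_subtype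
  obtain ⟨z, hz⟩ := exists_rat (k := k) (fun o : Option Φ => o.elim R P) fun o => by
    cases o with
    | none => exact hR0
    | some φ => exact hP0 φ
  set w := z 0 • g + z 1 • h with hwdef
  have hw : ev (fun j => ι (z j)) = rv w := by
    simp only [ev, hwdef, rv_add, rv_smul]
  refine ⟨w, by simp [hwdef, add3, smul3, hg, hh], fun h0 => hz none ?_, fun φ hφ h0 => hz (some ⟨φ, hφ⟩) ?_⟩
  · show eval _ R = 0
    rw [hR, hw, hFK, map_T, h0, map_zero, mul_zero]
  · show eval _ (P _) = 0
    rw [hPev, hw, hFK, map_T, map_T]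
    rw [third, rv_add, rv_smul, rv_smul, map_add, map_smul, map_smul, map_neg, map_mul, map_ofNat,
      smul_eq_mul, smul_eq_mul] at h0
    linear_combination h0

/-- Avoiding finitely many planes from a singular point. -/
theorem avoid_singular (hG : Good (MvPolynomial.map ι F)) {a : Fin 4 → k} (ha : a ≠ 0)
    (hsg : ∀ y, T F a a y = 0) {Φ : Set ((Fin 4 → K) →ₗ[K] K)} (hΦ : Φ.Finite) (hne : ∀ φ ∈ Φ, φ ≠ 0) :
    ∃ w, ∀ φ ∈ Φ, φ (rv (third F a w)) ≠ 0 := by
  classical
  set FK := MvPolynomial.map ι F with hFK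
  set A := rv (K := K) a
  have hA : A ≠ 0 := fun e => ha (funext fun i => by
    simpa [A, rv] using congrFun e i)
  let R : MvPolynomial (Fin 4) K := ∑ i, C (A i) * pderiv i FK
  let P : Φ → MvPolynomial (Fin 4) K := fun φ => FK * C (φ.1 A) - R * lf φ.1
  have hPev : ∀ φ x, eval x (P φ) = T FK x x x * φ.1 A - 3 * T FK A x x * φ.1 x := fun φ x => by
    simp only [P, R]
    rw [map_sub, map_mul, map_mul, eval_polar hG.hom, eval_lf, eval_eq hG.hom, eval_C]
  have hP0 : ∀ φ, P φ ≠ 0 := by
    intro φ hP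
    have hz : ∀ x, T FK x x x * φ.1 A - 3 * T FK A x x * φ.1 x = 0 := fun x => by
      rw [← hPev, hP, map_zero]
    obtain ⟨x, hx, hx3⟩ := no_hyperplane hG (hne φ.1 φ.2)
    by_cases hφA : φ.1 A = 0
    · have hprod : R * lf φ.1 = 0 := MvPolynomial.funext fun y => by
        simp only [R]
        rw [map_mul, eval_polar hG.hom, eval_lf, map_zero]
        have := hz y
        rw [hφA] at this
        linear_combination -this
      rcases mul_eq_zero.1 hprod with h0 | h0
      · obtain ⟨y, hy⟩ := hG.cone A hA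
        have h := eval_polar hG.hom A y
        rw [show (∑ i, C (A i) * pderiv i FK) = R from rfl, h0, map_zero] at h
        refine hy ?_
        rw [s13]
        linear_combination (-1/3 : K) * h
      · refine hne φ.1 φ.2 (LinearMap.ext fun y => ?_)
        rw [← eval_lf, h0, map_zero, LinearMap.zero_apply]
    · have := hz x
      rw [hx, mul_zero, sub_zero] at this
      exact hx3 ((mul_eq_zero.1 this).resolve_right hφA)
  have := hΦ.to_subtype
  obtain ⟨z, hz⟩ := exists_rat (k := k) P hP0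
  refine ⟨z, fun φ hφ h0 => hz ⟨φ, hφ⟩ ?_⟩
  rw [hPev, show (fun j => ι (z j)) = rv z from rfl, hFK, map_T, map_T]
  rw [third, rv_add, rv_smul, rv_smul, map_add, map_smul, map_smul, map_neg, map_mul, map_ofNat,
    smul_eq_mul, smul_eq_mul] at h0
  linear_combination h0

/-- Rational points lie in no finite union of planes. -/
theorem exists_point (hF : F.IsHomogeneous 3) (hG : Good (MvPolynomial.map ι F)) {a : Fin 4 → k}
    (ha : a ≠ 0) (hFa : T F a a a = 0) (hT : ¬ TP (MvPolynomial.map ι F) (rv a))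
    {Φ : Set ((Fin 4 → K) →ₗ[K] K)} (hΦ : Φ.Finite) (hne : ∀ φ ∈ Φ, φ ≠ 0) :
    ∃ x : Fin 4 → k, T F x x x = 0 ∧ ∀ φ ∈ Φ, φ (rv x) ≠ 0 := by
  classical
  by_cases hsg : ∀ y, T F a a y = 0
  · obtain ⟨w, hw⟩ := avoid_singular hG ha hsg hΦ hne
    exact ⟨third F a w, third_mem hFa (hsg w), hw⟩
  push Not at hsg
  obtain ⟨f, hf⟩ := hsg
  set FK := MvPolynomial.map ι F with hFK
  set A := rv (K := K) a
  have hA0 : A ≠ 0 := fun e => ha (funext fun i => by simpa [A, rv] using congrFun e i)
  have hAA : T FK A A A = 0 := by rw [hFK, map_T, hFa, map_zero]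
  have hsmK : ∃ y, T FK A A y ≠ 0 := ⟨rv f, by rw [hFK, map_T]; simpa using hf⟩
  set H := LinearMap.ker (lin FK A A) with hH
  have hHrk : Module.finrank K H + 1 = 4 := by
    rw [hH, Module.Dual.finrank_ker_add_one_of_ne_zero (f := lin FK A A) fun e => by
      obtain ⟨y, hy⟩ := hsmK
      exact hy (by simpa using congrArg (fun g => g y) e)]
    simp
  set 𝒯 := {W : Submodule K (Fin 4 → K) | Module.finrank K W = 1 ∧ (∀ x ∈ W, T FK A A x = 0) ∧
      ∀ b ∈ W, b ≠ 0 → TP FK b}
  have h𝒯 : 𝒯.Finite := finite_TP hG hT hA0 hAA hsmK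
  have hψ : ∀ W : 𝒯, ∃ φ : (Fin 4 → K) →ₗ[K] K, (∀ x ∈ W.1, φ x = 0) ∧ ∃ x, T FK A A x = 0 ∧ φ x ≠ 0 := by
    rintro ⟨W, hW⟩
    obtain ⟨y, hyH, hyW⟩ : ∃ y ∈ H, y ∉ W := by
      by_contra hc
      push Not at hc
      have := Submodule.finrank_mono (show H ≤ W from hc)
      rw [hW.1] at this
      omega
    obtain ⟨φ, hφy, hφW⟩ := Submodule.exists_dual_map_eq_bot_of_notMem hyW inferInstance
    exact ⟨φ, fun x hx => by
      have : φ x ∈ W.map φ := Submodule.mem_map_of_mem hx
      rwa [hφW, Submodule.mem_bot] at this, y, hyH, hφy⟩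
  choose ψ hψ0 hψne using hψ
  have := h𝒯.to_subtype
  set Φ₁ := Set.range ψ ∪ {φ ∈ Φ | ∃ x, T FK A A x = 0 ∧ φ x ≠ 0}
  obtain ⟨w, haw, haww, hw⟩ := avoid_smooth (Φ := Φ₁) hF hFa ⟨f, hf⟩ hT
    ((Set.finite_range ψ).union (hΦ.subset fun φ h => h.1)) (by
      rintro φ (⟨W, rfl⟩ | h)
      · exact hψne W
      · exact h.2)
  set b := third F a w with hbdef
  have hb : T F b b b = 0 := third_mem hFa haw
  have hbba : T F b b a = 9 * T F a w w ^ 3 := by
    rw [hbdef, third, expand_add]
    simp only [smul1, smul2, hFa, s23 a w a, haw, s13 w w a]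
    ring
  have hbba0 : T F b b a ≠ 0 := by
    rw [hbba]; exact mul_ne_zero (by norm_num) (pow_ne_zero _ haww)
  have hAab : T FK A A (rv b) = 0 := by
    rw [hFK, map_T, hbdef, third]
    simp only [add3, smul3, hFa, haw]
    simp
  have hbT : ¬ TP FK (rv b) := by
    intro htp
    have hW : Submodule.span K {rv (K := K) b} ∈ 𝒯 := by
      refine ⟨finrank_span_singleton htp.1, fun x hx => ?_, fun x hx hx0 => ?_⟩
      · obtain ⟨c, rfl⟩ := Submodule.mem_span_singleton.1 hx
        rw [smul3, hAab, mul_zero]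
      · obtain ⟨c, rfl⟩ := Submodule.mem_span_singleton.1 hx
        obtain ⟨-, h3, ⟨y, hy⟩, L, hL⟩ := htp
        have hc : c ≠ 0 := fun e => hx0 (by simp [e])
        refine ⟨hx0, by simp [smul1, smul2, smul3, h3], ⟨y, ?_⟩, L, fun z hz => hL z ?_⟩
        · simp [smul1, smul2, hc, hy]
        · simpa [smul1, smul2, hc] using hz
    exact hw _ (Or.inl ⟨⟨_, hW⟩, rfl⟩) (hψ0 ⟨_, hW⟩ _ (Submodule.mem_span_singleton_self _))
  obtain ⟨w', hbw', -, hw'⟩ := avoid_smooth (Φ := Φ) hF hb ⟨a, hbba0⟩ hbT hΦ fun φ hφ => by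
    by_cases hφH : ∃ x, T FK A A x = 0 ∧ φ x ≠ 0
    · exact ⟨rv b, by rw [map_T, hb, map_zero], hw _ (Or.inr ⟨hφ, hφH⟩)⟩
    · push Not at hφH
      by_contra hcon
      push Not at hcon
      have hle : LinearMap.ker (lin FK (rv b) (rv b)) ≤ LinearMap.ker φ := fun x hx => hcon x hx
      have h1 := Module.Dual.finrank_ker_add_one_of_ne_zero (hne φ hφ)
      have hb0 : T FK (rv b) (rv b) A ≠ 0 := by
        rw [hFK, map_T]; simpa using hbba0
      have h2 := Module.Dual.finrank_ker_add_one_of_ne_zero (f := lin FK (rv b) (rv b)) fun e =>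
        hb0 (by simpa using congrArg (fun g => g A) e)
      have heq := Submodule.eq_of_le_of_finrank_le hle (by omega)
      exact hb0 (by
        have : A ∈ LinearMap.ker φ := hφH A hAA
        rw [← heq] at this
        exact this)
  exact ⟨third F b w', third_mem hb hbw', hw'⟩

/-- A point outside the T-locus, in terms of polynomials. -/
theorem not_TP_of (hF : F.IsHomogeneous 3) (hG : Good (MvPolynomial.map ι F)) {a : Fin 4 → k}
    {ℓ : MvPolynomial (Fin 4) K}
    (hℓ : ℓ = ∑ i : Fin 4, C (algebraMap k K (eval a (pderiv i F))) * X i)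
    (hT : ¬ ∃ L₁ L₂ L₃ : MvPolynomial (Fin 4) K, L₁.IsHomogeneous 1 ∧ L₂.IsHomogeneous 1 ∧
      L₃.IsHomogeneous 1 ∧ MvPolynomial.map ι F - L₁ * L₂ * L₃ ∈ Ideal.span {ℓ}) :
    ¬ TP (MvPolynomial.map ι F) (rv a) := by
  rintro ⟨-, -, ⟨y, hy⟩, L, hL⟩
  set φ : (Fin 4 → K) →ₗ[K] K := (3 : K) • lin (MvPolynomial.map ι F) (rv a) (rv a)
  have hℓ' : lf φ = ℓ := by
    rw [hℓ]
    refine Finset.sum_congr rfl fun i _ => ?_
    congr 2
    have h : eval (rv (K := K) a) (pderiv i (MvPolynomial.map ι F)) = ι (eval a (pderiv i F)) := by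
      rw [pderiv_map, eval_map, ← aeval_def]
      exact (aeval_algebraMap_apply (B := K) a _)
    rw [← h, eval_pderiv_eq hG.hom]
    simp [φ]
  refine hT ⟨lf (L 0), lf (L 1), lf (L 2), lf_isHomogeneous _, lf_isHomogeneous _, lf_isHomogeneous _, ?_⟩
  rw [Ideal.mem_span_singleton, ← hℓ']
  refine dvd_of_vanish (fun h0 => hy (by simpa [φ] using congrArg (fun f => f y) h0)) fun x hx => ?_
  rw [map_sub, map_mul, map_mul, eval_eq hG.hom, eval_lf, eval_lf, eval_lf,
    hL x (by simpa [φ] using hx), sub_self]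

/-- Five rational points in general position. -/
theorem exists_five (hF : F.IsHomogeneous 3) (hG : Good (MvPolynomial.map ι F)) {a : Fin 4 → k}
    (ha : a ≠ 0) (hFa : T F a a a = 0) (hT : ¬ TP (MvPolynomial.map ι F) (rv a)) :
    ∃ p : Fin 5 → (Fin 4 → k), p 0 = a ∧ (∀ j, eval (p j) F = 0) ∧
      ∀ j : Fin 5, LinearIndependent k fun i : Fin 4 => p (j.succAbove i) := by
  classical
  have hfun : ∀ {m : ℕ} (f : Fin m → Fin 4 → K), m < 4 →
      ∃ φ : (Fin 4 → K) →ₗ[K] K, φ ≠ 0 ∧ ∀ i, φ (f i) = 0 := by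
    intro m f hm
    have hlt : Submodule.span K (Set.range f) < ⊤ := lt_top_iff_ne_top.2 fun e => by
      have := finrank_range_le_card (R := K) f
      rw [Set.finrank, e] at this
      simp at this
      omega
    obtain ⟨φ, hφ, hle⟩ := Submodule.exists_le_ker_of_lt_top _ hlt
    exact ⟨φ, hφ, fun i => hle (Submodule.subset_span ⟨i, rfl⟩)⟩
  have step : ∀ {m : ℕ} (S : Finset ((Fin m → Fin 4 → K))), m < 4 → ∃ x : Fin 4 → k, T F x x x = 0 ∧
      ∀ f ∈ S, LinearIndependent K f → LinearIndependent K (Fin.snoc f (rv x) : Fin (m + 1) → Fin 4 → K) := by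
    intro m S hm
    choose φ hφ0 hφ using fun f : Fin m → Fin 4 → K => hfun f hm
    obtain ⟨x, hx, hxφ⟩ := exists_point hF hG ha hFa hT (Φ := φ '' (S : Set _))
      (S.finite_toSet.image φ) (by rintro _ ⟨f, -, rfl⟩; exact hφ0 f)
    refine ⟨x, hx, fun f hf hli => linearIndependent_fin_snoc.2 ⟨hli, fun hmem => ?_⟩⟩
    refine hxφ _ ⟨f, hf, rfl⟩ ?_
    have hle : Submodule.span K (Set.range f) ≤ LinearMap.ker (φ f) :=
      Submodule.span_le.2 (by rintro _ ⟨i, rfl⟩; exact hφ f i)
    exact hle hmem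
  set A := rv (K := K) a with hAdef
  have hA : A ≠ 0 := fun e => ha (funext fun i => by simpa [A, rv] using congrFun e i)
  obtain ⟨x1, h1, l1⟩ := step (m := 1) {![A]} (by norm_num)
  obtain ⟨x2, h2, l2⟩ := step (m := 2) {![A, rv x1]} (by norm_num)
  obtain ⟨x3, h3, l3⟩ := step (m := 3) {![A, rv x1, rv x2]} (by norm_num)
  obtain ⟨x4, h4, l4⟩ := step (m := 3)
    {![rv x1, rv x2, rv x3], ![A, rv x2, rv x3], ![A, rv x1, rv x3], ![A, rv x1, rv x2]} (by norm_num)
  have L1 : LinearIndependent K ![A, rv x1] := by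
    convert l1 _ (Finset.mem_singleton_self _) (linearIndependent_unique_iff.2 (by simpa using hA)) using 1
    funext i; fin_cases i <;> simp [Fin.snoc] <;> rfl
  have L2 : LinearIndependent K ![A, rv x1, rv x2] := by
    convert l2 _ (Finset.mem_singleton_self _) L1 using 1
    funext i; fin_cases i <;> simp [Fin.snoc] <;> rfl
  have L3 : LinearIndependent K ![A, rv x1, rv x2, rv x3] := by
    convert l3 _ (Finset.mem_singleton_self _) L2 using 1
    funext i; fin_cases i <;> simp [Fin.snoc] <;> rfl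
  refine ⟨![a, x1, x2, x3, x4], rfl, fun j => ?_, fun j => li_of_rv (K := K) ?_⟩
  · rw [eval_eq hF]
    fin_cases j
    exacts [hFa, h1, h2, h3, h4]
  have sub3 : ∀ (s : Fin 3 → Fin 4), Function.Injective s →
      LinearIndependent K (![A, rv x1, rv x2, rv x3] ∘ s) := fun s hs => L3.comp s hs
  have fin : ∀ {f g : Fin 4 → Fin 4 → K}, LinearIndependent K f → f = g → LinearIndependent K g :=
    fun h e => e ▸ h
  fin_cases j
  · refine fin (l4 ![rv x1, rv x2, rv x3] (by simp) ?_) ?_
    · convert sub3 ![1, 2, 3] (by decide) using 1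
      funext i; fin_cases i <;> rfl
    · funext i; fin_cases i <;> rfl
  · refine fin (l4 ![A, rv x2, rv x3] (by simp) ?_) ?_
    · convert sub3 ![0, 2, 3] (by decide) using 1
      funext i; fin_cases i <;> rfl
    · funext i; fin_cases i <;> rfl
  · refine fin (l4 ![A, rv x1, rv x3] (by simp) ?_) ?_
    · convert sub3 ![0, 1, 3] (by decide) using 1
      funext i; fin_cases i <;> rfl
    · funext i; fin_cases i <;> rfl
  · refine fin (l4 ![A, rv x1, rv x2] (by simp) ?_) ?_
    · exact L2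
    · funext i; fin_cases i <;> rfl
  · refine fin L3 ?_
    funext i; fin_cases i <;> rfl

end Groth.Agent.Lib.LefPen45.CubicPoints
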