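import Groth.Agent.Lib.LefPen45.Open
import Groth.Agent.Lib.LefPen45.FiniteLines
import Mathlib.Algebra.MvPolynomial.Funext
import Mathlib.RingTheory.Ideal.UFD
import Mathlib.RingTheory.AlgebraicIndependent.TranscendenceBasis
import Mathlib.RingTheory.IntegralClosure.IsIntegralClosure.Basic
import Mathlib.RingTheory.Polynomial.UniqueFactorization
import Mathlib.LinearAlgebra.Matrix.NonsingularInverse
import Mathlib.LinearAlgebra.Matrix.Permutation

/-!
# The discriminant of forms: singular forms form an irreducible hypersurface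
-/

set_option autoImplicit false
set_option linter.style.haveILetI false

universe u

open MvPolynomial

namespace Groth.Agent.Lib.LefPen45.Discriminant

open LefPen
open Groth.Agent.H83.LineExist (Idx form coeff_form form_coeff form_isHomogeneous map_form)
open Groth.Agent.Lib.PolyFun45
open Groth.Agent.Lib.Dim.Basic (dimQ trdegNat)

/-! ### Substitutions -/

section General

variable {A B : Type*} [CommRing A] [CommRing B] {n d : ℕ}

/-- A linear substitution. -/
noncomputable def sub (M : Matrix (Fin (n + 1)) (Fin (n + 1)) A) :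
    MvPolynomial (Fin (n + 1)) A →ₐ[A] MvPolynomial (Fin (n + 1)) A :=
  aeval fun i => ∑ j, C (M i j) * X j

theorem sub_sub (M N : Matrix (Fin (n + 1)) (Fin (n + 1)) A) (F : MvPolynomial (Fin (n + 1)) A) :
    sub M (sub N F) = sub (N * M) F := by
  rw [← AlgHom.comp_apply]
  congr 1
  refine algHom_ext fun i => ?_
  simp only [AlgHom.comp_apply, sub, aeval_X, map_sum, map_mul, aeval_C, algebraMap_eq,
    Matrix.mul_apply, Finset.mul_sum, Finset.sum_mul]
  rw [Finset.sum_comm]
  exact Finset.sum_congr rfl fun j _ => Finset.sum_congr rfl fun l _ => by ring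

theorem sub_one (F : MvPolynomial (Fin (n + 1)) A) : sub (1 : Matrix _ _ A) F = F := by
  have : sub (1 : Matrix (Fin (n + 1)) (Fin (n + 1)) A) = AlgHom.id A _ :=
    algHom_ext fun i => by simp [sub, Matrix.one_apply, apply_ite (C (σ := Fin (n + 1)))]
  rw [this]; rfl

theorem sub_isHomogeneous (M : Matrix (Fin (n + 1)) (Fin (n + 1)) A) {F : MvPolynomial (Fin (n + 1)) A}
    (hF : F.IsHomogeneous d) : (sub M F).IsHomogeneous d := by
  have := hF.aeval (fun i => ∑ j, C (M i j) * X j) (n := 1) fun i =>
    IsHomogeneous.sum _ _ _ fun j _ => isHomogeneous_C_mul_X _ _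
  rwa [one_mul] at this

theorem map_sub' (φ : A →+* B) (M : Matrix (Fin (n + 1)) (Fin (n + 1)) A)
    (F : MvPolynomial (Fin (n + 1)) A) :
    MvPolynomial.map φ (sub M F) = sub (M.map φ) (MvPolynomial.map φ F) := by
  induction F using MvPolynomial.induction_on with
  | C a => simp [sub]
  | add p q hp hq => simp only [map_add, hp, hq]
  | mul_X p l h => simp only [map_mul, h, MvPolynomial.map_X]; simp [sub]

/-- The shear moving `(1, t)` to `(1, 0)`. -/
def shear (t : Fin n → A) : Matrix (Fin (n + 1)) (Fin (n + 1)) A :=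
  Matrix.of fun i j => (if i = j then 1 else 0) - (if j = 0 then (Fin.cons 0 t : Fin (n + 1) → A) i else 0)

theorem shear_mulVec (t : Fin n → A) (v : Fin (n + 1) → A) (i : Fin (n + 1)) :
    (shear t).mulVec v i = v i - (Fin.cons 0 t : Fin (n + 1) → A) i * v 0 := by
  simp [shear, Matrix.mulVec, dotProduct, sub_mul, Finset.sum_sub_distrib]

theorem shear_mul (t s : Fin n → A) : shear t * shear s = shear (t + s) := by
  refine Matrix.ext_of_mulVec_single fun l => funext fun i => ?_
  rw [← Matrix.mulVec_mulVec, shear_mulVec, shear_mulVec, shear_mulVec, shear_mulVec]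
  refine Fin.cases ?_ (fun i => ?_) i <;> simp
  ring

theorem shear_zero : shear (0 : Fin n → A) = 1 := by
  refine Matrix.ext_of_mulVec_single fun l => funext fun i => ?_
  rw [shear_mulVec, Matrix.one_mulVec]
  refine Fin.cases ?_ (fun i => ?_) i <;> simp

theorem map_shear (φ : A →+* B) (t : Fin n → A) : (shear t).map φ = shear (φ ∘ t) := by
  ext i j
  refine Fin.cases ?_ (fun i => ?_) i <;> simp [shear, apply_ite φ]

/-- The unconstrained coefficients of a form singular at `(1, 0, …, 0)`. -/
abbrev Free (n d : ℕ) : Type := {e : Idx n d // e.1 0 + 2 ≤ d}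

noncomputable instance fintypeFree : Fintype (Free n d) := Fintype.ofFinite _

/-- The form singular at `(1, 0, …, 0)` with given free coefficients. -/
noncomputable def h0 (t : Free n d → A) : MvPolynomial (Fin (n + 1)) A :=
  form fun e : Idx n d => if h : e.1 0 + 2 ≤ d then t ⟨e, h⟩ else 0

theorem map_h0 (φ : A →+* B) (t : Free n d → A) :
    MvPolynomial.map φ (h0 t) = h0 (φ ∘ t) := by
  rw [h0, map_form, h0]
  congr 1
  funext e
  split_ifs <;> simp

/-- The form with a given singular point and free coefficients. -/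
noncomputable def Gpt (x : Fin n ⊕ Free n d → A) : MvPolynomial (Fin (n + 1)) A :=
  sub (shear (x ∘ Sum.inl)) (h0 (x ∘ Sum.inr))

theorem Gpt_isHomogeneous (x : Fin n ⊕ Free n d → A) : (Gpt x).IsHomogeneous d :=
  sub_isHomogeneous _ (form_isHomogeneous _)

theorem map_Gpt (φ : A →+* B) (x : Fin n ⊕ Free n d → A) :
    MvPolynomial.map φ (Gpt x) = Gpt (φ ∘ x) := by
  rw [Gpt, map_sub', map_shear, map_h0]
  rfl

/-- A form and its partial derivatives. -/
noncomputable def fam (G : MvPolynomial (Fin (n + 1)) A) : Option (Fin (n + 1)) → MvPolynomial (Fin (n + 1)) A :=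
  fun o => o.elim G fun i => pderiv i G

/-- Their degrees. -/
def fdeg (d : ℕ) : Option (Fin (n + 1)) → ℕ := fun o => o.elim d fun _ => d - 1

theorem fam_isHomogeneous {G : MvPolynomial (Fin (n + 1)) A} (hG : G.IsHomogeneous d)
    (o : Option (Fin (n + 1))) : (fam G o).IsHomogeneous (fdeg d o) := by
  cases o with
  | none => exact hG
  | some i => exact hG.pderiv

theorem map_fam (φ : A →+* B) (G : MvPolynomial (Fin (n + 1)) A) (o : Option (Fin (n + 1))) :
    MvPolynomial.map φ (fam G o) = fam (MvPolynomial.map φ G) o := by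
  cases o with
  | none => rfl
  | some i => exact (pderiv_map ..).symm

theorem eval_map' (φ : A →+* B) (v : Fin (n + 1) → A) (P : MvPolynomial (Fin (n + 1)) A) :
    φ (eval v P) = eval (φ ∘ v) (MvPolynomial.map φ P) := by
  induction P using MvPolynomial.induction_on with
  | C a => simp
  | add p q hp hq => simp only [map_add, hp, hq]
  | mul_X p l h => simp only [map_mul, h, MvPolynomial.map_X, eval_X, Function.comp_apply]

theorem hc_mul {e : ℕ} {G : MvPolynomial (Fin (n + 1)) A} (hG : G.IsHomogeneous e) (N : ℕ)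
    (P : MvPolynomial (Fin (n + 1)) A) :
    homogeneousComponent N (P * G) = if e ≤ N then homogeneousComponent (N - e) P * G else 0 := by
  have e2 : ∀ j, homogeneousComponent N (homogeneousComponent j P * G) =
      if j + e = N then homogeneousComponent j P * G else 0 := fun j => by
    rw [homogeneousComponent_of_mem ((mem_homogeneousSubmodule _ _).2
      ((homogeneousComponent_isHomogeneous j P).mul hG))]
    exact if_congr eq_comm rfl rfl
  conv_lhs => rw [← sum_homogeneousComponent P, Finset.sum_mul, map_sum]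
  simp only [e2]
  split_ifs with h
  · rw [Finset.sum_eq_single (N - e)]
    · rw [if_pos (by omega)]
    · intro j _ hj; rw [if_neg (by omega)]
    · intro hmem
      rw [Finset.mem_range] at hmem
      rw [if_pos (by omega), homogeneousComponent_eq_zero _ _ (by omega), zero_mul]
  · exact Finset.sum_eq_zero fun j _ => if_neg (by omega)

theorem map_hc (φ : A →+* B) (N : ℕ) (P : MvPolynomial (Fin (n + 1)) A) :
    MvPolynomial.map φ (homogeneousComponent N P) = homogeneousComponent N (MvPolynomial.map φ P) := by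
  ext m
  simp only [coeff_map, coeff_homogeneousComponent]
  split_ifs <;> simp

end General

/-! ### Singular points -/

variable {k : Type u} [Field k] {n d : ℕ}

/-- The polynomial `G` and all its derivatives vanish at `v`. -/
def Sing (G : MvPolynomial (Fin (n + 1)) k) (v : Fin (n + 1) → k) : Prop :=
  eval v G = 0 ∧ ∀ i, eval v (pderiv i G) = 0

theorem sing_iff {G : MvPolynomial (Fin (n + 1)) k} {v : Fin (n + 1) → k} :
    Sing G v ↔ ∀ o, eval v (fam G o) = 0 :=
  ⟨fun h o => by cases o with
    | none => exact h.1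
    | some i => exact h.2 i, fun h => ⟨h none, fun i => h (some i)⟩⟩

theorem eval_sub (M : Matrix (Fin (n + 1)) (Fin (n + 1)) k) (F : MvPolynomial (Fin (n + 1)) k)
    (v : Fin (n + 1) → k) : eval v (sub M F) = eval (M.mulVec v) F := by
  induction F using MvPolynomial.induction_on with
  | C a => simp [sub]
  | add p q hp hq => simp only [map_add, hp, hq]
  | mul_X p l h => simp only [map_mul, h]; simp [sub, Matrix.mulVec, dotProduct]

theorem sing_sub {M : Matrix (Fin (n + 1)) (Fin (n + 1)) k} {F : MvPolynomial (Fin (n + 1)) k}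
    {v : Fin (n + 1) → k} (h : Sing F (M.mulVec v)) : Sing (sub M F) v := by
  refine ⟨by rw [eval_sub]; exact h.1, fun l => ?_⟩
  rw [sub, FiniteLines.deriv_aeval, map_sum]
  refine Finset.sum_eq_zero fun i _ => ?_
  rw [map_mul]
  refine mul_eq_zero_of_left ?_ _
  exact (eval_sub M _ v).trans (h.2 i)

theorem eval_smul_point {F : MvPolynomial (Fin (n + 1)) k} {m : ℕ} (hF : F.IsHomogeneous m) (c : k)
    (w : Fin (n + 1) → k) : eval (c • w) F = c ^ m * eval w F := by
  rw [F.as_sum, map_sum, map_sum, Finset.mul_sum]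
  refine Finset.sum_congr rfl fun e he => ?_
  have hw := hF (mem_support_iff.1 he)
  rw [eval_monomial, eval_monomial, Finsupp.prod, Finsupp.prod]
  simp only [Pi.smul_apply, smul_eq_mul, mul_pow, Finset.prod_mul_distrib, Finset.prod_pow_eq_pow_sum]
  simp [Finsupp.weight_apply, Finsupp.sum] at hw
  rw [hw]; ring

theorem sing_smul {F : MvPolynomial (Fin (n + 1)) k} (hF : F.IsHomogeneous d) (c : k)
    {w : Fin (n + 1) → k} (h : Sing F w) : Sing F (c • w) :=
  ⟨by rw [eval_smul_point hF, h.1, mul_zero],
    fun i => by rw [eval_smul_point hF.pderiv, h.2 i, mul_zero]⟩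

/-- The point `(1, 0, …, 0)`. -/
noncomputable def e0 : Fin (n + 1) → k := Pi.single 0 1

theorem eval_e0 {P : MvPolynomial (Fin (n + 1)) k} {m : ℕ} (hP : P.IsHomogeneous m) :
    eval (e0 (n := n)) P = coeff (Finsupp.single 0 m) P := by
  classical
  conv_lhs => rw [← form_coeff hP, form, map_sum]
  rw [Finset.sum_eq_single (⟨Finsupp.single 0 m, Finsupp.degree_single 0 m⟩ : Idx n m)]
  · simp [eval_monomial, e0]
  · intro e _ he
    obtain ⟨i, hi, hei⟩ : ∃ i, i ≠ 0 ∧ e.1 i ≠ 0 := by
      by_contra hcon
      push Not at hcon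
      refine he (Subtype.ext (Finsupp.ext fun i => ?_))
      by_cases hi : i = 0
      · subst hi
        have h := e.2
        rw [Finsupp.degree_eq_sum, Finset.sum_eq_single (0 : Fin (n + 1))
          (fun j _ hj => hcon j hj) (fun h => absurd (Finset.mem_univ _) h)] at h
        simpa using h
      · simpa [Finsupp.single_eq_of_ne hi] using hcon i hi
    rw [eval_monomial, Finsupp.prod]
    refine mul_eq_zero_of_right _ (Finset.prod_eq_zero (Finsupp.mem_support_iff.2 hei) ?_)
    simp [e0, hi, zero_pow hei]
  · simp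

/-- The dependent coefficients. -/
noncomputable def emb (hd : 1 ≤ d) : Option (Fin n) → Idx n d := fun o =>
  o.elim ⟨Finsupp.single 0 d, Finsupp.degree_single 0 d⟩ fun i =>
    ⟨Finsupp.single 0 (d - 1) + Finsupp.single i.succ 1, by
      rw [map_add, Finsupp.degree_single, Finsupp.degree_single]; omega⟩

theorem emb_zero (hd : 1 ≤ d) (o : Option (Fin n)) : d ≤ (emb hd o).1 0 + 1 := by
  cases o with
  | none => simp [emb]
  | some i => simp [emb, (Fin.succ_ne_zero i).symm]; omega

theorem emb_injective (hd : 1 ≤ d) : Function.Injective (emb (n := n) hd) := by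
  intro a b h
  cases a with
  | none =>
    cases b with
    | none => rfl
    | some j =>
      exact absurd (congrArg (fun e => e.1 j.succ) h) (by simp [emb, Fin.succ_ne_zero j])
  | some i =>
    have h' := congrArg (fun e => e.1 i.succ) h
    cases b with
    | none => simp [emb, Fin.succ_ne_zero i] at h'
    | some j =>
      by_cases hij : i = j
      · rw [hij]
      · simp [emb, Fin.succ_ne_zero i, (Fin.succ_injective n).ne hij] at h'

theorem exists_emb (hd : 1 ≤ d) {e : Idx n d} (he : ¬ e.1 0 + 2 ≤ d) : ∃ o, emb hd o = e := by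
  have hsum : e.1 0 + ∑ i : Fin n, e.1 i.succ = d := by
    rw [← Fin.sum_univ_succ (fun i => e.1 i), ← Finsupp.degree_eq_sum]; exact e.2
  by_cases h : ∑ i : Fin n, e.1 i.succ = 0
  · refine ⟨none, Subtype.ext (Finsupp.ext fun i => ?_)⟩
    refine Fin.cases ?_ (fun i => ?_) i
    · simp [emb]; omega
    · have := Finset.sum_eq_zero_iff.1 h i (Finset.mem_univ _)
      simp [emb, this, Fin.succ_ne_zero i]
  · obtain ⟨i, -, hi⟩ := Finset.exists_ne_zero_of_sum_ne_zero h
    refine ⟨some i, Subtype.ext (Finsupp.ext fun l => ?_)⟩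
    refine Fin.cases ?_ (fun l => ?_) l
    · simp [emb, (Fin.succ_ne_zero i).symm]; omega
    · have h1 := Finset.single_le_sum (f := fun j : Fin n => e.1 j.succ) (fun _ _ => Nat.zero_le _)
        (Finset.mem_univ i)
      by_cases hli : l = i
      · subst hli
        simp [emb, Fin.succ_ne_zero l]
        omega
      · have h2 := Finset.add_le_sum (f := fun j : Fin n => e.1 j.succ) (fun _ _ => Nat.zero_le _)
          (Finset.mem_univ l) (Finset.mem_univ i) hli
        simp [emb, Fin.succ_ne_zero l, (Fin.succ_injective n).ne hli]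
        omega

theorem coeff_pderiv_e0 (hd : 1 ≤ d) (G : MvPolynomial (Fin (n + 1)) k) (i : Fin n) :
    coeff (Finsupp.single 0 (d - 1)) (pderiv i.succ G) = coeff (emb hd (some i)).1 G := by
  rw [coeff_pderiv]
  simp [emb, Fin.succ_ne_zero i]

theorem sing_h0 (hd : 1 ≤ d) (t : Free n d → k) : Sing (h0 t) e0 := by
  have hh : (h0 t).IsHomogeneous d := form_isHomogeneous _
  have hz : ∀ e : Idx n d, ¬ e.1 0 + 2 ≤ d → coeff e.1 (h0 t) = 0 := fun e he => by
    rw [h0, coeff_form, dif_neg he]
  have h0' : coeff (Finsupp.single 0 d) (h0 t) = 0 :=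
    hz (emb hd none) (by simp [emb])
  refine ⟨by rw [eval_e0 hh, h0'], fun i => ?_⟩
  rw [eval_e0 hh.pderiv]
  refine Fin.cases ?_ (fun i => ?_) i
  · rw [coeff_pderiv, ← Finsupp.single_add, Nat.sub_add_cancel hd, h0', zero_mul]
  · rw [coeff_pderiv_e0 hd, hz _ (by have := emb_zero hd (some i); omega)]

theorem eq_h0 (hd : 1 ≤ d) {H : MvPolynomial (Fin (n + 1)) k} (hH : H.IsHomogeneous d)
    (h : Sing H e0) : H = h0 fun e : Free n d => coeff e.1.1 H := by
  conv_lhs => rw [← form_coeff hH]
  rw [h0]
  congr 1
  funext e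
  split_ifs with he
  · rfl
  · obtain ⟨o, rfl⟩ := exists_emb hd he
    cases o with
    | none =>
      have := h.1
      rw [eval_e0 hH] at this
      exact this
    | some i =>
      have := h.2 i.succ
      rw [eval_e0 hH.pderiv, coeff_pderiv_e0 hd] at this
      exact this

theorem sing_Gpt (hd : 1 ≤ d) (x : Fin n ⊕ Free n d → k) :
    Sing (Gpt x) (Fin.cons 1 (x ∘ Sum.inl)) := by
  refine sing_sub ?_
  have : (shear (x ∘ Sum.inl)).mulVec (Fin.cons 1 (x ∘ Sum.inl)) = e0 (k := k) := by
    funext i
    rw [shear_mulVec]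
    refine Fin.cases ?_ (fun i => ?_) i <;> simp [e0]
  rw [this]
  exact sing_h0 hd _

theorem exists_Gpt (hd : 1 ≤ d) {G : MvPolynomial (Fin (n + 1)) k} (hG : G.IsHomogeneous d)
    {v : Fin (n + 1) → k} (hv : v 0 ≠ 0) (h : Sing G v) : ∃ x, Gpt (n := n) (d := d) x = G := by
  let t : Fin n → k := fun i => (v 0)⁻¹ * v i.succ
  let H := sub (shear (-t)) G
  have hH : H.IsHomogeneous d := sub_isHomogeneous _ hG
  have hs : Sing H e0 := by
    refine sing_sub ?_
    have : (shear (-t)).mulVec (e0 (k := k)) = (v 0)⁻¹ • v := by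
      funext i
      rw [shear_mulVec]
      refine Fin.cases ?_ (fun i => ?_) i <;> simp [e0, t, hv]
    rw [this]
    exact sing_smul hG _ h
  refine ⟨Sum.elim t fun e => coeff e.1.1 H, ?_⟩
  rw [Gpt, Sum.elim_comp_inl, Sum.elim_comp_inr, ← eq_h0 hd hH hs, sub_sub, shear_mul, neg_add_cancel,
    shear_zero, sub_one]

/-! ### A smooth form -/

theorem exists_smooth (hd : 2 ≤ d) (m : ℕ) : ∃ f : MvPolynomial (Fin (m + 1)) k, f.IsHomogeneous d ∧
    ∀ w, Sing f w → w = 0 := by
  classical
  by_cases hdk : (d : k) ≠ 0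
  · refine ⟨∑ i, X i ^ d, IsHomogeneous.sum _ _ _ fun i _ => by simpa using (isHomogeneous_X k i).pow d,
      fun w hw => funext fun i => ?_⟩
    have := hw.2 i
    simp [map_sum, pderiv_X, Pi.single_apply, Derivation.leibniz_pow, smul_eq_mul, nsmul_eq_mul, hdk] at this
    exact this.1
  push Not at hdk
  refine ⟨X 0 ^ d + ∑ i : Fin m, X i.castSucc * X i.succ ^ (d - 1),
    (by simpa using (isHomogeneous_X k (0 : Fin (m + 1))).pow d :
      (X (0 : Fin (m + 1)) ^ d : MvPolynomial (Fin (m + 1)) k).IsHomogeneous d).add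
      (IsHomogeneous.sum _ _ _ fun i _ => by
        have := (isHomogeneous_X k i.castSucc).mul ((isHomogeneous_X k i.succ).pow (d - 1))
        rwa [show 1 + 1 * (d - 1) = d by omega] at this), fun w hw => ?_⟩
  let V : ℕ → k := fun l => if h : l < m + 1 then w ⟨l, h⟩ else 0
  have hder : ∀ j : Fin (m + 1), (∑ i : Fin m, ((if i.castSucc = j then w i.succ ^ (d - 1) else 0) +
      if i.succ = j then w i.castSucc * (((d - 1 : ℕ) : k) * w i.succ ^ (d - 1 - 1)) else 0)) = 0 := by
    intro j
    refine Eq.trans ?_ (hw.2 j)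
    simp only [map_add, map_sum, Derivation.leibniz, Derivation.leibniz_pow, pderiv_X, smul_eq_mul,
      nsmul_eq_mul, map_mul, map_natCast, map_pow, eval_X, hdk, zero_mul, zero_add, Pi.single_apply,
      apply_ite (eval w), map_one, map_zero]
    refine Finset.sum_congr rfl fun i _ => ?_
    split_ifs <;> ring
  have h1 : V 1 = 0 := by
    by_cases hm : 1 < m + 1
    · have := hder 0
      rw [Finset.sum_eq_single (⟨0, by omega⟩ : Fin m)] at this
      · simp [Fin.succ_ne_zero] at this
        simp only [V, dif_pos hm]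
        exact this.1
      · intro i _ hi
        have : i.castSucc ≠ 0 := fun h => hi (Fin.ext (by simpa using congrArg Fin.val h))
        simp [this, Fin.succ_ne_zero]
      · simp
    · simp only [V, dif_neg hm]
  have hstep : ∀ l, V l = 0 → V (l + 2) = 0 := by
    intro l hl
    by_cases hm : l + 2 < m + 1
    · have := hder ⟨l + 1, by omega⟩
      let a : Fin m := ⟨l, by omega⟩
      let b : Fin m := ⟨l + 1, by omega⟩
      rw [← Finset.sum_subset (Finset.subset_univ ({a, b} : Finset (Fin m)))] at this
      · rw [Finset.sum_pair (by simp [a, b])] at this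
        have hal : w (⟨l, by omega⟩ : Fin (m + 1)) = 0 := by
          have h' := hl
          simp only [V, dif_pos (show l < m + 1 by omega)] at h'
          exact h'
        simp [a, b, Fin.ext_iff, hal] at this
        simp only [V, dif_pos hm]
        exact this.1
      · intro i _ hi
        simp [a, b, Fin.ext_iff] at hi
        simp [Fin.ext_iff, hi]
    · simp only [V, dif_neg hm]
  have hodd : ∀ l, V (2 * l + 1) = 0 := fun l => by
    induction l with
    | zero => exact h1
    | succ l ih => rw [show 2 * (l + 1) + 1 = 2 * l + 1 + 2 by ring]; exact hstep _ ih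
  have h0 : V 0 = 0 := by
    have := hw.1
    rw [map_add, map_sum, Finset.sum_eq_zero fun i _ => ?_, add_zero, map_pow, eval_X] at this
    · simpa [V] using eq_zero_of_pow_eq_zero this
    · rw [map_mul, map_pow, eval_X, eval_X]
      rcases Nat.even_or_odd' (i : ℕ) with ⟨l, hl | hl⟩
      · have := hodd l
        rw [← hl] at this
        simp only [V, dif_pos (show (i : ℕ) + 1 < m + 1 by omega)] at this
        rw [show w i.succ = 0 from this, zero_pow (by omega), mul_zero]
      · have := hodd l
        rw [← hl] at this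
        simp only [V, dif_pos (show (i : ℕ) < m + 1 by omega)] at this
        rw [show w i.castSucc = 0 from this, zero_mul]
  have hall : ∀ l, V l = 0 ∧ V (l + 1) = 0 := fun l => by
    induction l with
    | zero => exact ⟨h0, h1⟩
    | succ l ih => exact ⟨ih.2, hstep l ih.1⟩
  funext i
  simpa [V, show (i : ℕ) ≤ m by omega] using (hall i).1

theorem pderiv_zero_rename (f : MvPolynomial (Fin n) k) :
    pderiv (0 : Fin (n + 1)) (rename Fin.succ f) = 0 := by
  induction f using MvPolynomial.induction_on with
  | C a => simp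
  | add p q hp hq => simp [hp, hq]
  | mul_X p l h => simp [h, pderiv_X, Fin.succ_ne_zero l]

/-- A form singular at `(1, 0, …, 0)`, with no singular point at infinity. -/
theorem exists_special (hn : 1 ≤ n) (hd : 2 ≤ d) : ∃ t : Free n d → k,
    ∀ v : Fin (n + 1) → k, v 0 = 0 → Sing (h0 t) v → v = 0 := by
  obtain ⟨m, rfl⟩ : ∃ m, n = m + 1 := ⟨n - 1, by omega⟩
  obtain ⟨f, hf, hfs⟩ := exists_smooth (k := k) hd m
  have hH : (rename Fin.succ f).IsHomogeneous d := hf.rename_isHomogeneous
  have hev : ∀ (p : MvPolynomial (Fin (m + 1)) k) (e : ℕ), e ≠ 0 → p.IsHomogeneous e →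
      eval (e0 (k := k) (n := m + 1)) (rename Fin.succ p) = 0 := fun p e he hp => by
    rw [eval_rename, show (e0 (k := k) (n := m + 1)) ∘ Fin.succ = (0 : k) • 0 by
      funext i; simp [e0, Fin.succ_ne_zero i]]
    exact (eval_smul_point hp 0 0).trans (by simp [zero_pow he])
  have hs : Sing (rename Fin.succ f) (e0 (k := k)) := by
    refine ⟨hev f d (by omega) hf, fun i => ?_⟩
    refine Fin.cases ?_ (fun i => ?_) i
    · rw [pderiv_zero_rename, map_zero]
    · rw [pderiv_rename (Fin.succ_injective _)]
      exact hev _ (d - 1) (by omega) hf.pderiv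
  refine ⟨fun e => coeff e.1.1 (rename Fin.succ f), fun v hv h => ?_⟩
  rw [← eq_h0 (by omega) hH hs] at h
  have hw := hfs (v ∘ Fin.succ) ⟨by rw [← eval_rename]; exact h.1, fun i => by
    rw [← eval_rename, ← pderiv_rename (Fin.succ_injective _)]; exact h.2 i.succ⟩
  funext i
  refine Fin.cases hv (fun i => congrFun hw i) i

/-! ### The parametrisation -/

/-- The coefficient map of the parametrisation. -/
noncomputable def theta (n d : ℕ) (k : Type u) [Field k] :
    MvPolynomial (Idx n d) k →ₐ[k] MvPolynomial (Fin n ⊕ Free n d) k :=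
  aeval fun e => coeff e.1 (Gpt fun a => (X a : MvPolynomial (Fin n ⊕ Free n d) k))

theorem eval_theta (x : Fin n ⊕ Free n d → k) (p : MvPolynomial (Idx n d) k) :
    eval x (theta n d k p) = eval (fun e => coeff e.1 (Gpt x)) p := by
  rw [theta, Basic.eval_comp]
  refine congrArg (fun f => eval f p) (funext fun e => ?_)
  rw [← coeff_map, map_Gpt]
  simp [Function.comp_def]

/-- The ideal of the singular forms. -/
noncomputable def singIdeal (n d : ℕ) (k : Type u) [Field k] : Ideal (MvPolynomial (Idx n d) k) :=
  ⨅ (G : Form n k d) (_ : ∃ v, v ≠ 0 ∧ Sing G.1 v), RingHom.ker (eval (Forms.coef G))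

theorem mem_singIdeal {p : MvPolynomial (Idx n d) k} :
    p ∈ singIdeal n d k ↔
      ∀ G : Form n k d, (∃ v, v ≠ 0 ∧ Sing G.1 v) → eval (Forms.coef G) p = 0 := by
  simp [singIdeal, RingHom.mem_ker]

theorem singIdeal_le_ker [Infinite k] (hd : 1 ≤ d) :
    singIdeal n d k ≤ RingHom.ker (theta n d k) := by
  intro p hp
  refine MvPolynomial.funext fun x => ?_
  rw [eval_theta, map_zero]
  exact mem_singIdeal.1 hp ⟨Gpt x, (mem_homogeneousSubmodule _ _).2 (Gpt_isHomogeneous x)⟩
    ⟨Fin.cons 1 (x ∘ Sum.inl), fun h => one_ne_zero (congrFun h 0), sing_Gpt hd x⟩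

/-- Forms with no singular point form an open set. -/
theorem exists_open_smooth [IsAlgClosed k] {G : Form n k d}
    (hG : ¬ ∃ v, v ≠ 0 ∧ Sing G.1 v) :
    ∃ Δ ∈ singIdeal n d k, eval (Forms.coef G) Δ ≠ 0 := by
  classical
  let a : Option (Fin (n + 1)) → ℕ := fdeg d
  let U := fam (form (fun e : Idx n d => (X e : MvPolynomial (Idx n d) k)))
  let coefs : Form n k d → (o : Option (Fin (n + 1))) → Idx n (a o) → k :=
    fun H o x => coeff x.1 (fam H.1 o)
  have hform : ∀ H o, form (coefs H o) = fam H.1 o := fun H o =>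
    form_coeff (fam_isHomogeneous ((mem_homogeneousSubmodule _ _).1 H.2) o)
  obtain ⟨N, hN⟩ := Open.exists_null_of_zero (fun o => form (coefs G o)) a
    (fun o => form_isHomogeneous _) fun v hv => by
      by_contra hne
      exact hG ⟨v, hne, sing_iff.2 fun o => by simpa [hform] using hv o⟩
  obtain ⟨Δ, hΔ, hopen⟩ := Crit.exists_open a Fin.elim0 (coefs G) hN
  let δ : MvPolynomial (Idx n d) k := aeval (fun x : Σ o, Idx n (a o) => coeff x.2.1 (U x.1)) Δ
  have hδ : ∀ H, eval (Forms.coef H) δ = eval (fun x => coefs H x.1 x.2) Δ := fun H => by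
    rw [Basic.eval_comp]
    refine congrArg (fun f => eval f Δ) (funext fun x => ?_)
    simp only [U, coefs]
    rw [← coeff_map, map_fam, map_form]
    congr 3
    simpa using Forms.form_coef H
  refine ⟨δ, mem_singIdeal.2 fun H hH => ?_, by rw [hδ]; exact hΔ⟩
  by_contra hne
  rw [hδ] at hne
  obtain ⟨v, hv, hs⟩ := hH
  exact hv (Open.eq_zero_of_null _ (hopen _ hne) fun o => by rw [hform]; exact sing_iff.1 hs o)

theorem det_shear (t : Fin n → k) : IsUnit (shear t).det := by
  refine IsUnit.of_mul_eq_one (shear (-t)).det ?_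
  rw [← Matrix.det_mul, shear_mul, add_neg_cancel, shear_zero, Matrix.det_one]

theorem singIdeal_isPrime [Infinite k] (hd : 1 ≤ d) : (singIdeal n d k).IsPrime := by
  classical
  let W := (Fin (n + 1) × Fin (n + 1)) ⊕ Free n d
  let G : (W → k) → MvPolynomial (Fin (n + 1)) k := fun y =>
    sub (Matrix.of fun i j => y (Sum.inl (i, j))) (h0 (y ∘ Sum.inr))
  let ψ : MvPolynomial (Idx n d) k →ₐ[k] MvPolynomial W k := aeval fun e : Idx n d =>
    coeff e.1 (sub (Matrix.of fun i j => (X (Sum.inl (i, j)) : MvPolynomial W k))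
      (h0 fun f => X (Sum.inr f)))
  have hψ : ∀ y p, eval y (ψ p) = eval (fun e => coeff e.1 (G y)) p := fun y p => by
    simp only [ψ, Basic.eval_comp]
    refine congrArg (fun f => eval f p) (funext fun e => ?_)
    rw [← coeff_map, map_sub', map_h0]
    simp only [G]
    congr 2
    · congr 1
      ext i j; simp
    · congr 1
      funext f; simp
  suffices singIdeal n d k = RingHom.ker ψ by
    rw [this]; exact RingHom.ker_isPrime _
  refine le_antisymm (fun p hp => ?_) fun p hp => mem_singIdeal.2 ?_
  · let Dt : MvPolynomial W k :=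
      (Matrix.of fun i j => (X (Sum.inl (i, j)) : MvPolynomial W k)).det
    have hDt : ∀ y, eval y Dt = (Matrix.of fun i j => y (Sum.inl (i, j))).det := fun y => by
      rw [RingHom.map_det]
      congr 1
      ext i j; simp
    have hprod : Dt * ψ p = 0 := MvPolynomial.funext fun y => by
      rw [map_mul, map_zero, hDt]
      set M := Matrix.of fun i j => y (Sum.inl (i, j)) with hM
      by_cases hdet : M.det = 0
      · rw [hdet, zero_mul]
      · refine mul_eq_zero_of_right _ ?_
        rw [hψ]
        refine mem_singIdeal.1 hp ⟨G y, (mem_homogeneousSubmodule _ _).2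
          (sub_isHomogeneous _ (form_isHomogeneous _))⟩ ⟨M⁻¹.mulVec e0, fun h => ?_, ?_⟩
        · have := congrArg M.mulVec h
          rw [Matrix.mulVec_mulVec, Matrix.mul_nonsing_inv _ (Ne.isUnit hdet), Matrix.one_mulVec,
            Matrix.mulVec_zero] at this
          simpa [e0] using congrFun this 0
        · refine sing_sub ?_
          rw [← hM, Matrix.mulVec_mulVec, Matrix.mul_nonsing_inv _ (Ne.isUnit hdet), Matrix.one_mulVec]
          exact sing_h0 hd _
    refine (mul_eq_zero.1 hprod).resolve_left fun h => ?_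
    have := hDt (Sum.elim (fun ij => if ij.1 = ij.2 then 1 else 0) fun _ => 0)
    rw [h, map_zero] at this
    refine zero_ne_one (this.trans ?_)
    rw [show (Matrix.of fun i j => (Sum.elim (fun ij : Fin (n + 1) × Fin (n + 1) =>
      if ij.1 = ij.2 then (1 : k) else 0) (fun _ : Free n d => 0)) (Sum.inl (i, j))) = 1 by
        ext i j; simp [Matrix.one_apply]]
    exact Matrix.det_one
  · rintro H ⟨v, hv, hs⟩
    obtain ⟨j, hj⟩ : ∃ j, v j ≠ 0 := by
      by_contra hcon; push Not at hcon; exact hv (funext hcon)
    -- a matrix moving `(1, 0, …, 0)` to `v`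
    let σ : Equiv.Perm (Fin (n + 1)) := Equiv.swap 0 j
    let t : Fin n → k := fun i => (v j)⁻¹ * v (σ i.succ)
    let N : Matrix (Fin (n + 1)) (Fin (n + 1)) k := (v j • shear (-t)).submatrix σ id
    have hNe : N.mulVec e0 = v := by
      funext i
      obtain ⟨l, rfl⟩ := σ.surjective i
      have : N.mulVec (e0 (k := k)) (σ l) = v j * (shear (-t)).mulVec (e0 (k := k)) l := by
        simp [N, Matrix.mulVec, dotProduct, σ, Finset.mul_sum, mul_assoc]
      rw [this, shear_mulVec]
      refine Fin.cases ?_ (fun l => ?_) l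
      · simp [e0, σ]
      · simp [e0, t, mul_inv_cancel_left₀ hj]
    have hNdet : IsUnit N.det := by
      rw [show N = ((v j • shear (-t)).submatrix σ id) from rfl, Matrix.det_permute, Matrix.det_smul]
      exact (((Units.isUnit (Equiv.Perm.sign σ)).map (Int.castRingHom k))).mul
        ((IsUnit.mk0 _ (pow_ne_zero _ hj)).mul (det_shear _))
    have hH : H.1.IsHomogeneous d := (mem_homogeneousSubmodule _ _).1 H.2
    have hs' : Sing (sub N H.1) e0 := sing_sub (hNe.symm ▸ hs)
    have e := eq_h0 hd (sub_isHomogeneous _ hH) hs'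
    let y : W → k := Sum.elim (fun ij => N⁻¹ ij.1 ij.2) fun f => coeff f.1.1 (sub N H.1)
    have hy : G y = H.1 := by
      simp only [G, y]
      rw [show (Matrix.of fun i j => (Sum.elim (fun ij : Fin (n + 1) × Fin (n + 1) => N⁻¹ ij.1 ij.2)
        (fun f : Free n d => coeff f.1.1 (sub N H.1))) (Sum.inl (i, j))) = N⁻¹ from Matrix.ext fun i j => rfl,
        Sum.elim_comp_inr, ← e, sub_sub, Matrix.mul_nonsing_inv _ hNdet, sub_one]
    have := hψ y p
    rw [RingHom.mem_ker.1 hp, map_zero, hy] at this
    exact this.symm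

theorem singIdeal_ne_bot (hd : 1 ≤ d) {g : MvPolynomial (Idx n d) k} (hg0 : g ≠ 0)
    (hg : theta n d k g = 0) : singIdeal n d k ≠ ⊥ := by
  classical
  let π : Fin (n + 1) → Idx n d → Idx n d := fun j e =>
    ⟨Finsupp.mapDomain (Equiv.swap 0 j) e.1, by rw [Finsupp.degree_mapDomain]; exact e.2⟩
  have hπ : ∀ j, Function.Injective (π j) := fun j a b h =>
    Subtype.ext (Finsupp.mapDomain_injective (Equiv.injective _) (congrArg Subtype.val h))
  refine Submodule.ne_bot_iff _ |>.2 ⟨∏ j, rename (π j) g, mem_singIdeal.2 ?_, ?_⟩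
  · rintro G ⟨v, hv, hs⟩
    obtain ⟨j, hj⟩ : ∃ j, v j ≠ 0 := by
      by_contra hcon; push Not at hcon; exact hv (funext hcon)
    rw [map_prod]
    refine Finset.prod_eq_zero (Finset.mem_univ j) ?_
    have hG : G.1.IsHomogeneous d := (mem_homogeneousSubmodule _ _).1 G.2
    have hvσ : (v ∘ Equiv.swap (0 : Fin (n + 1)) j) ∘ Equiv.swap (0 : Fin (n + 1)) j = v := by
      funext i; simp
    obtain ⟨x, hx⟩ := exists_Gpt hd (hG.rename_isHomogeneous (f := Equiv.swap (0 : Fin (n + 1)) j))
      (v := v ∘ Equiv.swap (0 : Fin (n + 1)) j) (by simpa using hj) ⟨by rw [eval_rename, hvσ]; exact hs.1,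
        fun i => by
          obtain ⟨i', rfl⟩ := (Equiv.swap (0 : Fin (n + 1)) j).surjective i
          rw [pderiv_rename (Equiv.injective _), eval_rename, hvσ]
          exact hs.2 i'⟩
    have := eval_theta x g
    rw [hg, map_zero] at this
    rw [eval_rename, this]
    refine congrArg (fun f => eval f g) (funext fun e => ?_)
    rw [hx]
    show coeff (Finsupp.mapDomain _ e.1) G.1 = _
    conv_rhs => rw [show e.1 = Finsupp.mapDomain (Equiv.swap (0 : Fin (n + 1)) j)
      (Finsupp.mapDomain (Equiv.swap (0 : Fin (n + 1)) j) e.1) by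
        rw [← Finsupp.mapDomain_comp, show ((Equiv.swap (0 : Fin (n + 1)) j) ∘ (Equiv.swap (0 : Fin (n + 1)) j) : Fin (n + 1) → Fin (n + 1)) = id by
          funext i; simp]
        exact Finsupp.mapDomain_id.symm]
    rw [coeff_rename_mapDomain _ (Equiv.injective _)]
  · exact Finset.prod_ne_zero_iff.2 fun j _ h =>
      hg0 (rename_injective _ (hπ j) (h.trans (map_zero _).symm))

/-- The parametrisation is generically finite, so its image is a hypersurface. -/
theorem height_ker_theta [IsAlgClosed k] (hn : 1 ≤ n) (hd : 2 ≤ d) :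
    (RingHom.ker (theta n d k)).height = 1 := by
  classical
  have hd1 : 1 ≤ d := by omega
  let R := MvPolynomial (Idx n d) k
  let T := Fin n ⊕ Free n d
  let S := MvPolynomial T k
  let K := FractionRing S
  let f : R →ₐ[k] K := (IsScalarTower.toAlgHom k S K).comp (theta n d k)
  have hQ : RingHom.ker (theta n d k) = RingHom.ker f := by
    ext p
    simp [f, RingHom.mem_ker, map_eq_zero_iff _ (IsFractionRing.injective S K)]
  have hQp : (RingHom.ker f).IsPrime := RingHom.ker_isPrime _
  let B := R ⧸ RingHom.ker f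
  let fB : B →ₐ[k] K := Ideal.kerLiftAlg f
  letI : Algebra B K := fB.toRingHom.toAlgebra
  have hBK : FaithfulSMul B K :=
    (faithfulSMul_iff_algebraMap_injective _ _).2 (Ideal.kerLiftAlg_injective f)
  have : IsScalarTower k B K := IsScalarTower.of_algebraMap_eq fun c => (fB.commutes c).symm
  let F := FractionRing B
  letI : Algebra F K := FractionRing.liftAlgebra B K
  have : IsScalarTower B F K := FractionRing.isScalarTower_liftAlgebra B K
  let φF : R →+* F := (algebraMap B F).comp (Ideal.Quotient.mk _)
  have hφ : ∀ p, algebraMap F K (φF p) = f p := fun p => by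
    simp only [φF, RingHom.comp_apply]
    rw [← IsScalarTower.algebraMap_apply]
    rfl
  -- the coordinates of the singular point
  let τ : Fin (n + 1) → K := Fin.cons 1 fun i => algebraMap S K (X (Sum.inl i))
  let GK : MvPolynomial (Fin (n + 1)) K := Gpt fun a : T => algebraMap S K (X a)
  have hfG : MvPolynomial.map (f : R →+* K) (form fun e : Idx n d => (X e : R)) = GK := by
    rw [map_form]
    refine Eq.trans ?_ (form_coeff (Gpt_isHomogeneous fun a : T => algebraMap S K (X a)))
    congr 1
    funext e
    simp only [f, theta, RingHom.coe_coe, AlgHom.comp_apply, IsScalarTower.coe_toAlgHom']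
    refine (congrArg (algebraMap S K) (aeval_X _ e)).trans ?_
    rw [← coeff_map, map_Gpt]
    rfl
  have hτS : ∀ o, eval τ (fam GK o) = 0 := fun o => by
    have h0' : eval (Fin.cons 1 fun i => X (Sum.inl i)) (fam (Gpt fun a : T => (X a : S)) o) = 0 :=
      MvPolynomial.funext fun x => by
        rw [eval_map', map_fam, map_Gpt, map_zero]
        have e1 : (eval x : S →+* k) ∘ (Fin.cons 1 fun i => X (Sum.inl i)) =
            Fin.cons 1 (x ∘ Sum.inl) := by
          funext i; refine Fin.cases ?_ (fun i => ?_) i <;> simp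
        have e2 : ((eval x : S →+* k) ∘ fun a : T => (X a : S)) = x := by funext a; simp
        rw [e1, e2]
        exact sing_iff.1 (sing_Gpt hd1 x) o
    have := congrArg (algebraMap S K) h0'
    rw [eval_map', map_fam, map_Gpt, map_zero] at this
    have e1 : (algebraMap S K : S →+* K) ∘ (Fin.cons 1 fun i => X (Sum.inl i)) = τ := by
      funext i; refine Fin.cases ?_ (fun i => ?_) i <;> simp [τ]
    rw [e1] at this
    exact this
  -- a certificate at the special form
  obtain ⟨t₀, ht₀⟩ := exists_special (k := k) hn hd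
  let g : Option (Option (Fin (n + 1))) → MvPolynomial (Fin (n + 1)) k := fun o =>
    o.elim (X 0) (fam (h0 t₀))
  obtain ⟨N₀, hN₀⟩ := Open.exists_null_of_zero g
    (fun o => o.elim 1 (fdeg d)) (fun o => by
      cases o with
      | none => exact isHomogeneous_X _ _
      | some o => exact fam_isHomogeneous (form_isHomogeneous _) o) fun v hv => by
      have h0v := hv none
      simp [g] at h0v
      exact ht₀ v h0v (sing_iff.2 fun o => hv (some o))
  have hdeg : ∀ o, 1 ≤ fdeg (n := n) d o := fun o => by cases o <;> simp [fdeg] <;> omega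
  obtain ⟨N, rfl⟩ : ∃ N, N₀ = N + 1 := by
    refine ⟨N₀ - 1, ?_⟩
    by_contra hne
    obtain rfl : N₀ = 0 := by omega
    have h1 := hN₀ 1 (isHomogeneous_one _ _)
    have hle : Ideal.span (Set.range g) ⊔ Ideal.span (Set.range fun b =>
        Crit.lin ((Fin.elim0 : Fin 0 → Fin (n + 1) → k) b)) ≤ RingHom.ker (eval (0 : Fin (n + 1) → k)) := by
      refine sup_le (Ideal.span_le.2 ?_) (Ideal.span_le.2 ?_)
      · rintro _ ⟨o, rfl⟩
        show eval 0 (g o) = 0
        cases o with
        | none => simp [g]
        | some o =>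
          show eval 0 (fam (h0 t₀) o) = 0
          rw [show (0 : Fin (n + 1) → k) = (0 : k) • 0 by simp,
            eval_smul_point (fam_isHomogeneous (show (h0 t₀).IsHomogeneous d from form_isHomogeneous _) o),
            zero_pow (by have := hdeg o; omega), zero_mul]
      · rintro _ ⟨b, rfl⟩; exact b.elim0
    simpa using RingHom.mem_ker.1 (hle h1)
  have hcert : ∀ m : Idx n (N + 1), ∃ c : Option (Option (Fin (n + 1))) → MvPolynomial (Fin (n + 1)) k,
      ∑ o, c o * g o = monomial m.1 1 := fun m => by
    have h := hN₀ (monomial m.1 1) (isHomogeneous_monomial _ m.2)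
    rw [show Ideal.span (Set.range fun b => Crit.lin ((Fin.elim0 : Fin 0 → Fin (n + 1) → k) b)) = ⊥ by
      simp, sup_bot_eq] at h
    exact Ideal.mem_span_range_iff_exists_fun.1 h
  choose c hc using hcert
  let gu : Option (Option (Fin (n + 1))) → MvPolynomial (Fin (n + 1)) R := fun o =>
    o.elim (X 0) (fam (form fun e : Idx n d => (X e : R)))
  let Wv : Idx n (N + 1) → MvPolynomial (Fin (n + 1)) R := fun m =>
    homogeneousComponent (N + 1) (∑ o, MvPolynomial.map C (c m o) * gu o)
  let Wm : Matrix (Idx n (N + 1)) (Idx n (N + 1)) R := Matrix.of fun m l => coeff l.1 (Wv m)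
  let c₀ : Idx n d → k := fun e => coeff e.1 (h0 t₀)
  have hW0 : Wm.map (eval c₀) = 1 := by
    ext m l
    simp only [Wm, Matrix.map_apply, Matrix.of_apply, ← coeff_map, Wv, map_hc, map_sum, map_mul,
      MvPolynomial.map_map]
    have hg : ∀ o, MvPolynomial.map (eval c₀) (gu o) = g o := fun o => by
      cases o with
      | none => simp [gu, g]
      | some o =>
        simp only [gu, g, Option.elim_some]
        rw [map_fam, map_form]
        congr 1
        simp only [eval_X]
        exact form_coeff (form_isHomogeneous _)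
    simp only [hg, show (eval c₀).comp C = RingHom.id k from RingHom.ext fun x => eval_C _,
      MvPolynomial.map_id]
    rw [← map_sum, hc, coeff_homogeneousComponent, if_pos l.2, coeff_monomial, Matrix.one_apply]
    exact if_congr ⟨fun h => Subtype.ext h, fun h => h ▸ rfl⟩ rfl rfl
  have hdetF : (Wm.map φF).det ≠ 0 := by
    rw [← RingHom.mapMatrix_apply, ← RingHom.map_det]
    intro h
    have h2 : f Wm.det = 0 := by rw [← hφ, h, map_zero]
    have h3 : theta n d k Wm.det = 0 := by
      rw [← RingHom.mem_ker, hQ, RingHom.mem_ker]; exact h2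
    have h4 := eval_theta (Sum.elim 0 t₀) Wm.det
    rw [h3, map_zero] at h4
    have h5 : Gpt (n := n) (d := d) (Sum.elim (0 : Fin n → k) t₀) = h0 t₀ := by
      rw [Gpt, Sum.elim_comp_inl, Sum.elim_comp_inr, shear_zero, sub_one]
    rw [h5, RingHom.map_det, RingHom.mapMatrix_apply] at h4
    rw [show (fun e : Idx n d => coeff e.1 (h0 t₀)) = c₀ from rfl, hW0, Matrix.det_one] at h4
    exact zero_ne_one h4
  -- a finite dimensional subspace stable under the coordinates
  let Vsp : Submodule F K := Submodule.span F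
    (Set.range fun e : Idx n N => eval τ (monomial e.1 (1 : K)))
  have hlow : ∀ P : MvPolynomial (Fin (n + 1)) R, P.IsHomogeneous N →
      eval τ (MvPolynomial.map (f : R →+* K) P) ∈ Vsp := fun P hP => by
    rw [← form_coeff hP, map_form, form, map_sum]
    refine Submodule.sum_mem _ fun e _ => ?_
    rw [eval_monomial, RingHom.coe_coe, ← hφ, ← Algebra.smul_def]
    refine Submodule.smul_mem _ _ (Submodule.subset_span ⟨e, ?_⟩)
    simp [eval_monomial]
  have hW : ∀ m, eval τ (MvPolynomial.map (f : R →+* K) (Wv m)) ∈ Vsp := fun m => by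
    simp only [Wv, map_sum]
    rw [Fintype.sum_option]
    refine Submodule.add_mem _ ?_ (Submodule.sum_mem _ fun o _ => ?_)
    · rw [show gu none = X 0 from rfl, hc_mul (isHomogeneous_X _ _), if_pos (by omega), map_mul,
        map_mul, MvPolynomial.map_X, eval_X, show τ 0 = 1 from rfl, mul_one, Nat.add_sub_cancel]
      exact hlow _ (homogeneousComponent_isHomogeneous _ _)
    · rw [show gu (some o) = fam (form fun e : Idx n d => (X e : R)) o from rfl,
        hc_mul (fam_isHomogeneous (form_isHomogeneous _) o)]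
      split_ifs
      · rw [map_mul, map_mul, map_fam, hfG, hτS, mul_zero]
        exact Submodule.zero_mem _
      · simp
  have hhigh : ∀ l : Idx n (N + 1), eval τ (monomial l.1 (1 : K)) ∈ Vsp := fun l => by
    have hinv := Matrix.nonsing_inv_mul (Wm.map φF) (Ne.isUnit hdetF)
    have e : ∀ m, eval τ (MvPolynomial.map (f : R →+* K) (Wv m)) =
        ∑ l', (Wm.map φF) m l' • eval τ (monomial l'.1 (1 : K)) := fun m => by
      have hh : (Wv m).IsHomogeneous (N + 1) := homogeneousComponent_isHomogeneous _ _
      conv_lhs => rw [← form_coeff hh, map_form, form, map_sum]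
      refine Finset.sum_congr rfl fun l' _ => ?_
      rw [Algebra.smul_def, Matrix.map_apply, hφ, RingHom.coe_coe]
      simp [eval_monomial, Wm]
    have : eval τ (monomial l.1 (1 : K)) =
        ∑ m, (Wm.map φF)⁻¹ l m • eval τ (MvPolynomial.map (f : R →+* K) (Wv m)) := by
      simp only [e, Finset.smul_sum, smul_smul]
      rw [Finset.sum_comm]
      simp only [← Finset.sum_smul, ← Matrix.mul_apply, hinv, Matrix.one_apply, ite_smul, one_smul,
        zero_smul, Finset.sum_ite_eq, Finset.mem_univ, if_true]
    rw [this]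
    exact Submodule.sum_mem _ fun m _ => Submodule.smul_mem _ _ (hW m)
  have hint : ∀ i, IsIntegral F (τ i) := fun i => by
    refine isIntegral_of_smul_mem_submodule Vsp ?_ (Submodule.fg_span (Set.finite_range _)) _ fun x hx => ?_
    · refine (Submodule.ne_bot_iff _).2 ⟨1, Submodule.subset_span
        ⟨⟨Finsupp.single 0 N, Finsupp.degree_single 0 N⟩, ?_⟩, one_ne_zero⟩
      simp [eval_monomial, τ]
    · induction hx using Submodule.span_induction with
      | mem x hx =>
        obtain ⟨e, rfl⟩ := hx
        have hdeg' : (e.1 + Finsupp.single i 1).degree = N + 1 := by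
          rw [map_add, Finsupp.degree_single, e.2]
        have := hhigh ⟨_, hdeg'⟩
        convert this using 1
        rw [smul_eq_mul]
        conv_lhs => rw [← eval_X (f := τ) i, ← map_mul, X, monomial_mul, one_mul,
          add_comm (Finsupp.single i 1) e.1]
      | zero => simp
      | add a b _ _ ha hb => simpa [mul_add] using Submodule.add_mem _ ha hb
      | smul a x _ hx => rw [smul_comm]; exact Submodule.smul_mem _ _ hx
  -- every generator is algebraic over the coefficients
  let Cl := integralClosure F K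
  have hgen : ∀ a : T, algebraMap S K (X a) ∈ Cl := by
    intro a
    cases a with
    | inl i =>
      show IsIntegral F (algebraMap S K (X (Sum.inl i)))
      simpa [τ] using hint i.succ
    | inr e =>
      let tC : Fin n → Cl := fun i => ⟨τ i.succ, hint i.succ⟩
      let HC : MvPolynomial (Fin (n + 1)) Cl :=
        sub (shear (-tC)) (form fun e : Idx n d => algebraMap F Cl (φF (X e)))
      have hval : MvPolynomial.map (Cl.val : Cl →+* K) HC =
          h0 fun a : Free n d => algebraMap S K (X (Sum.inr a)) := by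
        simp only [HC]
        rw [map_sub', map_shear, map_form]
        have e1 : (fun e : Idx n d => (Cl.val : Cl →+* K) (algebraMap F Cl (φF (X e)))) =
            fun e => coeff e.1 GK := funext fun e => by
          rw [← hfG, coeff_map, coeff_form]
          exact hφ _
        rw [e1, form_coeff (Gpt_isHomogeneous _)]
        have e2 : (Cl.val : Cl →+* K) ∘ (-tC) = -fun i => algebraMap S K (X (Sum.inl i)) := by
          funext i; simp [tC, τ]
        rw [e2]
        show sub _ (sub _ _) = _
        rw [sub_sub, show shear ((fun a : T => algebraMap S K (X a)) ∘ Sum.inl) *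
          shear (-fun i => algebraMap S K (X (Sum.inl i))) = 1 by
            rw [shear_mul, Function.comp_def, add_neg_cancel, shear_zero], sub_one]
        rfl
      have := congrArg (coeff e.1.1) hval
      rw [coeff_map, h0, coeff_form, dif_pos e.2] at this
      rw [show (⟨e.1, e.2⟩ : Free n d) = e from rfl] at this
      rw [← this]
      exact SetLike.coe_mem _
  have hall : ∀ p : S, algebraMap S K p ∈ Cl := fun p => by
    induction p using MvPolynomial.induction_on with
    | C a =>
      have : algebraMap S K (C a) = algebraMap F K (φF (C a)) := by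
        rw [hφ]
        exact (congrArg (algebraMap S K) (aeval_C _ a)).symm
      rw [this]
      exact Cl.algebraMap_mem _
    | add p q hp hq => rw [map_add]; exact Cl.add_mem hp hq
    | mul_X p l hp => rw [map_mul]; exact Cl.mul_mem hp (hgen l)
  have halgF : Algebra.IsAlgebraic F K := ⟨fun x => by
    obtain ⟨p, q, -, rfl⟩ := IsFractionRing.div_surjective (A := S) x
    rw [div_eq_mul_inv]
    exact ((hall p).mul (IsIntegral.inv (hall q))).isAlgebraic⟩
  have halgBF : Algebra.IsAlgebraic B F := IsLocalization.isAlgebraic F (nonZeroDivisors B)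
  have halg : Algebra.IsAlgebraic B K := Algebra.IsAlgebraic.trans B F K
  -- transcendence degrees
  have hS : Algebra.IsAlgebraic S K := IsLocalization.isAlgebraic K (nonZeroDivisors S)
  have h1 := trdeg_add_eq k B (A := K)
  rw [trdeg_eq_zero (R := B), add_zero] at h1
  have h2 := trdeg_add_eq k S (A := K)
  rw [trdeg_eq_zero (R := S), add_zero, MvPolynomial.trdeg_of_isDomain] at h2
  rw [← h2] at h1
  have h4 : dimQ k (RingHom.ker f) = Fintype.card T := by
    rw [dimQ, trdegNat, h1]
    simp
  have h5 := Lib.Dim.Basic.height_add_dimQ k (RingHom.ker f)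
  rw [h4] at h5
  have h6 : trdegNat k R = Fintype.card T + 1 := by
    rw [trdegNat, MvPolynomial.trdeg_of_isDomain]
    simp only [Cardinal.mk_fintype, Cardinal.lift_natCast, Cardinal.toNat_natCast]
    have e1 : Fintype.card (Option (Fin n)) = Fintype.card {e : Idx n d // ¬ e.1 0 + 2 ≤ d} :=
      Fintype.card_of_bijective (f := fun o => (⟨emb hd1 o, by have := emb_zero hd1 o; omega⟩ :
        {e : Idx n d // ¬ e.1 0 + 2 ≤ d}))
        ⟨fun a b h => emb_injective hd1 (congrArg Subtype.val h), fun e => by
          obtain ⟨o, ho⟩ := exists_emb hd1 e.2; exact ⟨o, Subtype.ext ho⟩⟩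
    rw [Fintype.card_option, Fintype.card_fin, Fintype.card_subtype_compl] at e1
    have := Fintype.card_subtype_le (fun e : Idx n d => e.1 0 + 2 ≤ d)
    simp only [T, Fintype.card_sum, Fintype.card_fin]
    rw [Fintype.card_congr (Equiv.refl (Free n d))] at *
    omega
  rw [h6, Nat.cast_add, Nat.cast_one, add_comm _ (1 : ℕ∞)] at h5
  rw [hQ]
  exact (ENat.add_left_injective_of_ne_top (by simp)) h5

/-- The singular forms are the zero set of an irreducible polynomial. -/
theorem exists_irreducible [IsAlgClosed k] (hn : 1 ≤ n) (hd : 2 ≤ d) :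
    ∃ Δ : MvPolynomial (Idx n d) k, Irreducible Δ ∧
      ∀ G : Form n k d, (∃ v, v ≠ 0 ∧ Sing G.1 v) ↔ eval (Forms.coef G) Δ = 0 := by
  classical
  have hd1 : 1 ≤ d := by omega
  have hQ1 := height_ker_theta (k := k) hn hd
  have hP := singIdeal_isPrime (k := k) (n := n) hd1
  obtain ⟨g, hg, hg0⟩ := Submodule.exists_mem_ne_zero_of_ne_bot (Ideal.ne_bot_of_height_eq_one hQ1)
  have hne := singIdeal_ne_bot hd1 hg0 (RingHom.mem_ker.1 hg)
  have hP1 : (singIdeal n d k).height = 1 := by
    refine le_antisymm ((Ideal.height_mono (singIdeal_le_ker hd1)).trans hQ1.le) ?_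
    rw [Order.one_le_iff_ne_zero]
    exact fun h => hne (Ideal.height_eq_zero_iff_eq_bot.1 h)
  obtain ⟨x, hx, hxp⟩ := Ideal.IsPrime.exists_mem_prime_of_ne_bot hP hne
  have hspan := (singIdeal n d k).eq_span_singleton_of_height_eq_one hP1 hx hxp
  refine ⟨x, hxp.irreducible, fun G => ⟨mem_singIdeal.1 hx G, fun hG => ?_⟩⟩
  by_contra hns
  obtain ⟨Δ, hΔ, hΔG⟩ := exists_open_smooth hns
  rw [hspan, Ideal.mem_span_singleton] at hΔ
  obtain ⟨q, rfl⟩ := hΔ
  rw [map_mul, hG, zero_mul] at hΔG
  exact hΔG rfl

end Groth.Agent.Lib.LefPen45.Discriminant
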