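import Mathlib.RingTheory.MvPowerSeries.Basic
import Mathlib.Data.Nat.Choose.Basic
import Mathlib.Algebra.BigOperators.Group.Finset.Powerset
import Mathlib.Algebra.Order.BigOperators.Ring.Finset

/-!
# The support of the generating series of primitive Hodge numbers
-/

set_option autoImplicit false

open MvPowerSeries

namespace Groth.Agent.Lib.LefPen45.HodgeSeries

/-- The exponent `(p, q)`. -/
noncomputable def pt (p q : ℕ) : Fin 2 →₀ ℕ := Finsupp.single 0 p + Finsupp.single 1 q

@[simp] theorem pt_zero_apply (p q : ℕ) : pt p q 0 = p := by simp [pt]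
@[simp] theorem pt_one_apply (p q : ℕ) : pt p q 1 = q := by simp [pt]

theorem eq_pt (n : Fin 2 →₀ ℕ) : n = pt (n 0) (n 1) := by
  ext i; fin_cases i <;> simp

theorem pt_inj {p q p' q' : ℕ} : pt p q = pt p' q' ↔ p = p' ∧ q = q' :=
  ⟨fun h => ⟨by simpa using congrArg (fun n => n 0) h, by simpa using congrArg (fun n => n 1) h⟩,
    fun ⟨h, h'⟩ => by rw [h, h']⟩

theorem pt_add (p q p' q' : ℕ) : pt p q + pt p' q' = pt (p + p') (q + q') := by
  ext i; fin_cases i <;> simp

/-- The denominator part of the hypersurface series. -/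
noncomputable def Pser (b : ℕ) : MvPowerSeries (Fin 2) ℤ :=
  ∑ u ∈ Finset.range (b + 1), ∑ v ∈ Finset.range (b + 1),
    if 1 ≤ u ∧ 1 ≤ v ∧ u + v ≤ b then
      (b.choose (u + v) : MvPowerSeries (Fin 2) ℤ) * X 0 ^ u * X 1 ^ v else 0

/-- The numerator of the hypersurface series. -/
noncomputable def Nser (b : ℕ) : MvPowerSeries (Fin 2) ℤ :=
  ∑ u ∈ Finset.range b, ∑ v ∈ Finset.range b,
    if u + v + 1 ≤ b - 1 then
      ((b - 1).choose (u + v + 1) : MvPowerSeries (Fin 2) ℤ) * X 0 ^ u * X 1 ^ v else 0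

theorem coeff_term (c u v p q : ℕ) :
    coeff (pt p q) ((c : MvPowerSeries (Fin 2) ℤ) * X 0 ^ u * X 1 ^ v) =
      if p = u ∧ q = v then (c : ℤ) else 0 := by
  classical
  rw [mul_assoc, X_pow_eq, X_pow_eq, monomial_mul_monomial, one_mul,
    show (c : MvPowerSeries (Fin 2) ℤ) = C (c : ℤ) from (map_natCast C c).symm, coeff_C_mul,
    coeff_monomial, mul_ite, mul_one, mul_zero]
  exact if_congr (pt_inj (p' := u) (q' := v)) rfl rfl

theorem coeff_Pser (b p q : ℕ) : coeff (pt p q) (Pser b) =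
    if 1 ≤ p ∧ 1 ≤ q ∧ p + q ≤ b then (b.choose (p + q) : ℤ) else 0 := by
  simp only [Pser, map_sum, apply_ite (coeff (pt p q)), map_zero, coeff_term]
  by_cases h : 1 ≤ p ∧ 1 ≤ q ∧ p + q ≤ b
  · rw [if_pos h, Finset.sum_eq_single p, Finset.sum_eq_single q]
    · simp [h]
    · intro v _ hv; simp [Ne.symm hv]
    · simp; omega
    · intro u _ hu
      exact Finset.sum_eq_zero fun v _ => by simp [Ne.symm hu]
    · simp; omega
  · rw [if_neg h]
    refine Finset.sum_eq_zero fun u _ => Finset.sum_eq_zero fun v _ => ?_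
    split_ifs with h1 h2
    · exact absurd (h2.1 ▸ h2.2 ▸ h1) h
    · rfl
    · rfl

theorem coeff_Nser (b p q : ℕ) : coeff (pt p q) (Nser b) =
    if p + q + 1 ≤ b - 1 then ((b - 1).choose (p + q + 1) : ℤ) else 0 := by
  simp only [Nser, map_sum, apply_ite (coeff (pt p q)), map_zero, coeff_term]
  by_cases h : p + q + 1 ≤ b - 1
  · rw [if_pos h, Finset.sum_eq_single p, Finset.sum_eq_single q]
    · simp [h]
    · intro v _ hv; simp [Ne.symm hv]
    · simp; omega
    · intro u _ hu
      exact Finset.sum_eq_zero fun v _ => by simp [Ne.symm hu]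
    · simp; omega
  · rw [if_neg h]
    refine Finset.sum_eq_zero fun u _ => Finset.sum_eq_zero fun v _ => ?_
    split_ifs with h1 h2
    · exact absurd (h2.1 ▸ h2.2 ▸ h1) h
    · rfl
    · rfl

/-- Nonnegative coefficients. -/
def Nonneg (A : MvPowerSeries (Fin 2) ℤ) : Prop := ∀ n, 0 ≤ coeff n A

/-- Slope bound for the support. -/
def Bd (s c : ℕ) (A : MvPowerSeries (Fin 2) ℤ) : Prop :=
  ∀ p q, coeff (pt p q) A ≠ 0 → q ≤ p * s + c

theorem Nonneg.mul {A B : MvPowerSeries (Fin 2) ℤ} (hA : Nonneg A) (hB : Nonneg B) :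
    Nonneg (A * B) := fun n => by
  classical
  rw [coeff_mul]; exact Finset.sum_nonneg fun x _ => mul_nonneg (hA _) (hB _)

theorem nonneg_one : Nonneg 1 := fun n => by
  classical
  rw [coeff_one]; split_ifs <;> simp

theorem nonneg_prod {ι : Type*} (P : Finset ι) (A : ι → MvPowerSeries (Fin 2) ℤ)
    (h : ∀ i, Nonneg (A i)) : Nonneg (∏ i ∈ P, A i) := by
  classical
  induction P using Finset.induction with
  | empty => simpa using nonneg_one
  | insert i P hi ih => rw [Finset.prod_insert hi]; exact (h i).mul ih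

theorem mul_pos_of_pos {A B : MvPowerSeries (Fin 2) ℤ} (hA : Nonneg A) (hB : Nonneg B)
    {p q p' q' : ℕ} (h1 : 0 < coeff (pt p q) A) (h2 : 0 < coeff (pt p' q') B) :
    0 < coeff (pt (p + p') (q + q')) (A * B) := by
  classical
  rw [coeff_mul]
  refine lt_of_lt_of_le (mul_pos h1 h2) ?_
  refine Finset.single_le_sum (f := fun x : (Fin 2 →₀ ℕ) × (Fin 2 →₀ ℕ) => coeff x.1 A * coeff x.2 B)
    (fun x _ => mul_nonneg (hA _) (hB _)) (a := (pt p q, pt p' q')) ?_
  rw [Finset.mem_antidiagonal, pt_add]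

theorem Bd.mul {s c c' : ℕ} {A B : MvPowerSeries (Fin 2) ℤ} (hA : Bd s c A) (hB : Bd s c' B) :
    Bd s (c + c') (A * B) := fun p q h => by
  classical
  rw [coeff_mul] at h
  obtain ⟨⟨x, y⟩, hxy, hne⟩ := Finset.exists_ne_zero_of_sum_ne_zero h
  rw [Finset.mem_antidiagonal] at hxy
  have h1 : coeff (pt (x 0) (x 1)) A ≠ 0 := by rw [← eq_pt]; exact left_ne_zero_of_mul hne
  have h2 : coeff (pt (y 0) (y 1)) B ≠ 0 := by rw [← eq_pt]; exact right_ne_zero_of_mul hne
  have e1 := hA _ _ h1
  have e2 := hB _ _ h2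
  have f0 := congrArg (fun n => n 0) hxy
  have f1 := congrArg (fun n => n 1) hxy
  simp only [Finsupp.add_apply, pt_zero_apply, pt_one_apply] at f0 f1
  rw [← f0, add_mul]
  omega

/-! ### The binomial factor -/

/-- `(1 + y)(1 + z)`. -/
noncomputable def E : MvPowerSeries (Fin 2) ℤ := (1 + X 0) * (1 + X 1)

theorem coeff_E (p q : ℕ) : coeff (pt p q) E = if p ≤ 1 ∧ q ≤ 1 then 1 else 0 := by
  classical
  have hE : E = monomial (pt 0 0) 1 + monomial (pt 1 0) 1 + monomial (pt 0 1) 1 +
      monomial (pt 1 1) (1 : ℤ) := by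
    have e0 : monomial (pt 0 0) (1 : ℤ) = 1 := by simp [pt, monomial_zero_eq_C]
    have e1 : monomial (pt 1 0) (1 : ℤ) = X 0 := by simp [pt, X_def]
    have e2 : monomial (pt 0 1) (1 : ℤ) = X 1 := by simp [pt, X_def]
    have e3 : monomial (pt 1 1) (1 : ℤ) = X 0 * X 1 := by simp [pt, X_def, monomial_mul_monomial]
    rw [e0, e1, e2, e3, E]
    ring
  rw [hE]
  simp only [map_add, coeff_monomial, pt_inj]
  obtain _ | _ | p := p <;> obtain _ | _ | q := q <;> simp

theorem nonneg_E : Nonneg E := fun n => by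
  rw [eq_pt n, coeff_E]; split_ifs <;> simp

theorem bd_E (s : ℕ) : Bd s 1 E := fun p q h => by
  rw [coeff_E] at h; split_ifs at h with hh
  · omega
  · exact absurd rfl h

/-! ### The series of one hypersurface -/

variable {b : ℕ} {S : MvPowerSeries (Fin 2) ℤ}

theorem coeff_rec (hS : (1 - Pser b) * S = Nser b) (n : Fin 2 →₀ ℕ) :
    coeff n S = coeff n (Nser b) + ∑ x ∈ Finset.antidiagonal n, coeff x.1 (Pser b) * coeff x.2 S := by
  classical
  have : S = Nser b + Pser b * S := by rw [← hS]; ring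
  conv_lhs => rw [this]
  rw [map_add, coeff_mul]

theorem coeff_Pser_eq_zero {x : Fin 2 →₀ ℕ} (h : ¬ (1 ≤ x 0 ∧ 1 ≤ x 1 ∧ x 0 + x 1 ≤ b)) :
    coeff x (Pser b) = 0 := by
  rw [eq_pt x, coeff_Pser, if_neg h]

theorem nonneg_S (hS : (1 - Pser b) * S = Nser b) : Nonneg S := by
  intro n
  induction hd : n 0 using Nat.strong_induction_on generalizing n with
  | _ d ih =>
    rw [coeff_rec hS]
    refine add_nonneg ?_ (Finset.sum_nonneg fun x hx => ?_)
    · rw [eq_pt n, coeff_Nser]; split_ifs <;> simp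
    · by_cases h : 1 ≤ x.1 0 ∧ 1 ≤ x.1 1 ∧ x.1 0 + x.1 1 ≤ b
      · refine mul_nonneg ?_ (ih (x.2 0) ?_ x.2 rfl)
        · rw [eq_pt x.1, coeff_Pser]; split_ifs <;> simp
        · have := congrArg (fun m => m 0) (Finset.mem_antidiagonal.1 hx)
          simp at this
          omega
      · rw [coeff_Pser_eq_zero h, zero_mul]

theorem bd_S (hS : (1 - Pser b) * S = Nser b) {s : ℕ} (hs : b - 1 ≤ s) : Bd s (b - 2) S := by
  intro p
  induction p using Nat.strong_induction_on with
  | _ p ih =>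
    intro q h
    rw [coeff_rec hS] at h
    by_cases hN : coeff (pt p q) (Nser b) = 0
    · rw [hN, zero_add] at h
      obtain ⟨⟨x, y⟩, hxy, hne⟩ := Finset.exists_ne_zero_of_sum_ne_zero h
      have hx : 1 ≤ x 0 ∧ 1 ≤ x 1 ∧ x 0 + x 1 ≤ b := by
        by_contra hx
        exact left_ne_zero_of_mul hne (coeff_Pser_eq_zero hx)
      rw [Finset.mem_antidiagonal] at hxy
      have f0 := congrArg (fun n => n 0) hxy
      have f1 := congrArg (fun n => n 1) hxy
      simp only [Finsupp.add_apply, pt_zero_apply, pt_one_apply] at f0 f1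
      have hy : y 1 ≤ y 0 * s + (b - 2) := ih (y 0) (by omega) (y 1)
        (by rw [← eq_pt]; exact right_ne_zero_of_mul hne)
      have hle : s ≤ x 0 * s := Nat.le_mul_of_pos_left s (by omega)
      rw [← f0, add_mul]
      omega
    · rw [coeff_Nser] at hN
      split_ifs at hN with hh
      · omega
      · exact absurd rfl hN

theorem pos_S (hS : (1 - Pser b) * S = Nser b) (hb : 2 ≤ b) :
    ∀ p q, p ≤ q → q ≤ p * (b - 1) + (b - 2) → 0 < coeff (pt p q) S := by
  intro p
  induction p with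
  | zero =>
    intro q _ hq
    rw [coeff_rec hS]
    refine add_pos_of_pos_of_nonneg ?_ (Finset.sum_nonneg fun x _ => mul_nonneg ?_ (nonneg_S hS _))
    · rw [coeff_Nser, if_pos (by omega)]
      exact_mod_cast Nat.choose_pos (by omega)
    · rw [eq_pt x.1, coeff_Pser]; split_ifs <;> simp
  | succ p ih =>
    intro q hpq hq
    rw [add_mul, one_mul] at hq
    have hle : p ≤ p * (b - 1) := Nat.le_mul_of_pos_right p (by omega)
    obtain ⟨v, hv1, hvb, hv2, hv3⟩ : ∃ v, 1 ≤ v ∧ v ≤ b - 1 ∧ p + v ≤ q ∧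
        q ≤ p * (b - 1) + (b - 2) + v :=
      ⟨min (b - 1) (q - p), by omega, by omega, by omega, by omega⟩
    have hP : 0 < coeff (pt 1 v) (Pser b) := by
      rw [coeff_Pser, if_pos ⟨le_rfl, hv1, by omega⟩]
      exact_mod_cast Nat.choose_pos (by omega)
    have hnn : Nonneg (Pser b) := fun n => by rw [eq_pt n, coeff_Pser]; split_ifs <;> simp
    have h := mul_pos_of_pos hnn (nonneg_S hS) hP (ih (q - v) (by omega) (by omega))
    rw [show v + (q - v) = q by omega, add_comm 1 p] at h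
    have : S = Nser b + Pser b * S := by rw [← hS]; ring
    rw [this, map_add]
    refine add_pos_of_nonneg_of_pos ?_ h
    rw [coeff_Nser]; split_ifs <;> simp

/-! ### The series of a multidegree -/

variable {d : ℕ} (a : Fin d → ℕ) (Hs : Fin d → MvPowerSeries (Fin 2) ℤ)

/-- The generating series. -/
noncomputable def H : MvPowerSeries (Fin 2) ℤ :=
  ∑ P ∈ (Finset.univ : Finset (Fin d)).powerset with P.Nonempty,
    E ^ (P.card - 1) * ∏ i ∈ P, Hs i

variable {a Hs}

theorem prod_bd (hS : ∀ i, (1 - Pser (a i)) * Hs i = Nser (a i)) (P : Finset (Fin d)) :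
    Bd (Finset.univ.sup a - 1) (∑ i ∈ P, (a i - 2)) (∏ i ∈ P, Hs i) := by
  classical
  induction P using Finset.induction with
  | empty =>
    intro p q h
    simp only [Finset.prod_empty, coeff_one] at h
    split_ifs at h with hh
    · have := congrArg (fun n => n 1) hh; simp at this; omega
    · exact absurd rfl h
  | insert i P hi ih =>
    rw [Finset.prod_insert hi, Finset.sum_insert hi]
    exact (bd_S (hS i) (Nat.sub_le_sub_right (Finset.le_sup (f := a) (Finset.mem_univ i)) 1)).mul ih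

theorem pow_E_bd (s m : ℕ) : Bd s m (E ^ m) := by
  induction m with
  | zero =>
    intro p q h
    classical
    simp only [pow_zero, coeff_one] at h
    split_ifs at h with hh
    · have := congrArg (fun n => n 1) hh; simp at this; omega
    · exact absurd rfl h
  | succ m ih => rw [pow_succ]; exact ih.mul (bd_E s)

theorem nonneg_pow_E (m : ℕ) : Nonneg (E ^ m) := by
  induction m with
  | zero => simpa using nonneg_one
  | succ m ih => rw [pow_succ]; exact ih.mul nonneg_E

theorem prod_pos (hS : ∀ i, (1 - Pser (a i)) * Hs i = Nser (a i)) (Q : Finset (Fin d))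
    (hQ : ∀ i ∈ Q, 2 ≤ a i) :
    ∀ r, r ≤ ∑ i ∈ Q, (a i - 1) → 0 < coeff (pt 0 r) (∏ i ∈ Q, (E * Hs i)) := by
  classical
  induction Q using Finset.induction with
  | empty =>
    intro r hr
    simp at hr
    subst hr
    simp [pt]
  | insert i Q hi ih =>
    intro r hr
    rw [Finset.sum_insert hi] at hr
    rw [Finset.prod_insert hi]
    have h2 : 2 ≤ a i := hQ i (Finset.mem_insert_self i Q)
    obtain ⟨e, s, t, he, hs, ht, rfl⟩ : ∃ e s t, e ≤ 1 ∧ s ≤ a i - 2 ∧ t ≤ ∑ j ∈ Q, (a j - 1) ∧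
        r = e + s + t :=
      ⟨min r 1, min (r - 1) (a i - 2), r - min r 1 - min (r - 1) (a i - 2),
        by omega, by omega, by omega, by omega⟩
    have h1 : 0 < coeff (pt (0 + 0) (e + s)) (E * Hs i) :=
      mul_pos_of_pos nonneg_E (nonneg_S (hS i))
        (by rw [coeff_E, if_pos ⟨by omega, he⟩]; simp)
        (pos_S (hS i) h2 0 s (by omega) (by omega))
    have := mul_pos_of_pos (nonneg_E.mul (nonneg_S (hS i)))
      (nonneg_prod Q _ fun j => nonneg_E.mul (nonneg_S (hS j))) h1
      (ih (fun j hj => hQ j (Finset.mem_insert_of_mem hj)) t ht)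
    simpa [add_assoc] using this

/-- The support of the generating series. -/
theorem coeff_H_ne_zero_iff (ha : ∀ i, 1 ≤ a i) (hS : ∀ i, (1 - Pser (a i)) * Hs i = Nser (a i))
    {p q : ℕ} (hpq : p ≤ q) :
    coeff (pt p q) (H Hs) ≠ 0 ↔ p + q + d < p * Finset.univ.sup a + ∑ i, a i := by
  classical
  have hD : ∑ i, a i = ∑ i, (a i - 1) + d := by
    conv_lhs => rw [Finset.sum_congr rfl fun i _ => (Nat.sub_add_cancel (ha i)).symm]
    simp [Finset.sum_add_distrib]
  set M := Finset.univ.sup a with hM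
  rw [hD, H, map_sum]
  constructor
  · intro h
    obtain ⟨P, hP, hne⟩ := Finset.exists_ne_zero_of_sum_ne_zero h
    have hPne : P.Nonempty := (Finset.mem_filter.1 hP).2
    -- every member has degree at least two
    have h2 : ∀ i ∈ P, 2 ≤ a i := by
      intro i hi
      by_contra hlt
      refine hne ?_
      have h1 : a i = 1 := by have := ha i; omega
      have h0 : Hs i = 0 := by
        have := hS i
        rw [h1] at this
        have hP0 : Pser 1 = 0 := by
          refine MvPowerSeries.ext fun n => ?_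
          rw [map_zero, coeff_Pser_eq_zero (by omega)]
        have hN0 : Nser 1 = 0 := by
          refine MvPowerSeries.ext fun n => ?_
          rw [map_zero, eq_pt n, coeff_Nser, if_neg (by omega)]
        simpa [hP0, hN0] using this
      rw [Finset.prod_eq_zero hi h0, mul_zero, map_zero]
    have hb := (pow_E_bd _ _).mul (prod_bd hS P) p q hne
    have hsum : ∑ i ∈ P, (a i - 2) + P.card = ∑ i ∈ P, (a i - 1) := by
      rw [Finset.card_eq_sum_ones, ← Finset.sum_add_distrib]
      exact Finset.sum_congr rfl fun i hi => by have := h2 i hi; omega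
    have hle : ∑ i ∈ P, (a i - 1) ≤ ∑ i, (a i - 1) :=
      Finset.sum_le_univ_sum_of_nonneg (fun _ => Nat.zero_le _)
    have hc : 1 ≤ P.card := hPne.card_pos
    obtain ⟨i, hi⟩ := hPne
    have hM2 : 2 ≤ M := (h2 i hi).trans (Finset.le_sup (f := a) (Finset.mem_univ i))
    rw [← hM] at hb
    obtain ⟨M', hM'⟩ : ∃ M', M = M' + 1 := ⟨M - 1, by omega⟩
    rw [hM', Nat.add_sub_cancel] at hb
    rw [hM', mul_add, mul_one]
    omega
  · intro h
    let P := Finset.univ.filter fun i => 2 ≤ a i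
    have hPsum : ∑ i ∈ P, (a i - 1) = ∑ i, (a i - 1) :=
      Finset.sum_subset (Finset.subset_univ _) fun i _ hi => by
        simp [P] at hi; omega
    obtain ⟨i₀, -, hi₀⟩ : ∃ i₀ ∈ (Finset.univ : Finset (Fin d)), a i₀ = M := by
      rcases (Finset.univ : Finset (Fin d)).eq_empty_or_nonempty with he | hne
      · exfalso
        simp [hM, he] at h
      · obtain ⟨i, hi, e⟩ := Finset.exists_mem_eq_sup _ hne a
        exact ⟨i, hi, e.symm⟩
    have hM2 : 2 ≤ M := by
      by_contra hlt
      have : ∑ i, (a i - 1) = 0 := Finset.sum_eq_zero fun i _ => by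
        have := Finset.le_sup (f := a) (Finset.mem_univ i)
        omega
      have : p * M ≤ p := by
        calc p * M ≤ p * 1 := Nat.mul_le_mul_left p (by omega)
          _ = p := mul_one p
      omega
    have hi₀P : i₀ ∈ P := by simp [P, hi₀, hM2]
    have hnn : ∀ Q : Finset (Fin d), Nonneg (E ^ (Q.card - 1) * ∏ i ∈ Q, Hs i) := fun Q =>
      (nonneg_pow_E _).mul (nonneg_prod Q _ fun i => nonneg_S (hS i))
    refine ne_of_gt (lt_of_lt_of_le ?_ (Finset.single_le_sum (fun Q _ => hnn Q _)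
      (Finset.mem_filter.2 ⟨Finset.mem_powerset.2 (Finset.subset_univ P), ⟨i₀, hi₀P⟩⟩)))
    have e : E ^ (P.card - 1) * ∏ i ∈ P, Hs i = Hs i₀ * ∏ i ∈ P.erase i₀, (E * Hs i) := by
      rw [Finset.prod_mul_distrib, Finset.prod_const, Finset.card_erase_of_mem hi₀P,
        ← Finset.mul_prod_erase P _ hi₀P]
      ring
    rw [e]
    obtain ⟨M', hM'⟩ : ∃ M', M = M' + 1 := ⟨M - 1, by omega⟩
    rw [hM', mul_add, mul_one] at h
    have hle : p ≤ p * M' := Nat.le_mul_of_pos_right p (by omega)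
    obtain ⟨q₀, hq0, hq0', hq0'', hq0'''⟩ : ∃ q₀, p ≤ q₀ ∧ q₀ ≤ p * M' + (M - 2) ∧ q₀ ≤ q ∧
        q - q₀ ≤ ∑ i ∈ P.erase i₀, (a i - 1) := by
      have := Finset.add_sum_erase P (fun i => a i - 1) hi₀P
      simp only [hi₀, hPsum] at this
      exact ⟨min q (p * M' + (M - 2)), by omega, by omega, by omega, by omega⟩
    have h1 : 0 < coeff (pt p q₀) (Hs i₀) := pos_S (hS i₀) (by omega) p q₀ hq0 (by
      rw [hi₀, show M - 1 = M' by omega]; exact hq0')
    have := mul_pos_of_pos (nonneg_S (hS i₀)) (nonneg_prod _ _ fun i => nonneg_E.mul (nonneg_S (hS i))) h1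
      (prod_pos hS (P.erase i₀) (fun i hi => (Finset.mem_filter.1 (Finset.mem_of_mem_erase hi)).2)
        (q - q₀) hq0''')
    rwa [add_zero, Nat.add_sub_cancel' hq0''] at this

end Groth.Agent.Lib.LefPen45.HodgeSeries
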