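import Groth.Agent.Lib.LefPen45.Classical
import Groth.Agent.Lib.PolyFun45.Crit

/-!
# Transversal hypersurfaces form an open set
-/

set_option autoImplicit false
set_option backward.isDefEq.respectTransparency.types false
set_option linter.style.haveILetI false

universe u

open CategoryTheory AlgebraicGeometry MvPolynomial
open LefPen

namespace Groth.Agent.Lib.LefPen45.Open

open Affine Chart Classical
open Groth.Agent.H83.LineExist (Idx form coeff_form form_coeff form_isHomogeneous map_form)
open Groth.Agent.Lib.PolyFun45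
open Groth.Agent.Lib.Dim.Basic (dimQ)

variable {k : Type u} [Field k] {r : ℕ}

/-- No common nonzero zero means that a power of the irrelevant ideal lies in the ideal. -/
theorem exists_null_of_zero [IsAlgClosed k] {J : Type} (G : J → MvPolynomial (Fin (r + 1)) k)
    (a : J → ℕ) (hG : ∀ j, (G j).IsHomogeneous (a j)) (h : ∀ v, (∀ j, eval v (G j) = 0) → v = 0) :
    ∃ N, Crit.Null (Ideal.span (Set.range G)) (Fin.elim0 : Fin 0 → Fin (r + 1) → k) N := by
  have hI : (Ideal.span (Set.range G)).IsHomogeneous (homogeneousSubmodule (Fin (r + 1)) k) :=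
    Ideal.homogeneous_span _ _ fun x hx => by
      obtain ⟨j, rfl⟩ := hx
      exact ⟨_, (mem_homogeneousSubmodule _ _).2 (hG j)⟩
  obtain ⟨L, N, hN⟩ := Crit.exists_null 0 _ hI fun P hP => by
    haveI : P.IsPrime := hP.1.1
    have hmax : P.IsMaximal := by
      obtain ⟨M, hM, hle⟩ := Ideal.exists_le_maximal P Ideal.IsPrime.ne_top'
      suffices hMP : M ≤ P from le_antisymm hle hMP ▸ hM
      intro p hp
      rw [← (inferInstance : P.IsPrime).radical, ← vanishingIdeal_zeroLocus_eq_radical (K := k) P]
      intro v hv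
      rw [aeval_eq_eval]
      obtain ⟨v₀, rfl⟩ := (MvPolynomial.isMaximal_iff_eq_vanishingIdeal_singleton (K := k)).1 hM
      have h0 : ∀ w : Fin (r + 1) → k, (∀ q ∈ P, eval w q = 0) → w = 0 := fun w hw =>
        h w fun j => hw _ (hP.1.2 (Ideal.subset_span ⟨j, rfl⟩))
      have e1 : v = 0 := h0 v fun q hq => by simpa [aeval_eq_eval] using hv q hq
      have e2 : v₀ = 0 := h0 v₀ fun q hq => by
        have := hle hq
        simpa [MvPolynomial.mem_vanishingIdeal_singleton_iff, aeval_eq_eval] using this
      rw [MvPolynomial.mem_vanishingIdeal_singleton_iff, aeval_eq_eval, e2] at hp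
      rw [e1]; exact hp
    rw [Lib.Dim.Basic.dimQ_eq_zero_of_isMaximal]
  exact ⟨N, by rwa [Subsingleton.elim (Fin.elim0 : Fin 0 → Fin (r + 1) → k) L]⟩

theorem eq_zero_of_null {J : Type} (G : J → MvPolynomial (Fin (r + 1)) k) {N : ℕ}
    (hN : Crit.Null (Ideal.span (Set.range G)) (Fin.elim0 : Fin 0 → Fin (r + 1) → k) N)
    {v : Fin (r + 1) → k} (hv : ∀ j, eval v (G j) = 0) : v = 0 := by
  funext l
  have hle : Ideal.span (Set.range G) ⊔ Ideal.span (Set.range fun b => Crit.lin ((Fin.elim0 : Fin 0 → Fin (r + 1) → k) b)) ≤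
      RingHom.ker (eval v) := by
    refine sup_le (Ideal.span_le.2 ?_) (Ideal.span_le.2 ?_)
    · rintro _ ⟨j, rfl⟩; exact hv j
    · rintro _ ⟨b, rfl⟩; exact b.elim0
  have := hle (hN ((MvPolynomial.X l : MvPolynomial (Fin (r + 1)) k) ^ N)
    (by simpa using (isHomogeneous_X k l).pow N))
  rw [RingHom.mem_ker, map_pow, eval_X] at this
  exact eq_zero_of_pow_eq_zero this

theorem det_isHomogeneous {A : Type*} [CommRing A] {ι σ : Type*} [Fintype ι] [DecidableEq ι]
    (M : Matrix ι ι (MvPolynomial σ A)) (a : ι → ℕ) (h : ∀ l b, (M l b).IsHomogeneous (a l)) :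
    M.det.IsHomogeneous (∑ l, a l) := by
  rw [Matrix.det_apply']
  refine IsHomogeneous.sum _ _ _ fun τ _ => ?_
  have h1 : ((Equiv.Perm.sign τ : ℤ) : MvPolynomial σ A).IsHomogeneous 0 := by
    rw [← map_intCast (C : A →+* MvPolynomial σ A)]
    exact isHomogeneous_C _ _
  have h2 := IsHomogeneous.prod Finset.univ (fun b => M (τ b) b) (fun b => a (τ b)) fun b _ => h _ _
  rw [Equiv.sum_comp τ a] at h2
  have := h1.mul h2
  rwa [zero_add] at this

variable {X : Scheme.{u}} (i : X ⟶ CohB1.ProjSpace r k)

theorem exists_fin_gens : ∃ (m : ℕ) (F : Fin m → MvPolynomial (Fin (r + 1)) k) (e : Fin m → ℕ),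
    (∀ l, F l ∈ gens i) ∧ (∀ l, (F l).IsHomogeneous (e l)) ∧
      gens i ⊆ (Ideal.span (Set.range F) : Set (MvPolynomial (Fin (r + 1)) k)) := by
  obtain ⟨S, hS, hle⟩ := exists_finset_gens i
  let F : Fin S.card → MvPolynomial (Fin (r + 1)) k := fun l => (S.equivFin.symm l).1
  have hr : Set.range F = S := by
    ext x
    exact ⟨by rintro ⟨l, rfl⟩; exact (S.equivFin.symm l).2,
      fun hx => ⟨S.equivFin ⟨x, hx⟩, by simp [F]⟩⟩
  have he : ∀ l, ∃ e, (F l).IsHomogeneous e := fun l => by
    obtain ⟨e, he, -⟩ := hS (S.equivFin.symm l).2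
    exact ⟨e, he⟩
  choose e he using he
  exact ⟨_, F, e, fun l => hS (S.equivFin.symm l).2, he, hr ▸ hle⟩

variable [IsClosedImmersion i] [IsAlgClosed k] {n : ℕ}
  [SmoothOfRelativeDimension n (i ≫ CohB1.ProjSpace.toSpec r k)]

/-- Transversal forms are Zariski open. -/
theorem isZOpen (hn : 1 ≤ n) (d : ℕ) :
    IsZOpen k {H : Form r k d | Transversal k n 1 (secToSpec i ({H} : Set (Form r k d)))} := by
  classical
  obtain ⟨m, F, e, hFg, hFh, hFspan⟩ := exists_fin_gens i
  let R := MvPolynomial (Idx r d) k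
  let G : MvPolynomial (Fin (r + 1)) R := form fun x => MvPolynomial.X x
  let row : MvPolynomial (Fin (r + 1)) R → Fin (r + 1) → MvPolynomial (Fin (r + 1)) R :=
    fun p l => pderiv l p
  let c := r - n
  let J := Fin m ⊕ Unit ⊕ ((Fin c → Fin m) × (Fin (c + 1) → Fin (r + 1)))
  let a : J → ℕ := Sum.elim e (Sum.elim (fun _ => d)
    fun fg => ∑ l, (Fin.cons (d - 1) (fun l => e (fg.1 l) - 1) : Fin (c + 1) → ℕ) l)
  let U : J → MvPolynomial (Fin (r + 1)) R := Sum.elim (fun l => MvPolynomial.map C (F l))
    (Sum.elim (fun _ => G) fun fg => (Matrix.of fun l b =>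
      (Fin.cons (row G) (fun l => row (MvPolynomial.map C (F (fg.1 l)))) :
        Fin (c + 1) → Fin (r + 1) → MvPolynomial (Fin (r + 1)) R) l (fg.2 b)).det)
  -- the specialisation at a form
  let sp : Form r k d → MvPolynomial (Fin (r + 1)) R →+* MvPolynomial (Fin (r + 1)) k :=
    fun H => MvPolynomial.map (eval (Forms.coef H))
  have hspF : ∀ H l, sp H (MvPolynomial.map C (F l)) = F l := fun H l => by
    simp only [sp, MvPolynomial.map_map]
    rw [show (eval (Forms.coef H)).comp C = RingHom.id k from RingHom.ext fun x => eval_C _,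
      MvPolynomial.map_id]
  have hspG : ∀ H : Form r k d, sp H G = H.1 := fun H => by
    simp only [sp, G, map_form, eval_X]
    exact (congrArg form (funext fun x => MvPolynomial.eval_X x)).trans (Forms.form_coef H)
  have hsprow : ∀ H p l, sp H (row p l) = pderiv l (sp H p) := fun H p l => (pderiv_map ..).symm
  have hspM : ∀ H (fg : (Fin c → Fin m) × (Fin (c + 1) → Fin (r + 1))),
      sp H (U (Sum.inr (Sum.inr fg))) = (Matrix.of fun l b =>
        (Fin.cons (fun l => pderiv l H.1) (fun l l' => pderiv l' (F (fg.1 l))) :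
          Fin (c + 1) → Fin (r + 1) → MvPolynomial (Fin (r + 1)) k) l (fg.2 b)).det := by
    intro H fg
    simp only [U, Sum.elim_inr]
    rw [RingHom.map_det]
    congr 1
    funext l b
    cases l using Fin.cases with
    | zero => simp [hsprow, hspG]
    | succ l => simp [hsprow, hspF]
  have hhom : ∀ H j, (sp H (U j)).IsHomogeneous (a j) := by
    intro H j
    rcases j with l | _ | fg
    · simp only [U, Sum.elim_inl, hspF]; exact hFh l
    · simp only [U, a, Sum.elim_inr, Sum.elim_inl, hspG]; exact H.2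
    · rw [hspM]
      refine det_isHomogeneous _ _ fun l b => ?_
      cases l using Fin.cases with
      | zero => simpa using (H.2 : H.1.IsHomogeneous d).pderiv
      | succ l => simpa using (hFh _).pderiv
  let coefs : Form r k d → (j : J) → Idx r (a j) → k := fun H j x => coeff x.1 (sp H (U j))
  have hform : ∀ H j, form (coefs H j) = sp H (U j) := fun H j => form_coeff (hhom H j)
  -- the common zeros
  have hzero : ∀ H : Form r k d, Transversal k n 1 (secToSpec i ({H} : Set (Form r k d))) ↔
      ∀ v, (∀ j, eval v (form (coefs H j)) = 0) → v = 0 := by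
    intro H
    rw [transversal_iff_cone i hn H]
    simp only [hform]
    have hcone : ∀ v, (∀ l, eval v (F l) = 0) → v ∈ Cone i := fun v hv p hp =>
      (zero_and_dd_of_span (w := 0) (S := Set.range F) (by rintro _ ⟨l, rfl⟩; exact hv l)
        (by rintro _ ⟨l, rfl⟩; simp [dd]) (hFspan hp)).1
    have hbad : ∀ v, v ≠ 0 → v ∈ Cone i → ((∀ fg, eval v (sp H (U (Sum.inr (Sum.inr fg)))) = 0) ↔
        ∀ w ∈ W i v, dd v w H.1 = 0) := by
      intro v hv hvC
      let R' : Fin m → Fin (r + 1) → k := fun l l' => eval v (pderiv l' (F l))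
      have hker : LinAlg.ker R' = W i v := by
        refine le_antisymm (fun w hw => (mem_W i).2 fun p hp => ?_) fun w hw l => (mem_W i).1 hw _ (hFg l)
        exact (zero_and_dd_of_span (S := Set.range F) (by rintro _ ⟨l, rfl⟩; exact hvC _ (hFg l))
          (by rintro _ ⟨l, rfl⟩; exact hw l) (hFspan hp)).2
      have hc : Module.finrank k (Submodule.span k (Set.range R')) = c := by
        have := LinAlg.finrank_ker R'
        rw [hker, finrank_W (n := n) i hv hvC, Fintype.card_fin] at this
        omega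
      have h1 := LinAlg.mem_span_iff R' (fun l => eval v (pderiv l H.1))
      rw [hker, LinAlg.mem_span_iff_minors R' hc] at h1
      refine Iff.trans ?_ h1
      constructor
      · intro h f g
        rw [← h (f, g), hspM, RingHom.map_det]
        congr 1
        funext l b
        cases l using Fin.cases <;> simp [R']
      · intro h fg
        rw [hspM, RingHom.map_det, ← h fg.1 fg.2]
        congr 1
        funext l b
        cases l using Fin.cases <;> simp [R']
    constructor
    · intro h v hv
      by_contra hne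
      have hvC := hcone v fun l => by simpa [U, hspF] using hv (Sum.inl l)
      refine h v hne hvC ⟨by simpa [U, hspG] using hv (Sum.inr (Sum.inl ())), ?_⟩
      exact (hbad v hne hvC).1 fun fg => hv (Sum.inr (Sum.inr fg))
    · intro h v hne hvC hb
      refine hne (h v fun j => ?_)
      rcases j with l | _ | fg
      · simpa [U, hspF] using hvC _ (hFg l)
      · simpa [U, hspG] using hb.1
      · exact (hbad v hne hvC).2 hb.2 fg
  intro H hH
  obtain ⟨N, hN⟩ := exists_null_of_zero (fun j => form (coefs H j)) a (fun j => form_isHomogeneous _)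
    ((hzero H).1 hH)
  obtain ⟨Δ, hΔ, hΔopen⟩ := Crit.exists_open a Fin.elim0 (coefs H) hN
  let δ : R := aeval (fun x : Σ j, Idx r (a j) => coeff x.2.1 (U x.1)) Δ
  have hδ : ∀ H', eval (Forms.coef H') δ = eval (fun x => coefs H' x.1 x.2) Δ := fun H' => by
    rw [Basic.eval_comp]
    refine congrArg (fun f => eval f Δ) (funext fun x => ?_)
    exact (coeff_map _ _ _).symm
  refine ⟨fun H' => eval (Forms.coef H') δ, Basic.isPolyFun_eval Forms.coef δ, ?_, fun H' hH' => ?_⟩
  · simp only [hδ]; exact hΔ
  · simp only [hδ] at hH'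
    exact (hzero H').2 fun v hv => eq_zero_of_null _ (hΔopen _ hH') hv

end Groth.Agent.Lib.LefPen45.Open
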