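import Groth.Agent.Lib.Dim.Basic
import Mathlib.RingTheory.AlgebraicIndependent.TranscendenceBasis
import Mathlib.Algebra.MvPolynomial.Funext

/-!
# Parametrisation of the solutions of a triangular linear system over an algebra

Given pivots `emb : Option (Fin n) → E`, linear equations `Σ_e c_e m_e = 0` and `Σ_e c_e q_{b,e} = 0`
with `m = 1` at the first pivot and `q` diagonal `D` at the others, the solutions over the points
where `D ≠ 0` are parametrised by the free coordinates.
-/

set_option autoImplicit false

universe u

open MvPolynomial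

namespace Groth.Agent.Lib.LefPen45.Param

variable {k : Type u} [Field k] {A : Type u} [CommRing A] [Algebra k A] {E : Type} [Fintype E] {n : ℕ}

/-- The free coordinates. -/
abbrev Free (emb : Option (Fin n) → E) : Type := {e : E // e ∉ Set.range emb}

noncomputable instance fintypeFree (emb : Option (Fin n) → E) : Fintype (Free emb) := Fintype.ofFinite _

/-- The generic solution. -/
noncomputable def gen (emb : Option (Fin n) → E) (D : A) (m : E → A) (q : Fin n → E → A) (e : E) :
    MvPolynomial (Free emb) A :=
  haveI : DecidablePred fun e : E => e ∈ Set.range emb := Classical.decPred _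
  if h : e ∈ Set.range emb then
    match h.choose with
    | some b => -∑ f : Free emb, X f * C (q b f.1)
    | none => -(∑ b : Fin n, (-∑ f : Free emb, X f * C (q b f.1)) * C (m (emb (some b))) +
        ∑ f : Free emb, C D * X f * C (m f.1))
  else C D * X ⟨e, h⟩

variable {emb : Option (Fin n) → E} (hemb : Function.Injective emb) {D : A} {m : E → A}
  {q : Fin n → E → A}

include hemb in
theorem gen_some (b : Fin n) :
    gen emb D m q (emb (some b)) = -∑ f : Free emb, X f * C (q b f.1) := by
  have h : emb (some b) ∈ Set.range emb := ⟨_, rfl⟩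
  rw [gen, dif_pos h]
  split
  · rename_i b' hb'
    have := hemb h.choose_spec
    rw [hb'] at this
    cases this
    rfl
  · rename_i hb'
    have := hemb h.choose_spec
    rw [hb'] at this
    cases this

include hemb in
theorem gen_none : gen emb D m q (emb none) =
    -(∑ b : Fin n, (-∑ f : Free emb, X f * C (q b f.1)) * C (m (emb (some b))) +
      ∑ f : Free emb, C D * X f * C (m f.1)) := by
  have h : emb none ∈ Set.range emb := ⟨_, rfl⟩
  rw [gen, dif_pos h]
  split
  · rename_i b' hb'
    have := hemb h.choose_spec
    rw [hb'] at this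
    cases this
  · rfl

theorem gen_free (f : Free emb) : gen emb D m q f.1 = C D * X f := by
  rw [gen, dif_neg f.2]

include hemb in
theorem sum_split {M : Type*} [AddCommMonoid M] (F : E → M) :
    ∑ e, F e = F (emb none) + (∑ b : Fin n, F (emb (some b))) + ∑ f : Free emb, F f.1 := by
  classical
  rw [← Finset.sum_add_sum_compl (Finset.univ.image emb) F, Finset.sum_image hemb.injOn,
    Fintype.sum_option]
  congr 1
  refine Finset.sum_subtype _ (fun e => ?_) F
  simp

include hemb in
/-- The generic solution solves. -/
theorem gen_solves (hm : m (emb none) = 1) (hq0 : ∀ b, q b (emb none) = 0)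
    (hqd : ∀ b, q b (emb (some b)) = D) (hqo : ∀ b b', b ≠ b' → q b (emb (some b')) = 0)
    (ε : A →ₐ[k] k) (t : Free emb → k) :
    (∑ e, eval₂Hom (ε : A →+* k) t (gen emb D m q e) * ε (m e) = 0) ∧
    ∀ b, ∑ e, eval₂Hom (ε : A →+* k) t (gen emb D m q e) * ε (q b e) = 0 := by
  classical
  refine ⟨?_, fun b => ?_⟩
  · rw [sum_split hemb, gen_none hemb, hm]
    simp only [gen_some hemb, gen_free, map_neg, map_add, map_sum, map_mul, eval₂Hom_C, eval₂Hom_X',
      map_one, mul_one, RingHom.coe_coe]
    ring
  · rw [sum_split hemb, hq0, map_zero, mul_zero, zero_add, Finset.sum_eq_single b, gen_some hemb, hqd]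
    · simp only [gen_free, map_neg, map_sum, map_mul, eval₂Hom_C, eval₂Hom_X', RingHom.coe_coe,
        neg_mul, Finset.sum_mul]
      rw [neg_add_eq_zero]
      exact Finset.sum_congr rfl fun f _ => by ring
    · intro b' _ hb'
      rw [hqo b b' (Ne.symm hb'), map_zero, mul_zero]
    · simp

include hemb in
/-- Every solution over a point with `D ≠ 0` is obtained. -/
theorem exists_param (hm : m (emb none) = 1) (hq0 : ∀ b, q b (emb none) = 0)
    (hqd : ∀ b, q b (emb (some b)) = D) (hqo : ∀ b b', b ≠ b' → q b (emb (some b')) = 0)
    (ε : A →ₐ[k] k) (hD : ε D ≠ 0) (c : E → k) (h0 : ∑ e, c e * ε (m e) = 0)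
    (h1 : ∀ b, ∑ e, c e * ε (q b e) = 0) :
    ∃ t : Free emb → k, ∀ e, eval₂Hom (ε : A →+* k) t (gen emb D m q e) = c e := by
  classical
  refine ⟨fun f => c f.1 / ε D, fun e => ?_⟩
  have hfree : ∀ f : Free emb,
      eval₂Hom (ε : A →+* k) (fun f => c f.1 / ε D) (gen emb D m q f.1) = c f.1 := fun f => by
    rw [gen_free, map_mul, eval₂Hom_C, eval₂Hom_X', RingHom.coe_coe, mul_div_cancel₀ _ hD]
  have hsome : ∀ b, eval₂Hom (ε : A →+* k) (fun f => c f.1 / ε D) (gen emb D m q (emb (some b))) =
      c (emb (some b)) := fun b => by
    have h := h1 b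
    rw [sum_split hemb, hq0, map_zero, mul_zero, zero_add, Finset.sum_eq_single b, hqd] at h
    · apply mul_right_cancel₀ hD
      rw [eq_neg_of_add_eq_zero_left h]
      simp only [gen_some hemb, map_neg, map_sum, map_mul, eval₂Hom_C, eval₂Hom_X', RingHom.coe_coe,
        neg_mul, Finset.sum_mul]
      refine congrArg Neg.neg (Finset.sum_congr rfl fun f _ => ?_)
      field_simp
    · intro b' _ hb'
      rw [hqo b b' (Ne.symm hb'), map_zero, mul_zero]
    · simp
  by_cases he : e ∈ Set.range emb
  · obtain ⟨o, rfl⟩ := he
    cases o with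
    | some b => exact hsome b
    | none =>
      have h := (gen_solves hemb hm hq0 hqd hqo ε (fun f => c f.1 / ε D)).1
      rw [sum_split hemb, hm, map_one, mul_one] at h h0
      simp only [hsome, hfree] at h
      linear_combination h - h0
  · exact hfree ⟨e, he⟩

/-- Too few parameters: the solutions are not dense. -/
theorem exists_relation [IsDomain A] (hA : Algebra.trdeg k A = (n : Cardinal))
    (hemb : Function.Injective emb) (D : A) (m : E → A) (q : Fin n → E → A) :
    ∃ g : MvPolynomial E k, g ≠ 0 ∧ aeval (gen emb D m q) g = 0 := by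
  classical
  by_contra hcon
  push Not at hcon
  have hind : AlgebraicIndependent k (gen emb D m q) := by
    rw [algebraicIndependent_iff]
    intro p hp
    by_contra h
    exact hcon p h hp
  have h := hind.lift_cardinalMk_le_trdeg
  have : FaithfulSMul A (MvPolynomial (Free emb) A) :=
    (faithfulSMul_iff_algebraMap_injective _ _).mpr (C_injective _ _)
  rw [← trdeg_add_eq k A (A := MvPolynomial (Free emb) A), hA, MvPolynomial.trdeg_of_isDomain] at h
  simp only [Cardinal.mk_fintype, Cardinal.lift_natCast, Cardinal.lift_add] at h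
  have h' : Fintype.card E ≤ n + Fintype.card (Free emb) := by exact_mod_cast h
  have hsum : Fintype.card E = (n + 1) + Fintype.card (Free emb) := by
    have h2 := Nat.card_congr (Equiv.sumCompl (fun e : E => e ∈ Set.range emb)).symm
    rw [Nat.card_sum, ← Nat.card_congr (Equiv.ofInjective emb hemb), Nat.card_eq_fintype_card,
      Nat.card_eq_fintype_card, Fintype.card_option, Fintype.card_fin] at h2
    rw [h2]
    exact congrArg ((n + 1) + ·) Nat.card_eq_fintype_card
  omega

end Groth.Agent.Lib.LefPen45.Param
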