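import Groth.Agent.Lib.LefPen45.Open
import Groth.Agent.Lib.LefPen45.Param
import Groth.Agent.Lib.PolyFun45.Sing
import Groth.Agent.Lib.Kaehler.SmoothDim

/-!
# The dual variety is parametrised by affine pieces

* `exists_piece`: every singular form belongs to one of finitely many pieces;
* `exists_bertini`: the dual variety is contained in a hypersurface;
* `irreducible`: the dual variety is irreducible.
-/

set_option autoImplicit false
set_option backward.isDefEq.respectTransparency.types false
set_option linter.style.haveILetI false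

universe u

open CategoryTheory AlgebraicGeometry MvPolynomial
open LefPen

namespace Groth.Agent.Lib.LefPen45.Piece

open Affine Chart Classical
open Groth.Agent.H83.LineExist (Idx form coeff_form form_coeff)
open Groth.Agent.Lib.PolyFun45

variable {k : Type u} [Field k] {r : ℕ} {X : Scheme.{u}} (i : X ⟶ CohB1.ProjSpace r k) {n d : ℕ}

/-- The combinatorial datum of a piece: a chart, equations and a splitting of the coordinates. -/
structure Data (i : X ⟶ CohB1.ProjSpace r k) (n : ℕ) where
  /-- the chart -/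
  j : Fin (r + 1)
  /-- the number of equations -/
  c : ℕ
  /-- the equations -/
  p : Fin c → MvPolynomial (Fin r) k
  hp : ∀ l, coords k i j (p l) = 0
  /-- the splitting of the coordinates -/
  e : Fin c ⊕ Fin n ≃ Fin r

variable {i}

/-- The Jacobian block. -/
noncomputable def Data.M (P : Data i n) : Matrix (Fin P.c) (Fin P.c) (MvPolynomial (Fin r) k) :=
  Matrix.of fun l l' => pderiv (P.e (Sum.inl l')) (P.p l)

/-- The minor. -/
noncomputable def Data.D (P : Data i n) : MvPolynomial (Fin r) k := P.M.det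

/-- The scaled tangent vectors. -/
noncomputable def Data.tv (P : Data i n) (b : Fin n) (x : Fin r) : MvPolynomial (Fin r) k :=
  Sum.elim (fun l => -∑ l', P.M.adjugate l l' * pderiv (P.e (Sum.inr b)) (P.p l'))
    (fun b' => if b = b' then P.D else 0) (P.e.symm x)

theorem Data.sum_tv (P : Data i n) (b : Fin n) (l : Fin P.c) :
    ∑ x, P.tv b x * pderiv x (P.p l) = 0 := by
  classical
  rw [← P.e.sum_comp, Fintype.sum_sum_type]
  simp only [Data.tv, Equiv.symm_apply_apply, Sum.elim_inl, Sum.elim_inr, ite_mul, zero_mul,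
    Finset.sum_ite_eq, Finset.mem_univ, if_true, neg_mul, Finset.sum_mul, Finset.sum_neg_distrib]
  rw [Finset.sum_comm, neg_add_eq_zero]
  have key : ∀ l', ∑ x, P.M.adjugate x l' * pderiv (P.e (Sum.inr b)) (P.p l') *
      pderiv (P.e (Sum.inl x)) (P.p l) = (P.M * P.M.adjugate) l l' * pderiv (P.e (Sum.inr b)) (P.p l') := by
    intro l'
    rw [Matrix.mul_apply, Finset.sum_mul]
    exact Finset.sum_congr rfl fun x _ => by rw [Data.M, Matrix.of_apply]; ring
  simp only [key, Matrix.mul_adjugate, Matrix.smul_apply, Matrix.one_apply, smul_eq_mul, mul_ite,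
    mul_one, mul_zero, ite_mul, zero_mul, Finset.sum_ite_eq, Finset.mem_univ, if_true, Data.D]

variable [IsClosedImmersion i] [IsAlgClosed k] [hsm : SmoothOfRelativeDimension n (i ≫ CohB1.ProjSpace.toSpec r k)]

/-- The tangent spaces on a piece. -/
theorem Data.tan_spec (P : Data i n) {a : Fin r → k} (ha : a ∈ chartPts k i P.j) (hD : eval a P.D ≠ 0) :
    (∀ b, (fun x => eval a (P.tv b x)) ∈ Tan (RingHom.ker (coords k i P.j)) a) ∧
    ∀ w ∈ Tan (RingHom.ker (coords k i P.j)) a,
      eval a P.D • w = ∑ b, w (P.e (Sum.inr b)) • fun x => eval a (P.tv b x) := by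
  classical
  let R : Fin P.c → Fin r → k := fun l x => eval a (pderiv x (P.p l))
  let K := LinAlg.ker R
  let pr : (Fin r → k) →ₗ[k] (Fin n → k) := LinearMap.funLeft k k fun b => P.e (Sum.inr b)
  have hMdet : (P.M.map (eval a)).det = eval a P.D := (RingHom.map_det (eval a) P.M).symm
  have hinj : ∀ w ∈ K, pr w = 0 → w = 0 := by
    intro w hw h0
    have h1 : Matrix.mulVec (P.M.map (eval a)) (fun l => w (P.e (Sum.inl l))) = 0 := by
      funext l
      have h := hw l
      rw [← P.e.sum_comp, Fintype.sum_sum_type,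
        Finset.sum_eq_zero (s := (Finset.univ : Finset (Fin n))) fun b _ => by
          rw [show w (P.e (Sum.inr b)) = 0 from congrFun h0 b, zero_mul], add_zero] at h
      rw [Pi.zero_apply, ← h]
      simp [Matrix.mulVec, dotProduct, Data.M, R, mul_comm]
    have h2 := Matrix.eq_zero_of_mulVec_eq_zero (by rw [hMdet]; exact hD) h1
    funext x
    obtain ⟨y, rfl⟩ := P.e.surjective x
    rcases y with l | b
    · exact congrFun h2 l
    · exact congrFun h0 b
  have hTK : Tan (RingHom.ker (coords k i P.j)) a ≤ K := fun w hw l => hw _ (P.hp l)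
  have heq : Tan (RingHom.ker (coords k i P.j)) a = K := by
    refine Submodule.eq_of_le_of_finrank_le hTK ?_
    rw [finrank_tan_chart (n := n) i P.j ha]
    have h : Module.finrank k K ≤ Module.finrank k (Fin n → k) :=
      LinearMap.finrank_le_finrank_of_injective (f := pr.comp K.subtype) (by
        rw [← LinearMap.ker_eq_bot, LinearMap.ker_eq_bot']
        exact fun w hw => Subtype.ext (hinj w.1 w.2 hw))
    simpa using h
  have hmem : ∀ b, (fun x => eval a (P.tv b x)) ∈ K := fun b l => by
    have := congrArg (eval a) (P.sum_tv b l)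
    simpa [map_sum, R] using this
  rw [heq]
  refine ⟨hmem, fun w hw => ?_⟩
  rw [← sub_eq_zero]
  refine hinj _ (Submodule.sub_mem _ (Submodule.smul_mem _ _ hw)
    (Submodule.sum_mem _ fun b _ => Submodule.smul_mem _ _ (hmem b))) ?_
  funext b
  simp [pr, LinearMap.funLeft, Data.tv, Finset.sum_apply, apply_ite (eval a), mul_comm]

/-- The `k`-point of a chart point. -/
theorem exists_point {j : Fin (r + 1)} {a : Fin r → k} (ha : a ∈ chartPts k i j) :
    ∃ ε : Coord k i j →ₐ[k] k, ∀ p, ε (coords k i j p) = eval a p := by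
  let φ : Coord k i j →ₐ[k] k := (Ideal.Quotient.liftₐ (RingHom.ker (coords k i j)) (aeval a)
      fun p hp => by rw [aeval_eq_eval]; exact ha hp).comp
    (Ideal.quotientKerAlgEquivOfSurjective (coords_surjective k i j)).symm.toAlgHom
  refine ⟨φ, fun p => ?_⟩
  simp only [φ, AlgHom.comp_apply]
  rw [show (Ideal.quotientKerAlgEquivOfSurjective (coords_surjective k i j)).symm.toAlgHom
    (coords k i j p) = Ideal.Quotient.mk _ p from (AlgEquiv.symm_apply_eq _).2 rfl]
  rfl

include hsm in
/-- Functions vanishing at all points are zero. -/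
theorem eq_zero_of_points {j : Fin (r + 1)} {τ : Type} (z : MvPolynomial τ (Coord k i j))
    (h : ∀ a ∈ chartPts k i j, ∀ ε : Coord k i j →ₐ[k] k, (∀ p, ε (coords k i j p) = eval a p) →
      ∀ t, eval₂Hom (ε : Coord k i j →+* k) t z = 0) : z = 0 := by
  haveI : Algebra.Smooth k (Coord k i j) := smooth_of_locally n (locally_coord k i (n := n) j)
  haveI : _root_.IsReduced (Coord k i j) := JacCrit.Minimal.isReduced_of_smooth k
  ext e
  rw [coeff_zero]
  obtain ⟨p, hp⟩ := coords_surjective k i j (coeff e z)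
  rw [← hp]
  have hrad : p ∈ (RingHom.ker (coords k i j)).radical := by
    rw [← vanishingIdeal_zeroLocus_eq_radical (K := k)]
    intro a ha
    rw [aeval_eq_eval]
    have haC : a ∈ chartPts k i j := fun q hq => by
      rw [RingHom.mem_ker, ← aeval_eq_eval]
      exact ha q hq
    obtain ⟨ε, hε⟩ := exists_point haC
    have hz : MvPolynomial.map (ε : Coord k i j →+* k) z = 0 := MvPolynomial.funext fun t => by
      rw [map_zero, eval_map, ← coe_eval₂Hom]
      exact h a haC ε hε t
    have h1 := congrArg (coeff e) hz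
    rw [coeff_map, coeff_zero, ← hp] at h1
    exact (hε p).symm.trans h1
  obtain ⟨N, hN⟩ := hrad
  exact IsReduced.eq_zero _ ⟨N, by rw [← map_pow]; exact hN⟩

/-- The monomials on a chart. -/
noncomputable def mono (d : ℕ) (j : Fin (r + 1)) (x : Idx r d) : MvPolynomial (Fin r) k :=
  dehomJ k j (monomial x.1 1)

/-- The pivots. -/
noncomputable def Data.emb (P : Data i n) (hd : 1 ≤ d) : Option (Fin n) → Idx r d :=
  fun o => o.elim (Sing.pureIdx P.j) fun b => Sing.mixIdx hd P.j (P.j.succAbove (P.e (Sum.inr b)))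

theorem mono_pure (j : Fin (r + 1)) : mono (k := k) d j (Sing.pureIdx j) = 1 := by
  rw [mono, Sing.pureIdx, ← X_pow_eq_monomial]
  simp [dehomJ]

theorem mono_mix (hd : 1 ≤ d) (j : Fin (r + 1)) (x : Fin r) :
    mono (k := k) d j (Sing.mixIdx hd j (j.succAbove x)) = MvPolynomial.X x := by
  rw [mono, Sing.mixIdx, ← mul_one (1 : k), ← monomial_mul, ← X_pow_eq_monomial]
  simp [dehomJ, ← X_pow_eq_monomial]

/-- The differential of a monomial along the scaled tangent vectors. -/
noncomputable def Data.dmono (P : Data i n) (b : Fin n) (x : Idx r d) : MvPolynomial (Fin r) k :=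
  ∑ y, P.tv b y * pderiv y (mono d P.j x)

theorem Data.emb_injective (P : Data i n) (hd : 1 ≤ d) : Function.Injective (P.emb hd) := by
  intro o o' h
  have h1 := congrArg (mono (k := k) d P.j) h
  cases o <;> cases o' <;> simp only [Data.emb, Option.elim, mono_pure, mono_mix] at h1
  · rfl
  · exact absurd (congrArg constantCoeff h1) (by simp)
  · exact absurd (congrArg constantCoeff h1) (by simp)
  · simpa using P.e.injective ((X_injective (R := k)) h1)

theorem Data.dmono_none (P : Data i n) (hd : 1 ≤ d) (b : Fin n) : P.dmono b (P.emb hd none) = 0 := by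
  simp [Data.dmono, Data.emb, mono_pure]

theorem Data.dmono_some (P : Data i n) (hd : 1 ≤ d) (b b' : Fin n) :
    P.dmono b (P.emb hd (some b')) = if b = b' then P.D else 0 := by
  classical
  rw [Data.dmono, Data.emb, Option.elim, mono_mix, Finset.sum_eq_single (P.e (Sum.inr b'))]
  · simp [Data.tv]
  · intro y _ hy
    rw [pderiv_X_of_ne (Ne.symm hy), mul_zero]
  · simp

/-- The parametrisation of the dual variety on a piece. -/
noncomputable def Data.θ (P : Data i n) (hd : 1 ≤ d) :
    MvPolynomial (Idx r d) k →ₐ[k] MvPolynomial (Param.Free (P.emb hd)) (Coord k i P.j) :=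
  aeval (Param.gen (P.emb hd) (coords k i P.j P.D) (fun x => coords k i P.j (mono d P.j x))
    fun b x => coords k i P.j (P.dmono b x))

theorem eval_dehomJ_form (j : Fin (r + 1)) (a : Fin r → k) (c : Idx r d → k) :
    eval a (dehomJ k j (form c)) = ∑ x, c x * eval a (mono d j x) := by
  simp only [form, map_sum, mono]
  refine Finset.sum_congr rfl fun x _ => ?_
  rw [show monomial x.1 (c x) = C (c x) * monomial x.1 1 by rw [C_mul_monomial, mul_one]]
  simp [dehomJ]

theorem dd_dehomJ_form (j : Fin (r + 1)) (a w : Fin r → k) (c : Idx r d → k) :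
    dd a w (dehomJ k j (form c)) = ∑ x, c x * dd a w (mono d j x) := by
  simp only [form, map_sum, mono, dd, Finset.mul_sum]
  rw [Finset.sum_comm]
  refine Finset.sum_congr rfl fun x _ => Finset.sum_congr rfl fun y _ => ?_
  rw [show monomial x.1 (c x) = C (c x) * monomial x.1 1 by rw [C_mul_monomial, mul_one]]
  simp [dehomJ, pderiv_mul]
  ring

/-- Singular at a point of a piece. -/
theorem Data.badAt_iff (P : Data i n) {a : Fin r → k} (ha : a ∈ chartPts k i P.j) (hD : eval a P.D ≠ 0)
    (H : Form r k d) :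
    BadAt i H (P.j.insertNth (1 : k) a) ↔
      (∑ x, Forms.coef H x * eval a (mono d P.j x) = 0) ∧
        ∀ b, ∑ x, Forms.coef H x * eval a (P.dmono b x) = 0 := by
  have e : ∀ b x, eval a (P.dmono (d := d) b x) = dd a (fun y => eval a (P.tv b y)) (mono d P.j x) :=
    fun b x => by simp [Data.dmono, dd, map_sum]
  simp only [badAt_chart i H P.j ha, e, ← eval_dehomJ_form, ← dd_dehomJ_form, Forms.form_coef]
  obtain ⟨h1, h2⟩ := P.tan_spec ha hD
  refine and_congr_right fun _ => ⟨fun h b => h _ (h1 b), fun h w hw => ?_⟩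
  have hs : dd a (eval a P.D • w) (dehomJ k P.j H.1) = 0 := by
    rw [h2 w hw]
    simp only [dd, Finset.sum_apply, Pi.smul_apply, smul_eq_mul, Finset.sum_mul]
    rw [Finset.sum_comm]
    refine Finset.sum_eq_zero fun b _ => ?_
    have := h b
    simp only [dd] at this
    simp only [mul_assoc, ← Finset.mul_sum, this, mul_zero]
  rw [dd_smul_right] at hs
  exact (mul_eq_zero.1 hs).resolve_left hD

/-- Points of the parametrisation are singular forms. -/
theorem Data.image_bad (P : Data i n) (hn : 1 ≤ n) (hd : 1 ≤ d) {a : Fin r → k}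
    (ha : a ∈ chartPts k i P.j) (hD : eval a P.D ≠ 0) (ε : Coord k i P.j →ₐ[k] k)
    (hε : ∀ p, ε (coords k i P.j p) = eval a p) (t : Param.Free (P.emb hd) → k) :
    ∃ H : Form r k d, ¬ Transversal k n 1 (secToSpec i ({H} : Set (Form r k d))) ∧
      BadAt i H (P.j.insertNth (1 : k) a) ∧
      ∀ p, eval (Forms.coef H) p = eval₂Hom (ε : Coord k i P.j →+* k) t (P.θ hd p) := by
  let g := Param.gen (P.emb hd) (coords k i P.j P.D) (fun x => coords k i P.j (mono d P.j x))
    fun b x => coords k i P.j (P.dmono b x)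
  let c : Idx r d → k := fun x => eval₂Hom (ε : Coord k i P.j →+* k) t (g x)
  let H : Form r k d := Forms.coef.symm c
  have hc : Forms.coef H = c := LinearEquiv.apply_symm_apply _ _
  have hsol := Param.gen_solves (P.emb_injective hd)
    (D := coords k i P.j P.D) (m := fun x => coords k i P.j (mono d P.j x))
    (q := fun b x => coords k i P.j (P.dmono b x))
    (by simp [Data.emb, mono_pure]) (fun b => by rw [P.dmono_none hd, map_zero])
    (fun b => by rw [P.dmono_some hd, if_pos rfl]) (fun b b' hb => by rw [P.dmono_some hd, if_neg hb, map_zero]) ε t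
  have hbad : BadAt i H (P.j.insertNth (1 : k) a) := (P.badAt_iff ha hD H).2 (by
    rw [hc]
    simp only [hε] at hsol
    exact hsol)
  refine ⟨H, fun htr => ?_, hbad, fun p => ?_⟩
  · exact (transversal_iff_cone i hn H).1 htr _
      (fun hz => by simpa using congrFun hz P.j) ((mem_chartPts i P.j a).1 ha) hbad
  · rw [hc]
    induction p using MvPolynomial.induction_on with
    | C z =>
      rw [eval_C, ← MvPolynomial.algebraMap_eq, AlgHom.commutes, MvPolynomial.algebraMap_apply,
        eval₂Hom_C, RingHom.coe_coe, AlgHom.commutes]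
      rfl
    | add p q hp hq => simp only [map_add, hp, hq]
    | mul_X p x hp => simp only [map_mul, hp, eval_X, Data.θ, aeval_X, c, g]

/-- A singular form at a point of a piece is in the image of the parametrisation. -/
theorem Data.eval_eq_zero (P : Data i n) (hd : 1 ≤ d) {a : Fin r → k}
    (ha : a ∈ chartPts k i P.j) (hD : eval a P.D ≠ 0) (H : Form r k d)
    (hH : BadAt i H (P.j.insertNth (1 : k) a)) {p : MvPolynomial (Idx r d) k} (hp : P.θ hd p = 0) :
    eval (Forms.coef H) p = 0 := by
  obtain ⟨ε, hε⟩ := exists_point ha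
  obtain ⟨h0, h1⟩ := (P.badAt_iff ha hD H).1 hH
  obtain ⟨t, ht⟩ := Param.exists_param (P.emb_injective hd)
    (D := coords k i P.j P.D) (m := fun x => coords k i P.j (mono d P.j x))
    (q := fun b x => coords k i P.j (P.dmono b x))
    (by simp [Data.emb, mono_pure]) (fun b => by rw [P.dmono_none hd, map_zero])
    (fun b => by rw [P.dmono_some hd, if_pos rfl]) (fun b b' hb => by rw [P.dmono_some hd, if_neg hb, map_zero]) ε
    (by rw [hε]; exact hD) (Forms.coef H) (by simpa only [hε] using h0) (by simpa only [hε] using h1)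
  have key : ∀ q, eval (Forms.coef H) q = eval₂Hom (ε : Coord k i P.j →+* k) t (P.θ hd q) := by
    intro q
    induction q using MvPolynomial.induction_on with
    | C z =>
      rw [eval_C, ← MvPolynomial.algebraMap_eq, AlgHom.commutes, MvPolynomial.algebraMap_apply,
        eval₂Hom_C, RingHom.coe_coe, AlgHom.commutes]
      rfl
    | add p q hp hq => simp only [map_add, hp, hq]
    | mul_X p x hp => simp only [map_mul, hp, eval_X, Data.θ, aeval_X, ht]
  rw [key, hp, map_zero]

variable (i) in
/-- The pieces cover the cone. -/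
theorem exists_cover : ∃ (ι : Type) (_ : Fintype ι) (P : ι → Data i n),
    ∀ j, ∀ a ∈ chartPts k i j, ∃ x, ∃ h : (P x).j = j, eval a (P x).D ≠ 0 := by
  classical
  obtain ⟨m, F, e, hFg, hFh, hFspan⟩ := Open.exists_fin_gens i
  let c := r - n
  refine ⟨Fin (r + 1) × (Fin c → Fin m) × (Fin c ⊕ Fin n ≃ Fin r), inferInstance, fun x =>
    { j := x.1, c := c, p := fun l => dehomJ k x.1 (F (x.2.1 l)), hp := fun l => ?_, e := x.2.2 },
    fun j a ha => ?_⟩
  · obtain ⟨_, -, h⟩ := hFg (x.2.1 l)
    exact h x.1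
  let R : Fin m → Fin r → k := fun l y => eval a (pderiv y (dehomJ k j (F l)))
  have hker : LinAlg.ker R = Tan (RingHom.ker (coords k i j)) a := by
    refine le_antisymm (fun w hw p hp => ?_) fun w hw l => hw _ (by
      obtain ⟨_, -, h⟩ := hFg l
      exact h j)
    obtain ⟨G, hG, rfl⟩ := exists_gens_of_ker i j hp
    have hG' : dehomJ k j G ∈ Ideal.span (Set.range fun l => dehomJ k j (F l)) := by
      have := Ideal.mem_map_of_mem (dehomJ k j) (hFspan hG)
      rw [Ideal.map_span, ← Set.range_comp] at this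
      exact this
    exact (zero_and_dd_of_span (S := Set.range fun l => dehomJ k j (F l)) (by
      rintro _ ⟨l, rfl⟩
      rw [eval_dehomJ]
      exact (mem_chartPts i j a).1 ha _ (hFg l)) (by rintro _ ⟨l, rfl⟩; exact hw l) hG').2
  have hrn := LinAlg.finrank_ker R
  rw [hker, finrank_tan_chart (n := n) i j ha, Fintype.card_fin] at hrn
  obtain ⟨f, g, hg, hdet⟩ := LinAlg.exists_rows_minor R (c := c) (by omega)
  have hcard : Fintype.card {y : Fin r // y ∉ Set.range g} = Fintype.card (Fin n) := by
    have h2 := Nat.card_congr (Equiv.sumCompl (fun y : Fin r => y ∈ Set.range g)).symm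
    rw [Nat.card_sum, ← Nat.card_congr (Equiv.ofInjective g hg), Nat.card_fin, Nat.card_fin] at h2
    rw [Fintype.card_fin, ← Nat.card_eq_fintype_card]
    omega
  let ee : Fin c ⊕ Fin n ≃ Fin r :=
    ((Equiv.ofInjective g hg).sumCongr (Fintype.equivOfCardEq hcard).symm).trans
      (Equiv.sumCompl fun y : Fin r => y ∈ Set.range g)
  refine ⟨(j, f, ee), rfl, ?_⟩
  rw [Data.D, RingHom.map_det]
  convert hdet using 2
  funext l l'
  simp [Data.M, R, ee]

theorem exists_bad_point (hn : 1 ≤ n) {H : Form r k d}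
    (hH : ¬ Transversal k n 1 (secToSpec i ({H} : Set (Form r k d)))) :
    ∃ j, ∃ a ∈ chartPts k i j, BadAt i H (j.insertNth (1 : k) a) := by
  rw [transversal_iff_cone i hn H] at hH
  push Not at hH
  obtain ⟨v, hv, hvC, hb⟩ := hH
  obtain ⟨j, hj⟩ := Function.ne_iff.1 hv
  obtain ⟨a, ha⟩ := exists_insertNth j hj
  exact ⟨j, a, (mem_chartPts i j a).2 (ha ▸ smul_mem_Cone i hvC _), ha ▸ badAt_smul i H (inv_ne_zero hj) hb⟩

theorem nontrivial_coord {j : Fin (r + 1)} {a : Fin r → k} (ha : a ∈ chartPts k i j) :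
    Nontrivial (Coord k i j) := by
  obtain ⟨ε, -⟩ := exists_point ha
  exact (ε : Coord k i j →+* k).domain_nontrivial

theorem trdeg_coord [IrreducibleSpace X] (j : Fin (r + 1)) [Nontrivial (Coord k i j)] :
    Algebra.trdeg k (Coord k i j) = (n : Cardinal) := by
  haveI := isDomain_coord (n := n) i j
  obtain ⟨S, hS, hloc⟩ := locally_coord k i (n := n) j
  obtain ⟨g, hgS, hg⟩ : ∃ g ∈ S, g ≠ 0 := by
    by_contra hc
    push Not at hc
    have : Ideal.span S ≤ ⊥ := Ideal.span_le.2 fun g hg => hc g hg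
    rw [hS] at this
    exact top_ne_bot (le_bot_iff.1 this)
  let Ag := Localization.Away g
  have hle : Submonoid.powers g ≤ nonZeroDivisors (Coord k i j) :=
    powers_le_nonZeroDivisors_of_noZeroDivisors hg
  haveI : IsDomain Ag := IsLocalization.isDomain_localization hle
  have h := hloc g hgS
  beta_reduce at h
  rw [show (algebraMap (Coord k i j) Ag).comp (algebraMap k (Coord k i j)) = algebraMap k Ag from
    (IsScalarTower.algebraMap_eq k (Coord k i j) Ag).symm,
    RingHom.isStandardSmoothOfRelativeDimension_algebraMap] at h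
  haveI : Algebra.IsStandardSmoothOfRelativeDimension n k Ag := h
  haveI := Algebra.IsStandardSmoothOfRelativeDimension.isStandardSmooth (R := k) (S := Ag) n
  haveI : Algebra.FiniteType k Ag := inferInstance
  have h1 : Algebra.trdeg k Ag = (n : Cardinal) := by
    rw [Lib.Dim.Basic.trdeg_eq_trdegNat, ← Lib.Dim.Basic.dimQ_bot,
      Kaehler.SmoothDim.dimQ_of_minimal (n := n) k (q := (⊥ : Ideal Ag))]
    rw [IsDomain.minimalPrimes_eq_singleton_bot]
    rfl
  haveI : FaithfulSMul (Coord k i j) Ag :=
    (faithfulSMul_iff_algebraMap_injective _ _).mpr (IsLocalization.injective Ag hle)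
  haveI : Algebra.IsAlgebraic (Coord k i j) Ag := IsLocalization.isAlgebraic _ (Submonoid.powers g)
  have h2 := trdeg_add_eq k (Coord k i j) (A := Ag)
  rw [trdeg_eq_zero (R := Coord k i j), add_zero] at h2
  rw [h2, h1]

/-- The dual variety lies in a hypersurface. -/
theorem exists_bertini [IrreducibleSpace X] (hn : 1 ≤ n) (hd : 1 ≤ d) :
    ∃ g : MvPolynomial (Idx r d) k, g ≠ 0 ∧ ∀ H : Form r k d,
      ¬ Transversal k n 1 (secToSpec i ({H} : Set (Form r k d))) → eval (Forms.coef H) g = 0 := by
  classical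
  obtain ⟨ι, _, P, hP⟩ := exists_cover (n := n) i
  have hg : ∀ x, ∃ g : MvPolynomial (Idx r d) k, g ≠ 0 ∧
      ((∃ a ∈ chartPts k i (P x).j, eval a (P x).D ≠ 0) → (P x).θ hd g = 0) := by
    intro x
    by_cases hne : ∃ a ∈ chartPts k i (P x).j, eval a (P x).D ≠ 0
    · obtain ⟨a, ha, -⟩ := id hne
      haveI := nontrivial_coord ha
      haveI := isDomain_coord (n := n) i (P x).j
      obtain ⟨g, hg0, hgz⟩ := Param.exists_relation (trdeg_coord (n := n) (i := i) (P x).j) ((P x).emb_injective hd)
        (coords k i (P x).j (P x).D) (fun y => coords k i (P x).j (mono d (P x).j y))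
        fun b y => coords k i (P x).j ((P x).dmono b y)
      exact ⟨g, hg0, fun _ => hgz⟩
    · exact ⟨1, one_ne_zero, fun h => absurd h hne⟩
  choose g hg0 hgz using hg
  refine ⟨∏ x, g x, Finset.prod_ne_zero_iff.2 fun x _ => hg0 x, fun H hH => ?_⟩
  obtain ⟨j, a, ha, hb⟩ := exists_bad_point hn hH
  obtain ⟨x, hj, hD⟩ := hP j a ha
  subst hj
  rw [map_prod]
  exact Finset.prod_eq_zero (Finset.mem_univ x) ((P x).eval_eq_zero hd ha hD H hb (hgz x ⟨a, ha, hD⟩))

include hsm in
theorem coords_X_ne_zero [IrreducibleSpace X] {j j' : Fin (r + 1)} [Nontrivial (Coord k i j)]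
    [Nontrivial (Coord k i j')] : coords k i j' (dehomJ k j' (MvPolynomial.X j)) ≠ 0 := by
  haveI := isReduced_scheme (n := n) i
  haveI := isIntegral_of_irreducibleSpace_of_isReduced X
  let U : Fin (r + 1) → X.Opens := fun l => i ⁻¹ᵁ chart r k l
  have hne : ∀ l, Nontrivial (Coord k i l) → (U l : Set X).Nonempty := by
    intro l hl
    by_contra hne
    rw [Set.not_nonempty_iff_eq_empty] at hne
    have hbot : (i ⁻¹ᵁ chart r k l : X.Opens) = ⊥ := SetLike.ext' hne
    have : Subsingleton (Coord k i l) := by rw [Coord, hbot]; infer_instance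
    exact not_subsingleton (Coord k i l) this
  have hmeet : ((U j' ⊓ U j : X.Opens) : Set X).Nonempty :=
    nonempty_preirreducible_inter (U j').isOpen (U j).isOpen (hne j' ‹_›) (hne j ‹_›)
  haveI : Nonempty (U j' ⊓ U j : X.Opens) := ⟨⟨_, hmeet.some_mem⟩⟩
  haveI : IsDomain Γ(X, i ⁻¹ᵁ (chart r k j' ⊓ chart r k j)) :=
    @IsIntegral.component_integral X _ (U j' ⊓ U j) ‹_›
  intro h0
  have e := HypSheaf.dehom_res (⟨MvPolynomial.X j', X_mem r k j'⟩ : Form r k 1) j j'
    (chart r k j' ⊓ chart r k j) inf_le_right inf_le_left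
  have e2 := congrArg (i.app (chart r k j' ⊓ chart r k j)).hom e
  rw [map_mul] at e2
  have hnat : ∀ (z : Γ(CohB1.ProjSpace r k, chart r k j')),
      (i.app (chart r k j' ⊓ chart r k j)).hom ((CohB1.ProjSpace r k).presheaf.map
        (homOfLE (inf_le_left : chart r k j' ⊓ chart r k j ≤ chart r k j')).op z) =
      X.presheaf.map ((TopologicalSpace.Opens.map i.base).map
        (homOfLE (inf_le_left : chart r k j' ⊓ chart r k j ≤ chart r k j'))).op
        ((i.app (chart r k j')).hom z) := fun z =>
    congrArg (fun φ : Γ(CohB1.ProjSpace r k, chart r k j') ⟶ Γ(X, i ⁻¹ᵁ (chart r k j' ⊓ chart r k j)) =>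
      φ.hom z) (i.naturality (homOfLE (inf_le_left : chart r k j' ⊓ chart r k j ≤ chart r k j')).op)
  rw [hnat, hnat] at e2
  have hone : (i.app (chart r k j')).hom (dehom (⟨MvPolynomial.X j', X_mem r k j'⟩ : Form r k 1) j') = 1 := by
    rw [← coords_dehomJ]
    simp [dehomJ]
  have hzero : (i.app (chart r k j')).hom ((Proj.awayToSection (CohB1.polyGrading r k) (MvPolynomial.X j'))
      (HomogeneousLocalization.Away.mk (CohB1.polyGrading r k) (X_mem r k j') 1
        (MvPolynomial.X j ^ 1) (SetLike.pow_mem_graded 1 (X_mem r k j)))) = 0 := by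
    rw [← chartEquiv_dehomJ_eq_mk k j' (SetLike.pow_mem_graded 1 (X_mem r k j)), pow_one]
    exact h0
  rw [hone, hzero, map_zero, map_one, zero_mul] at e2
  exact one_ne_zero e2

include hsm in
/-- A homogeneous element nonzero on one chart is nonzero on every chart. -/
theorem coords_ne_zero [IrreducibleSpace X] {j j' : Fin (r + 1)} [Nontrivial (Coord k i j)]
    [Nontrivial (Coord k i j')] {e : ℕ} {G : MvPolynomial (Fin (r + 1)) k}
    (hG : G ∈ CohB1.polyGrading r k (e • 1)) (h : coords k i j (dehomJ k j G) ≠ 0) :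
    coords k i j' (dehomJ k j' G) ≠ 0 := by
  intro h0
  haveI := isDomain_coord (n := n) i j
  obtain ⟨N, e', -, hN⟩ := pow_mul_mem_gens i j' hG h0
  have := hN j
  rw [map_mul, map_mul, map_pow, map_pow, mul_eq_zero] at this
  rcases this with h1 | h1
  · exact coords_X_ne_zero (n := n) (eq_zero_of_pow_eq_zero h1)
  · exact h h1

/-- The dual variety is irreducible. -/
theorem irreducible [IrreducibleSpace X] (hn : 1 ≤ n) (hd : 1 ≤ d) (f g : MvPolynomial (Idx r d) k)
    (hfg : ∀ H : Form r k d, ¬ Transversal k n 1 (secToSpec i ({H} : Set (Form r k d))) →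
      eval (Forms.coef H) f * eval (Forms.coef H) g = 0) :
    (∀ H : Form r k d, ¬ Transversal k n 1 (secToSpec i ({H} : Set (Form r k d))) → eval (Forms.coef H) f = 0) ∨
    (∀ H : Form r k d, ¬ Transversal k n 1 (secToSpec i ({H} : Set (Form r k d))) → eval (Forms.coef H) g = 0) := by
  classical
  obtain ⟨ι, _, P, hP⟩ := exists_cover (n := n) i
  have hnz : ∀ (Q : Data i n) a, a ∈ chartPts k i Q.j → eval a Q.D ≠ 0 → coords k i Q.j Q.D ≠ 0 := by
    intro Q a ha hD h0
    exact hD (ha h0)
  -- propagation to every piece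
  have key : ∀ (Q : Data i n) a, a ∈ chartPts k i Q.j → eval a Q.D ≠ 0 →
      ∀ p : MvPolynomial (Idx r d) k, Q.θ hd p = 0 →
      ∀ H : Form r k d, ¬ Transversal k n 1 (secToSpec i ({H} : Set (Form r k d))) → eval (Forms.coef H) p = 0 := by
    intro Q a₀ ha₀ hD₀ p hp H hH
    obtain ⟨j', a', ha', hb⟩ := exists_bad_point hn hH
    obtain ⟨x, hj, hD'⟩ := hP j' a' ha'
    subst hj
    refine (P x).eval_eq_zero hd ha' hD' H hb ?_
    haveI := nontrivial_coord ha₀
    haveI := nontrivial_coord ha'
    haveI := isDomain_coord (n := n) i (P x).j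
    obtain ⟨e, G, hG, hGD⟩ := exists_homog Q.j Q.D
    have hG' : MvPolynomial.X Q.j * G ∈ CohB1.polyGrading r k ((1 + e) • 1) := by
      have := SetLike.mul_mem_graded (X_mem r k Q.j) hG
      simpa using this
    have hs : coords k i (P x).j ((P x).D * dehomJ k (P x).j (MvPolynomial.X Q.j * G)) ≠ 0 := by
      rw [map_mul]
      refine mul_ne_zero (hnz _ a' ha' hD') (coords_ne_zero (n := n) (j := Q.j) hG' ?_)
      rw [map_mul, hGD, show dehomJ k Q.j (MvPolynomial.X Q.j) = 1 by simp [dehomJ], one_mul]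
      exact hnz Q a₀ ha₀ hD₀
    refine (mul_eq_zero.1 ?_).resolve_left (fun hC => hs (C_injective (Param.Free ((P x).emb hd)) _
      (hC.trans (map_zero C).symm)))
    refine eq_zero_of_points (n := n) _ fun a ha ε hε t => ?_
    rw [map_mul, eval₂Hom_C, RingHom.coe_coe, hε, map_mul, eval_dehomJ, map_mul, eval_X]
    by_cases hz : eval a (P x).D = 0
    · rw [hz, zero_mul, zero_mul]
    set v' : Fin (r + 1) → k := (P x).j.insertNth (1 : k) a
    by_cases hz1 : v' Q.j = 0
    · rw [hz1, zero_mul, mul_zero, zero_mul]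
    by_cases hz2 : eval v' G = 0
    · rw [hz2, mul_zero, mul_zero, zero_mul]
    obtain ⟨H', -, hbad', hev⟩ := (P x).image_bad hn hd ha hz ε hε t
    obtain ⟨a1, ha1⟩ := exists_insertNth Q.j hz1
    have hv'C : v' ∈ Cone i := (mem_chartPts i _ a).1 ha
    have ha1C : a1 ∈ chartPts k i Q.j := (mem_chartPts i Q.j a1).2 (ha1 ▸ smul_mem_Cone i hv'C _)
    have hD1 : eval a1 Q.D ≠ 0 := by
      rw [← hGD, eval_dehomJ, ← ha1]
      have := Lib.ProjSpace.Charts.eval₂Hom_mul_of_isHomogeneous (RingHom.id k) (v' Q.j)⁻¹ v'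
        (show G.IsHomogeneous e by simpa using hG)
      simp only [coe_eval₂Hom] at this
      change eval₂ (RingHom.id k) (fun j => (v' Q.j)⁻¹ * v' j) G ≠ 0
      rw [this]
      exact mul_ne_zero (pow_ne_zero _ (inv_ne_zero hz1)) hz2
    rw [← hev, Q.eval_eq_zero hd ha1C hD1 H' (ha1 ▸ badAt_smul i H' (inv_ne_zero hz1) hbad') hp, mul_zero]
  by_cases hb : ∃ H : Form r k d, ¬ Transversal k n 1 (secToSpec i ({H} : Set (Form r k d)))
  swap
  · exact Or.inl fun H hH => absurd ⟨H, hH⟩ hb
  obtain ⟨H, hH⟩ := hb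
  obtain ⟨j, a, ha, -⟩ := exists_bad_point hn hH
  obtain ⟨x, hj, hD⟩ := hP j a ha
  subst hj
  haveI := nontrivial_coord ha
  haveI := isDomain_coord (n := n) i (P x).j
  have hprod : C (coords k i (P x).j (P x).D) * ((P x).θ hd f * (P x).θ hd g) = 0 :=
    eq_zero_of_points (n := n) _ fun a ha ε hε t => by
      rw [map_mul, map_mul, eval₂Hom_C, RingHom.coe_coe, hε]
      by_cases hz : eval a (P x).D = 0
      · rw [hz, zero_mul]
      obtain ⟨H', hH', -, hev⟩ := (P x).image_bad hn hd ha hz ε hε t
      rw [← hev, ← hev, hfg H' hH', mul_zero]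
  have hC : (C (coords k i (P x).j (P x).D) : MvPolynomial (Param.Free ((P x).emb hd)) _) ≠ 0 := fun h =>
    hnz _ a ha hD (C_injective _ _ (h.trans (map_zero C).symm))
  rcases mul_eq_zero.1 ((mul_eq_zero.1 hprod).resolve_left hC) with h | h
  · exact Or.inl (key _ a ha hD f h)
  · exact Or.inr (key _ a ha hD g h)

end Groth.Agent.Lib.LefPen45.Piece
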