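import Groth.Agent.Lib.LefPen45.FiniteLines
import Groth.Agent.H68.BinForms

/-!
# Polars of plane and space cubics
-/

set_option autoImplicit false

universe u

open MvPolynomial

namespace Groth.Agent.Lib.LefPen45.Polar

open FiniteLines

variable {k : Type u} [Field k]

theorem eval_aeval {σ τ : Type*} (v : τ → k) (g : σ → MvPolynomial τ k) (F : MvPolynomial σ k) :
    eval v (aeval g F) = eval (fun i => eval v (g i)) F := by
  induction F using MvPolynomial.induction_on with
  | C a => simp
  | add p q hp hq => simp only [map_add, hp, hq]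
  | mul_X p l h => simp only [map_mul, h, aeval_X, eval_X]

theorem aeval_linear_isHomogeneous {σ τ : Type*} {g : σ → MvPolynomial τ k}
    (hg : ∀ i, (g i).IsHomogeneous 1) {F : MvPolynomial σ k} {m : ℕ} (hF : F.IsHomogeneous m) :
    (aeval g F).IsHomogeneous m := by
  simpa using hF.aeval g hg

variable [CharZero k] {σ : Type*} [Fintype σ]

/-- The expansion of a cubic along the line through `a`. -/
theorem cubic_line (F : MvPolynomial σ k) (hF : F.IsHomogeneous 3) (a x : σ → k) (s : k) :
    eval (fun i => a i * s + x i) F = eval a F * s ^ 3 +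
      (∑ i, x i * eval a (pderiv i F)) * s ^ 2 + (∑ i, a i * eval x (pderiv i F)) * s + eval x F := by
  classical
  have hd : ∀ (u v : σ → k), Polynomial.derivative (ln u v F) = ∑ i, Polynomial.C (u i) * ln u v (pderiv i F) := by
    intro u v
    have h := deriv_aeval Polynomial.derivative'
      (fun i => Polynomial.C (u i) * Polynomial.X + Polynomial.C (v i)) F
    refine h.trans (Finset.sum_congr rfl fun i _ => ?_)
    simp [ln]
    ring
  have h3 := natDegree_ln_le a x hF
  set p := ln a x F with hp
  have c0 : p.coeff 0 = eval x F := by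
    rw [Polynomial.coeff_zero_eq_eval_zero, hp, eval_ln]; simp
  have c1 : p.coeff 1 = ∑ i, a i * eval x (pderiv i F) := by
    have := congrArg (Polynomial.eval 0) (hd a x)
    rw [← Polynomial.coeff_zero_eq_eval_zero, Polynomial.coeff_derivative, Polynomial.eval_finsetSum] at this
    simpa [eval_ln] using this
  -- the reversed polynomial
  set r := ln x a F with hr
  have h3' := natDegree_ln_le x a hF
  have hrev : Polynomial.C (p.coeff 3) + Polynomial.C (p.coeff 2) * Polynomial.X +
      Polynomial.C (p.coeff 1) * Polynomial.X ^ 2 + Polynomial.C (p.coeff 0) * Polynomial.X ^ 3 = r := by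
    refine Polynomial.eq_of_infinite_eval_eq _ _ ((Set.Finite.infinite_compl (Set.finite_singleton (0 : k))).mono ?_)
    intro t ht
    have ht0 : t ≠ 0 := by simpa using ht
    have hsc : eval (fun i => x i * t + a i) F = t ^ 3 * eval (fun i => a i * t⁻¹ + x i) F := by
      have he : ∀ (c : k) (w : σ → k), eval (fun i => c * w i) F = c ^ 3 * eval w F := by
        intro c w
        rw [F.as_sum, map_sum, map_sum, Finset.mul_sum]
        refine Finset.sum_congr rfl fun e he => ?_
        have hw := hF (mem_support_iff.1 he)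
        rw [eval_monomial, eval_monomial, Finsupp.prod, Finsupp.prod, Finset.prod_congr rfl fun i _ => mul_pow _ _ _,
          Finset.prod_mul_distrib, Finset.prod_pow_eq_pow_sum]
        simp [Finsupp.weight_apply, Finsupp.sum] at hw
        rw [hw]; ring
      rw [← he]
      congr 1
      congr 1
      funext i
      field_simp
      ring
    have hsum := Polynomial.eval_eq_sum_range' (p := p) (n := 4) (by omega) t⁻¹
    simp [Finset.sum_range_succ, hp, eval_ln] at hsum
    simp only [Set.mem_setOf_eq, hr, eval_ln, hsc, hsum, Polynomial.eval_add, Polynomial.eval_mul,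
      Polynomial.eval_C, Polynomial.eval_pow, Polynomial.eval_X]
    field_simp
    ring
  have c2 : p.coeff 2 = ∑ i, x i * eval a (pderiv i F) := by
    have := congrArg (Polynomial.eval 0) (hd x a)
    rw [Polynomial.eval_finsetSum, ← hr, ← hrev] at this
    simpa [eval_ln] using this
  have hsum := Polynomial.eval_eq_sum_range' (p := p) (n := 4) (by omega) s
  rw [hp, eval_ln, ← hp] at hsum
  rw [hsum]
  simp [Finset.sum_range_succ, c0, c1, c2, h3.2]
  ring

theorem quad_factor [IsAlgClosed k] {e : MvPolynomial (Fin 2) k} (he : e.IsHomogeneous 2) :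
    ∃ a b c d : k, e = (C a * X 0 + C b * X 1) * (C c * X 0 + C d * X 1) := by
  set p := coeff (H68.BinForms.expo 2 2) e
  set q := coeff (H68.BinForms.expo 2 1) e
  set r := coeff (H68.BinForms.expo 2 0) e
  have he' : e = C p * X 0 ^ 2 + C q * X 0 * X 1 + C r * X 1 ^ 2 := by
    conv_lhs => rw [show e = (((H68.BinForms.coordEquiv k 2).symm
      (H68.BinForms.coordEquiv k 2 ⟨e, (mem_homogeneousSubmodule _ _).2 he⟩)) : MvPolynomial (Fin 2) k) by
      rw [LinearEquiv.symm_apply_apply]]
    show ∑ i : Fin (2 + 1), monomial (H68.BinForms.expo 2 i) (coeff (H68.BinForms.expo 2 i) e) = _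
    have hm : ∀ (i j : ℕ) (c : k),
        monomial (Finsupp.single (0 : Fin 2) i + Finsupp.single 1 j) c = C c * X 0 ^ i * X 1 ^ j := by
      intro i j c
      rw [← mul_one c, ← monomial_mul]
      simp [X_pow_eq_monomial, C_mul_monomial]
    rw [Fin.sum_univ_three]
    simp only [H68.BinForms.expo, hm]
    change C r * X 0 ^ 0 * X 1 ^ 2 + C q * X 0 ^ 1 * X 1 ^ 1 + C p * X 0 ^ 2 * X 1 ^ 0 = _
    ring
  by_cases hp : p = 0
  · exact ⟨0, 1, q, r, by rw [he', hp]; simp; ring⟩
  obtain ⟨t, ht⟩ := IsAlgClosed.exists_root
    (Polynomial.C p * Polynomial.X ^ 2 + Polynomial.C q * Polynomial.X + Polynomial.C r)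
    (by rw [Polynomial.degree_quadratic hp]; decide)
  simp only [Polynomial.IsRoot, Polynomial.eval_add, Polynomial.eval_mul, Polynomial.eval_C,
    Polynomial.eval_pow, Polynomial.eval_X] at ht
  refine ⟨1, -t, p, q + p * t, ?_⟩
  have hr : r = -(p * t ^ 2 + q * t) := by linear_combination ht
  rw [he', hr]
  simp only [map_add, map_mul, map_neg, map_pow, map_one]
  ring

end Groth.Agent.Lib.LefPen45.Polar
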