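import Groth.Agent.Lib.LefPen45.Open
import Groth.Agent.Lib.ProjDim.Graded
import Mathlib.RingTheory.MvPolynomial.IrreducibleQuadratic
import Mathlib.Algebra.Squarefree.Basic

/-!
# Squarefree forms form a nonempty open set
-/

set_option autoImplicit false
set_option linter.style.haveILetI false

universe u

open MvPolynomial

namespace Groth.Agent.Lib.LefPen45.Squarefree

open LefPen
open Groth.Agent.H83.LineExist (Idx form coeff_form form_coeff form_isHomogeneous map_form)
open Groth.Agent.Lib.PolyFun45

variable {k : Type u} [Field k] {n d e : ℕ}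

/-- `F` is no multiple of the square of a nonzero form of degree `e`. -/
def Good (e : ℕ) (F : Form n k d) : Prop :=
  ∀ G : MvPolynomial (Fin (n + 1)) k, G.IsHomogeneous e → G ≠ 0 →
    ∀ H : MvPolynomial (Fin (n + 1)) k, H.IsHomogeneous (d - 2 * e) → G ^ 2 * H ≠ F.1

/-- The matrix coefficient: the `x`-coefficient of `G² X^y`. -/
noncomputable def entry {R : Type*} [CommRing R] {c : ℕ} (G : MvPolynomial (Fin (n + 1)) R)
    (y : Idx n c) (x : Idx n d) : R :=
  coeff x.1 (G ^ 2 * monomial y.1 1)

theorem entry_map {R S : Type*} [CommRing R] [CommRing S] (φ : R →+* S) {c : ℕ}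
    (G : MvPolynomial (Fin (n + 1)) R) (y : Idx n c) (x : Idx n d) :
    φ (entry G y x) = entry (MvPolynomial.map φ G) y x := by
  rw [entry, entry, ← coeff_map, map_mul, map_pow, map_monomial, map_one]

theorem entry_isHomogeneous {R : Type*} [CommRing R] {σ : Type*} {c : ℕ}
    (G : MvPolynomial (Fin (n + 1)) (MvPolynomial σ R)) (hG : ∀ z, (coeff z G).IsHomogeneous 1)
    (y : Idx n c) (x : Idx n d) : (entry G y x).IsHomogeneous 2 := by
  classical
  rw [entry, coeff_mul_monomial', mul_one]
  split_ifs with h
  · rw [sq, coeff_mul]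
    exact IsHomogeneous.sum _ _ _ fun z _ => (hG z.1).mul (hG z.2)
  · exact isHomogeneous_zero _ _ _

theorem coeff_form_X {R : Type*} [CommRing R] {σ : Type*} (v : Idx n e → σ)
    (z : Fin (n + 1) →₀ ℕ) :
    (coeff z (form fun x => (X (v x) : MvPolynomial σ R))).IsHomogeneous 1 := by
  classical
  rw [form, coeff_sum]
  refine IsHomogeneous.sum _ _ _ fun x _ => ?_
  rw [coeff_monomial]
  split_ifs
  · exact isHomogeneous_X _ _
  · exact isHomogeneous_zero _ _ _

theorem sum_smul_entry {c : ℕ} {G : MvPolynomial (Fin (n + 1)) k} (w : Idx n c → k) :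
    (∑ y, w y • fun x : Idx n d => entry G y x) = fun x : Idx n d => coeff x.1 (G ^ 2 * form w) := by
  funext x
  simp only [Finset.sum_apply, Pi.smul_apply, smul_eq_mul, form, Finset.mul_sum, coeff_sum, entry]
  refine Finset.sum_congr rfl fun y _ => ?_
  rw [← smul_eq_mul, ← coeff_smul, ← mul_smul_comm, smul_monomial, smul_eq_mul, mul_one]

/-- `F` lies in the span of the `G² X^y` iff it is a multiple of `G²`. -/
theorem mem_span_iff {G : MvPolynomial (Fin (n + 1)) k} (hG : G.IsHomogeneous e) (he : 2 * e ≤ d)
    (F : Form n k d) :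
    Forms.coef F ∈ Submodule.span k
        (Set.range fun (y : Idx n (d - 2 * e)) (x : Idx n d) => entry G y x) ↔
      ∃ H : MvPolynomial (Fin (n + 1)) k, H.IsHomogeneous (d - 2 * e) ∧ G ^ 2 * H = F.1 := by
  have hh : ∀ H : MvPolynomial (Fin (n + 1)) k, H.IsHomogeneous (d - 2 * e) →
      (G ^ 2 * H).IsHomogeneous d := fun H hH => by
    have := (hG.pow 2).mul hH
    rwa [show e * 2 + (d - 2 * e) = d by omega] at this
  rw [Submodule.mem_span_range_iff_exists_fun]
  constructor
  · rintro ⟨w, hw⟩
    refine ⟨form w, form_isHomogeneous w, ?_⟩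
    rw [sum_smul_entry] at hw
    rw [← Forms.form_coef F, ← hw, form_coeff (hh _ (form_isHomogeneous w))]
  · rintro ⟨H, hH, hHF⟩
    refine ⟨fun y => coeff y.1 H, ?_⟩
    rw [sum_smul_entry, form_coeff hH, hHF]
    rfl

theorem finrank_span {G : MvPolynomial (Fin (n + 1)) k} (hG : G.IsHomogeneous e) (hG0 : G ≠ 0)
    (he : 2 * e ≤ d) :
    Module.finrank k (Submodule.span k
        (Set.range fun (y : Idx n (d - 2 * e)) (x : Idx n d) => entry G y x)) =
      Fintype.card (Idx n (d - 2 * e)) := by
  refine finrank_span_eq_card ?_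
  rw [Fintype.linearIndependent_iff]
  intro w hw y
  rw [sum_smul_entry] at hw
  have hh : (G ^ 2 * form w).IsHomogeneous d := by
    have := (hG.pow 2).mul (form_isHomogeneous w)
    rwa [show e * 2 + (d - 2 * e) = d by omega] at this
  have h0 : G ^ 2 * form w = 0 := by
    rw [← form_coeff hh, hw]
    simp [form]
  rw [← coeff_form w y, (mul_eq_zero.1 h0).resolve_left (pow_ne_zero 2 hG0), coeff_zero]

/-- Having no square factor of degree `e` is an open condition. -/
theorem isZOpen_good [IsAlgClosed k] (he : 2 * e ≤ d) : IsZOpen k {F : Form n k d | Good e F} := by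
  classical
  have hne : Nonempty (Idx n e) := ⟨⟨Finsupp.single 0 e, Finsupp.degree_single 0 e⟩⟩
  obtain ⟨M, hM⟩ : ∃ M, Fintype.card (Idx n e) = M + 1 :=
    Nat.exists_eq_succ_of_ne_zero Fintype.card_ne_zero
  let ε : Idx n e ≃ Fin (M + 1) := Fintype.equivFinOfCardEq hM
  let R := MvPolynomial (Idx n d) k
  let P := MvPolynomial (Fin (M + 1)) R
  let G : MvPolynomial (Fin (n + 1)) P := form fun x => (X (ε x) : P)
  let c := Fintype.card (Idx n (d - 2 * e))
  let J := (Fin c → Idx n (d - 2 * e)) × (Fin (c + 1) → Idx n d)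
  let a : J → ℕ := fun _ => ∑ l : Fin (c + 1), (Fin.cons 0 (fun _ => 2) : Fin (c + 1) → ℕ) l
  let U : J → P := fun fg => (Matrix.of fun l b =>
    (Fin.cons (fun x => C (X x)) (fun l x => entry G (fg.1 l) x) :
      Fin (c + 1) → Idx n d → P) l (fg.2 b)).det
  have hU : ∀ j, (U j).IsHomogeneous (a j) := fun j => by
    refine Open.det_isHomogeneous _ _ fun l b => ?_
    cases l using Fin.cases with
    | zero => simpa using isHomogeneous_C _ _
    | succ l => simpa using entry_isHomogeneous G (coeff_form_X _) _ _
  let sp : Form n k d → P →+* MvPolynomial (Fin (M + 1)) k := fun F =>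
    MvPolynomial.map (eval (Forms.coef F))
  let coefs : Form n k d → (j : J) → Idx M (a j) → k := fun F j x => coeff x.1 (sp F (U j))
  have hform : ∀ F j, form (coefs F j) = sp F (U j) := fun F j => form_coeff ((hU j).map _)
  -- the specialisations
  have hev : ∀ F v (j : J), eval v (sp F (U j)) = (Matrix.of fun l b =>
      (Fin.cons (Forms.coef F) (fun l x => entry (form fun z => v (ε z)) (j.1 l) x) :
        Fin (c + 1) → Idx n d → k) l (j.2 b)).det := by
    intro F v j
    simp only [U, RingHom.map_det, ← RingHom.comp_apply]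
    congr 1
    funext l b
    cases l using Fin.cases with
    | zero =>
      simp [sp]
      erw [MvPolynomial.map_C, eval_C]
      exact eval_X _
    | succ l =>
      simp [entry_map, G, map_form, sp]
      refine congrArg (fun g => entry g (j.1 l) (j.2 b)) (congrArg form (funext fun z => ?_))
      erw [MvPolynomial.map_X, eval_X]
  have hzero : ∀ F : Form n k d,
      Good e F ↔ ∀ v, (∀ j, eval v (form (coefs F j)) = 0) → v = 0 := by
    intro F
    simp only [hform, hev]
    constructor
    · intro h v hv
      by_contra hne'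
      have hG0 : (form fun z : Idx n e => v (ε z)) ≠ 0 := fun h0 => hne' <| funext fun i => by
        have := coeff_form (fun z : Idx n e => v (ε z)) (ε.symm i)
        rw [h0, coeff_zero, Equiv.apply_symm_apply] at this
        exact this.symm
      obtain ⟨H, hH, hHF⟩ := (mem_span_iff (form_isHomogeneous _) he F).1
        ((LinAlg.mem_span_iff_minors _ (finrank_span (form_isHomogeneous _) hG0 he) _).2
          fun f g => hv (f, g))
      exact h _ (form_isHomogeneous _) hG0 H hH hHF
    · intro h G' hG' hG0 H hH hHF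
      let v : Fin (M + 1) → k := fun i => coeff (ε.symm i).1 G'
      have hv : (form fun z : Idx n e => v (ε z)) = G' := by simpa [v] using form_coeff hG'
      refine hG0 ?_
      rw [← hv]
      have h' : v = 0 := h v fun j => by
        rw [hv]
        exact (LinAlg.mem_span_iff_minors _ (finrank_span hG' hG0 he) _).1
          ((mem_span_iff hG' he F).2 ⟨H, hH, hHF⟩) j.1 j.2
      simp [h', form]
  intro F hF
  obtain ⟨N, hN⟩ := Open.exists_null_of_zero (fun j => form (coefs F j)) a
    (fun j => form_isHomogeneous _) ((hzero F).1 hF)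
  obtain ⟨Δ, hΔ, hΔopen⟩ := Crit.exists_open a Fin.elim0 (coefs F) hN
  let δ : R := aeval (fun x : Σ j, Idx M (a j) => coeff x.2.1 (U x.1)) Δ
  have hδ : ∀ F', eval (Forms.coef F') δ = eval (fun x => coefs F' x.1 x.2) Δ := fun F' => by
    rw [Basic.eval_comp]
    refine congrArg (fun f => eval f Δ) (funext fun x => ?_)
    exact (coeff_map _ _ _).symm
  refine ⟨fun F' => eval (Forms.coef F') δ, Basic.isPolyFun_eval Forms.coef δ, ?_, fun F' hF' => ?_⟩
  · simp only [hδ]; exact hΔ
  · simp only [hδ] at hF'
    exact (hzero F').2 fun v hv => Open.eq_zero_of_null _ (hΔopen _ hF') hv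

/-- A form is squarefree iff it is nonzero and has no square factor of positive degree. -/
theorem squarefree_iff (F : Form n k d) :
    Squarefree F.1 ↔ F.1 ≠ 0 ∧ ∀ e ∈ Finset.Icc 1 (d / 2), Good e F := by
  constructor
  · refine fun h => ⟨h.ne_zero, fun e he G hG hG0 H hH hGH => ?_⟩
    have hu := h G ⟨H, by rw [← sq, hGH]⟩
    rw [Finset.mem_Icc] at he
    have := isUnit_iff_totalDegree_of_isReduced.1 hu
    rw [hG.totalDegree hG0] at this
    omega
  · rintro ⟨hF0, h⟩
    rw [squarefree_iff_no_irreducibles hF0]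
    rintro p hp ⟨H, hH⟩
    have hFd : F.1.IsHomogeneous d := (mem_homogeneousSubmodule _ _).1 F.2
    have hp0 := hp.ne_zero
    have hI := ProjDim.Graded.span_isHomogeneous_of_dvd hp hFd hF0 ⟨p * H, by rw [hH, mul_assoc]⟩
    set t := p.totalDegree with ht
    have hph : p.IsHomogeneous t := by
      have hcomp : ∀ j ≠ t, homogeneousComponent j p = 0 := by
        intro j hj
        by_contra hne
        obtain ⟨a, ha⟩ := Ideal.mem_span_singleton.1
          (ProjDim.Graded.component_mem hI (Ideal.mem_span_singleton_self p) j)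
        have hle : j ≤ t := by
          by_contra hlt
          exact hne (homogeneousComponent_eq_zero _ _ (by omega))
        have h1 := (homogeneousComponent_isHomogeneous j p).totalDegree hne
        rw [ha, totalDegree_mul_of_isDomain hp0 (right_ne_zero_of_mul (ha ▸ hne))] at h1
        omega
      rw [show p = homogeneousComponent t p by
        conv_lhs => rw [← sum_homogeneousComponent p]
        exact Finset.sum_eq_single t (fun j _ hj => hcomp j hj)
          fun h => absurd (Finset.mem_range.2 (Nat.lt_succ_self _)) h]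
      exact homogeneousComponent_isHomogeneous t p
    have ht0 : 1 ≤ t := by
      by_contra hlt
      have hpC : p = C (p.coeff 0) := totalDegree_eq_zero_iff_eq_C.1 (by omega)
      refine hp.not_isUnit ?_
      rw [hpC]
      exact (IsUnit.mk0 _ fun e0 => hp0 (by rw [hpC, e0, C_0])).map C
    have hH0 : H ≠ 0 := fun e0 => hF0 (by rw [hH, e0, mul_zero])
    have hd : 2 * t ≤ d := by
      have := congrArg totalDegree hH
      rw [hFd.totalDegree hF0, totalDegree_mul_of_isDomain (mul_ne_zero hp0 hp0) hH0,
        totalDegree_mul_of_isDomain hp0 hp0] at this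
      omega
    refine h t (Finset.mem_Icc.2 ⟨ht0, by omega⟩) p hph hp0 (homogeneousComponent (d - 2 * t) H)
      (homogeneousComponent_isHomogeneous _ _) ?_
    have e1 : homogeneousComponent d F.1 = F.1 := by
      rw [homogeneousComponent_of_mem F.2, if_pos rfl]
    conv_rhs => rw [← e1, hH, ← sum_homogeneousComponent H, Finset.mul_sum, map_sum]
    have e2 : ∀ j, homogeneousComponent d (p * p * homogeneousComponent j H) =
        if j = d - 2 * t then p ^ 2 * homogeneousComponent j H else 0 := fun j => by
      rw [homogeneousComponent_of_mem ((mem_homogeneousSubmodule _ _).2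
        ((hph.mul hph).mul (homogeneousComponent_isHomogeneous j H))), sq]
      exact if_congr (by omega) rfl rfl
    simp only [e2, Finset.sum_ite_eq', Finset.mem_range]
    split_ifs with hlt
    · rfl
    · rw [homogeneousComponent_eq_zero _ _ (by omega), mul_zero]

/-- Squarefree forms are open. -/
theorem isZOpen_squarefree [IsAlgClosed k] : IsZOpen k {F : Form n k d | _root_.Squarefree F.1} := by
  classical
  intro F hF
  obtain ⟨hF0, hgood⟩ := (squarefree_iff F).1 hF
  choose f hf hfF hopen using fun (e : Finset.Icc 1 (d / 2)) =>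
    isZOpen_good (n := n) (k := k) (d := d) (e := e.1)
      (by have := Finset.mem_Icc.1 e.2; omega) F (hgood e.1 e.2)
  obtain ⟨x, hx⟩ : ∃ x, Forms.coef F x ≠ 0 := by
    by_contra h
    push Not at h
    exact hF0 (by rw [← Forms.form_coef F]; simp [form, h])
  refine ⟨(fun F' => eval (Forms.coef F') (X x)) * ∏ e, f e, ?_, ?_, fun F' hF' => ?_⟩
  · exact Subalgebra.mul_mem _ (Basic.isPolyFun_eval Forms.coef (X x))
      (Subalgebra.prod_mem _ fun e _ => hf e)
  · simp only [Pi.mul_apply, eval_X, Finset.prod_apply]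
    exact mul_ne_zero hx (Finset.prod_ne_zero_iff.2 fun e _ => hfF e)
  · simp only [Pi.mul_apply, eval_X, Finset.prod_apply, mul_ne_zero_iff,
      Finset.prod_ne_zero_iff] at hF'
    refine (squarefree_iff F').2 ⟨fun h0 => hF'.1 ?_, fun e he => hopen ⟨e, he⟩ F' (hF'.2 ⟨e, he⟩
      (Finset.mem_univ _))⟩
    have : F' = 0 := Subtype.ext h0
    simp [this]

/-- There are squarefree forms of every degree in at least two variables. -/
theorem exists_squarefree [Infinite k] (hn : 1 ≤ n) (d : ℕ) :
    ∃ F : Form n k d, _root_.Squarefree F.1 := by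
  classical
  obtain ⟨c⟩ : Nonempty (Fin d ↪ k) := ⟨(Fin.valEmbedding).trans (Infinite.natEmbedding k)⟩
  let i₀ : Fin (n + 1) := 0
  let i₁ : Fin (n + 1) := ⟨1, by omega⟩
  have h01 : i₀ ≠ i₁ := by simp [i₀, i₁, Fin.ext_iff]
  let L : Fin d → MvPolynomial (Fin (n + 1)) k := fun j => X i₀ + C (c j) * X i₁
  have hL : ∀ j, (L j).IsHomogeneous 1 := fun j =>
    (isHomogeneous_X _ _).add (isHomogeneous_C_mul_X _ _)
  have hc1 : ∀ j, coeff (Finsupp.single i₀ 1) (L j) = 1 := fun j => by
    simp [L, coeff_X, Finsupp.single_left_inj, h01.symm]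
  have hL0 : ∀ j, L j ≠ 0 := fun j h => by simpa [h] using hc1 j
  have hirr : ∀ j, Irreducible (L j) := fun j =>
    irreducible_of_totalDegree_eq_one ((hL j).totalDegree (hL0 j)) fun x hx =>
      isUnit_of_dvd_one (hc1 j ▸ hx (Finsupp.single i₀ 1))
  refine ⟨⟨∏ j, L j, ?_⟩, ?_⟩
  · rw [mem_homogeneousSubmodule]
    simpa using IsHomogeneous.prod Finset.univ L (fun _ => 1) fun j _ => hL j
  · show _root_.Squarefree (∏ j, L j)
    refine Finset.squarefree_prod_of_pairwise_isCoprime ?_ fun j _ => (hirr j).squarefree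
    intro a _ b _ hab
    refine (hirr a).isRelPrime_iff_not_dvd.2 fun hdvd => hab (c.injective ?_)
    obtain ⟨q, hq⟩ := hdvd
    let v : Fin (n + 1) → k := fun i => if i = i₀ then - c a else if i = i₁ then 1 else 0
    have := congrArg (eval v) hq
    simp [L, v, h01.symm] at this
    exact (neg_add_eq_zero.1 this)

end Groth.Agent.Lib.LefPen45.Squarefree
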