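import Groth.Agent.Lib.LefPen45.TP.Through
import Groth.Agent.Lib.LefPen45.TP.Double
import Groth.Agent.Lib.LefPen45.TP.OnLine

/-!
# T-points of a cubic surface: finiteness
-/

set_option autoImplicit false

universe u

open MvPolynomial

namespace Groth.Agent.Lib.LefPen45.TPoints

open Trilinear

variable {K : Type u} [Field K]

local notation "V" => (Fin 4 → K)

variable [IsAlgClosed K] [CharZero K] {F : MvPolynomial (Fin 4) K}

/-- The lines that carry all T-points. -/
theorem exists_special (hF : Good F) :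
    ∃ 𝓛 : Set (Submodule K V), 𝓛.Finite ∧ (∀ U ∈ 𝓛, IsLn F U) ∧
      ∀ b, TP F b → ∃ U ∈ 𝓛, b ∈ U := by
  by_cases hD : ∃ U : Submodule K V, Module.finrank K U = 2 ∧ ∀ u ∈ U, Sg F u
  · obtain ⟨U, hU, hs⟩ := hD
    obtain ⟨p, q, hp, hq, hpq⟩ := exists_pair hU
    exact finite_special hF hpq fun d hd => hs d (span_eq hU hp hq hpq ▸ hd)
  · push Not at hD
    refine ⟨_, finite_lines_of_no_singular_line hF hD, fun U h => h, fun b hb => ?_⟩
    obtain ⟨U, -, hU, -, hbU, -⟩ := tp_lines hF hb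
    exact ⟨U, hU, hbU⟩

/-- Finitely many T-points lie on the tangent plane at a point that is not a T-point. -/
theorem finite_TP (hF : Good F) {a : V} (ha : ¬ TP F a) (ha0 : a ≠ 0) (hFa : T F a a a = 0)
    (hsm : ∃ y, T F a a y ≠ 0) :
    {W : Submodule K V | Module.finrank K W = 1 ∧ (∀ x ∈ W, T F a a x = 0) ∧
      ∀ b ∈ W, b ≠ 0 → TP F b}.Finite := by
  classical
  obtain ⟨𝓛, hfin, hln, hcov⟩ := exists_special hF
  refine (hfin.biUnion fun U hU => show {W : Submodule K V | Module.finrank K W = 1 ∧ W ≤ U ∧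
    (∀ x ∈ W, T F a a x = 0) ∧ ∀ b ∈ W, b ≠ 0 → TP F b}.Finite from ?_).subset ?_
  · by_cases hUH : ∀ u ∈ U, T F a a u = 0
    · exact (finite_on_line hF ha ha0 hFa hsm (hln U hU) hUH).subset fun W hW => ⟨hW.1, hW.2.1, hW.2.2.2⟩
    · push Not at hUH
      obtain ⟨u, hu, hua⟩ := hUH
      refine (Set.finite_singleton (U ⊓ LinearMap.ker (lin F a a))).subset ?_
      rintro W ⟨hW1, hWU, hWH, -⟩
      refine Submodule.eq_of_le_of_finrank_le (le_inf hWU fun x hx => hWH x hx) ?_
      rw [hW1]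
      have hlt : U ⊓ LinearMap.ker (lin F a a) < U := lt_of_le_of_ne inf_le_left fun e => hua (by
        have : u ∈ U ⊓ LinearMap.ker (lin F a a) := e.symm ▸ hu
        exact this.2)
      have := Submodule.finrank_lt_finrank_of_lt hlt
      rw [(hln U hU).1] at this
      omega
  rintro W ⟨hW1, hWH, hW⟩
  obtain ⟨b, hbW, hb0⟩ := Submodule.exists_mem_ne_zero_of_ne_bot (fun e : W = ⊥ => by rw [e, finrank_bot] at hW1; exact zero_ne_one hW1)
  obtain ⟨U, hU, hbU⟩ := hcov b (hW b hbW hb0)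
  refine Set.mem_iUnion₂.2 ⟨U, hU, hW1, ?_, hWH, hW⟩
  rw [← Submodule.eq_of_le_of_finrank_le ((Submodule.span_singleton_le_iff_mem _ _).2 hbW)
    (by rw [hW1, finrank_span_singleton hb0])]
  exact (Submodule.span_singleton_le_iff_mem _ _).2 hbU

end Groth.Agent.Lib.LefPen45.TPoints
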