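import Groth.Agent.Lib.LefPen45.Polar

/-!
# The symmetric trilinear form of a cubic surface
-/

set_option autoImplicit false

universe u

open MvPolynomial

namespace Groth.Agent.Lib.LefPen45.Trilinear

variable {K : Type u} [Field K]

theorem pderiv_comm' {σ : Type*} (i j : σ) (F : MvPolynomial σ K) :
    pderiv i (pderiv j F) = pderiv j (pderiv i F) := by
  classical
  induction F using MvPolynomial.induction_on with
  | C a => simp
  | add p q hp hq => simp [hp, hq]
  | mul_X p l h => simp [pderiv_X, Pi.single_apply, h, apply_ite (pderiv i), apply_ite (pderiv j)]; ring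

variable [CharZero K]

/-- The coefficients of the trilinear form. -/
noncomputable def co (F : MvPolynomial (Fin 4) K) (i j l : Fin 4) : K :=
  constantCoeff (pderiv l (pderiv j (pderiv i F))) / 6

/-- The trilinear form. -/
noncomputable def T (F : MvPolynomial (Fin 4) K) (u v w : Fin 4 → K) : K :=
  ∑ i, ∑ j, ∑ l, u i * v j * w l * co F i j l

variable {F : MvPolynomial (Fin 4) K}

theorem s12 (u v w : Fin 4 → K) : T F u v w = T F v u w := by
  rw [T, T, Finset.sum_comm]
  refine Finset.sum_congr rfl fun j _ => Finset.sum_congr rfl fun i _ => Finset.sum_congr rfl fun l _ => ?_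
  rw [co, co, pderiv_comm' j i]; ring

theorem s23 (u v w : Fin 4 → K) : T F u v w = T F u w v := by
  rw [T, T]
  refine Finset.sum_congr rfl fun i _ => ?_
  rw [Finset.sum_comm]
  refine Finset.sum_congr rfl fun l _ => Finset.sum_congr rfl fun j _ => ?_
  rw [co, co, pderiv_comm' l j]; ring

theorem s13 (u v w : Fin 4 → K) : T F u v w = T F w v u := by rw [s12, s23, s12]

theorem add1 (u u' v w : Fin 4 → K) : T F (u + u') v w = T F u v w + T F u' v w := by
  simp only [T, Pi.add_apply, add_mul, Finset.sum_add_distrib]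

theorem smul1 (c : K) (u v w : Fin 4 → K) : T F (c • u) v w = c * T F u v w := by
  simp only [T, Pi.smul_apply, smul_eq_mul, Finset.mul_sum]
  exact Finset.sum_congr rfl fun _ _ => Finset.sum_congr rfl fun _ _ =>
    Finset.sum_congr rfl fun _ _ => by ring

theorem add2 (u v v' w : Fin 4 → K) : T F u (v + v') w = T F u v w + T F u v' w := by
  rw [s12, add1, s12 v, s12 v']

theorem smul2 (c : K) (u v w : Fin 4 → K) : T F u (c • v) w = c * T F u v w := by
  rw [s12, smul1, s12 v]

theorem add3 (u v w w' : Fin 4 → K) : T F u v (w + w') = T F u v w + T F u v w' := by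
  rw [s23, add2, s23 u w, s23 u w']

theorem smul3 (c : K) (u v w : Fin 4 → K) : T F u v (c • w) = c * T F u v w := by
  rw [s23, smul2, s23 u w]

theorem zero1 (v w : Fin 4 → K) : T F 0 v w = 0 := by simp [T]

theorem zero3 (u v : Fin 4 → K) : T F u v 0 = 0 := by simp [T]

/-- `T` as a linear map in the last variable. -/
noncomputable def lin (F : MvPolynomial (Fin 4) K) (u v : Fin 4 → K) : (Fin 4 → K) →ₗ[K] K where
  toFun w := T F u v w
  map_add' := add3 u v
  map_smul' c w := smul3 c u v w

@[simp] theorem lin_apply (u v w : Fin 4 → K) : lin F u v w = T F u v w := rfl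

theorem expand_add (a b : Fin 4 → K) (y : Fin 4 → K) :
    T F (a + b) (a + b) y = T F a a y + 2 * T F a b y + T F b b y := by
  rw [add1, add2, add2, s12 b a]; ring

theorem expand_cube (a b : Fin 4 → K) :
    T F (a + b) (a + b) (a + b) =
      T F a a a + 3 * T F a a b + 3 * T F b b a + T F b b b := by
  rw [expand_add, add3, add3, add3, s23 a b a]
  have h : T F a b b = T F b b a := s13 _ _ _
  rw [h]; ring

variable (hF : F.IsHomogeneous 3)
include hF

theorem eval_pderiv_eq (x : Fin 4 → K) (i : Fin 4) :
    eval x (pderiv i F) = 3 * T F x x (Pi.single i 1) := by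
  classical
  have h2 : (pderiv i F).IsHomogeneous 2 := hF.pderiv
  have h1 : ∀ j, (pderiv j (pderiv i F)).IsHomogeneous 1 := fun j => h2.pderiv
  have h0 : ∀ j l, eval x (pderiv l (pderiv j (pderiv i F))) = 6 * co F i j l := fun j l => by
    have h := (h1 j).pderiv (i := l)
    obtain ⟨c, hc⟩ : ∃ c, pderiv l (pderiv j (pderiv i F)) = C c :=
      ⟨_, totalDegree_eq_zero_iff_eq_C.1 (Nat.le_zero.1 h.totalDegree_le)⟩
    rw [co, hc, eval_C, constantCoeff_C]; ring
  have e1 : ∀ j, eval x (pderiv j (pderiv i F)) = ∑ l, x l * (6 * co F i j l) := fun j => by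
    have h := congrArg (eval x) (h1 j).sum_X_mul_pderiv
    rw [map_sum, one_nsmul] at h
    simp only [map_mul, eval_X, h0] at h
    exact h.symm
  have h := congrArg (eval x) h2.sum_X_mul_pderiv
  rw [map_sum, map_nsmul] at h
  simp only [map_mul, eval_X, e1, nsmul_eq_mul, Nat.cast_ofNat] at h
  rw [s13, T, Finset.sum_eq_single i]
  · simp only [Pi.single_eq_same, one_mul, Finset.mul_sum] at h ⊢
    apply mul_left_cancel₀ (show (2 : K) ≠ 0 by norm_num)
    rw [← h, Finset.mul_sum]
    refine Finset.sum_congr rfl fun j _ => ?_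
    rw [Finset.mul_sum]
    exact Finset.sum_congr rfl fun l _ => by ring
  · intro j _ hj; simp [hj]
  · simp

theorem grad_eq (x y : Fin 4 → K) :
    ∑ i, y i * eval x (pderiv i F) = 3 * T F x x y := by
  simp only [eval_pderiv_eq hF]
  calc ∑ i, y i * (3 * T F x x (Pi.single i 1))
      = 3 * lin F x x (∑ i, y i • Pi.single i 1) := by
        rw [map_sum, Finset.mul_sum]
        refine Finset.sum_congr rfl fun i _ => ?_
        rw [map_smul, lin_apply, smul_eq_mul]; ring
    _ = 3 * T F x x y := by
        rw [lin_apply]; congr 2; funext j; simp [Pi.single_apply]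

theorem eval_eq (x : Fin 4 → K) : eval x F = T F x x x := by
  have h := congrArg (eval x) hF.sum_X_mul_pderiv
  rw [map_sum, map_nsmul] at h
  simp only [map_mul, eval_X, grad_eq hF, nsmul_eq_mul, Nat.cast_ofNat] at h
  exact (mul_left_cancel₀ (show (3 : K) ≠ 0 by norm_num) h).symm

theorem singular_iff (x : Fin 4 → K) :
    (∀ i, eval x (pderiv i F) = 0) ↔ ∀ y, T F x x y = 0 := by
  constructor
  · intro h y
    have := grad_eq hF x y
    simpa [h] using this.symm
  · intro h i
    rw [eval_pderiv_eq hF, h, mul_zero]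

end Groth.Agent.Lib.LefPen45.Trilinear
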